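import Cfsg.Agent.H935.J4Max.M22Fin
import Cfsg.Agent.H858.Loc5
import Mathlib
import Cfsg.Agent.H859.ClassEleven
import Cfsg.Agent.H860.JM.Defs
import Cfsg.Agent.Lib.F112
import Cfsg.Agent.H68.JM.Vec_m3
import Cfsg.Agent.H752.JM.Twelve_mg_m3
import Cfsg.Agent.H865.RhoEleven
import Cfsg.Agent.H866.J4Odd
import Cfsg.Agent.StdL2.G23Coset
import Cfsg.Agent.S5570
import Cfsg.Agent.H858.VK
import Cfsg.Agent.J4.ClassesAbs
import Cfsg.Agent.H858.Loc7
import Cfsg.Agent.H856.JM.Comm_m3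
import Cfsg.Agent.H858.Abs
import Cfsg.Agent.H860.PartFiveSeven
import Cfsg.Agent.H188.Der.Ro
import Cfsg.Agent.S5575
import Cfsg.Agent.FastGrp
import Cfsg.Agent.Prune
set_option linter.all false

section
prune_inst 0x7ff4fcfb8ff8bddfffff7e7ffefddffff9fddfffffdff9fbffecfbff2fdf630eabe5fbaf6fe050ff1ed6e09630b87853f97eceffee6bdc7ffffd5ff45ffbee1ff7ffbdac5196bc341ffe6ffffbf17fce7f3fffffffffffffffffffffffffffbeffffffffffff

-- part: H831/JM/Cent
section
prune_inst 0x30100100400000000000001000000060020000000020000010000800008f150000000900c08008020020800400300068131000000210000000000000011c00800020020010000000000000000003100000000000000000000000000000041000000000000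
set_option linter.all false
open scoped Cfsg.Agent.FastGrp

-- part: H831/JM/Tree
section
/-!
# Walking through a group along a spanning tree of a Cayley graph (helper831)
-/

set_option autoImplicit false

namespace Cfsg.Agent.H831.JM.Tree

open Cfsg.Agent.Lib Cfsg.Agent.Lib.F2Mat Cfsg.Agent.Lib.F2MatGroup Cfsg.Agent.J4.Rep112
open Cfsg.Agent.H935.J4Max.Eval Cfsg.Agent.H935.J4Max.ListCl

/-- binary trees: no child, a left child, a right child, both -/
inductive BT : Type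
  | o : BT
  | l : BT → BT
  | r : BT → BT
  | b : BT → BT → BT

/-- the elements visited -/
def visit {G : Type*} [Group G] (a b : G) : BT → G → List G
  | .o, g => [g]
  | .l T, g => g :: visit a b T (g * a)
  | .r T, g => g :: visit a b T (g * b)
  | .b T U, g => g :: (visit a b T (g * a) ++ visit a b U (g * b))

theorem mem_of_visit {G : Type*} [Group G] {a b : G} {H : Subgroup G} (ha : a ∈ H) (hb : b ∈ H) {T : BT} {g : G}
    (hg : g ∈ H) : ∀ x ∈ visit a b T g, x ∈ H := by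
  induction T generalizing g with
  | o =>
    intro x hx
    rw [visit, List.mem_singleton] at hx
    exact hx ▸ hg
  | l T ih =>
    intro x hx
    rw [visit, List.mem_cons] at hx
    rcases hx with rfl | hx
    · exact hg
    · exact ih (H.mul_mem hg ha) x hx
  | r T ih =>
    intro x hx
    rw [visit, List.mem_cons] at hx
    rcases hx with rfl | hx
    · exact hg
    · exact ih (H.mul_mem hg hb) x hx
  | b T U ih1 ih2 =>
    intro x hx
    rw [visit, List.mem_cons, List.mem_append] at hx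
    rcases hx with rfl | hx | hx
    · exact hg
    · exact ih1 (H.mul_mem hg ha) x hx
    · exact ih2 (H.mul_mem hg hb) x hx

/-- the test of all elements -/
noncomputable def allB (A B : ℕ) (test : ℕ → Bool) (T : BT) : ℕ → Bool :=
  BT.rec (motive := fun _ => ℕ → Bool) test
    (fun _ ih M => cond (test M) (force (F2Mat.mul 112 M A) ih) false)
    (fun _ ih M => cond (test M) (force (F2Mat.mul 112 M B) ih) false)
    (fun _ _ ih1 ih2 M => cond (test M) (cond (force (F2Mat.mul 112 M A) ih1) (force (F2Mat.mul 112 M B) ih2) false)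
      false) T

theorem condf {a b : Bool} (h : cond a b false = true) : a = true ∧ b = true := by
  cases a
  · exact absurd h Bool.false_ne_true
  · exact ⟨rfl, h⟩

theorem allB_sound {a b : Cfsg.Spor.J4} {A B : ℕ} (ha : Codes 112 (rho a) A) (hb : Codes 112 (rho b) B)
    {test : ℕ → Bool} {T : BT} {g : Cfsg.Spor.J4} {M : ℕ} (hg : Codes 112 (rho g) M) (h : allB A B test T M = true) :
    ∀ x ∈ visit a b T g, ∃ X, Codes 112 (rho x) X ∧ test X = true := by
  induction T generalizing g M with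
  | o =>
    intro x hx
    rw [visit, List.mem_singleton] at hx
    exact ⟨M, hx ▸ hg, h⟩
  | l T ih =>
    intro x hx
    rw [visit, List.mem_cons] at hx
    obtain ⟨h1, h2⟩ := condf (show cond (test M) (force (F2Mat.mul 112 M A) (allB A B test T)) false = true from h)
    rw [force_eq] at h2
    rcases hx with rfl | hx
    · exact ⟨M, hg, h1⟩
    · exact ih (g := g * a) (by rw [map_mul]; exact hg.mul ha) h2 x hx
  | r T ih =>
    intro x hx
    rw [visit, List.mem_cons] at hx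
    obtain ⟨h1, h2⟩ := condf (show cond (test M) (force (F2Mat.mul 112 M B) (allB A B test T)) false = true from h)
    rw [force_eq] at h2
    rcases hx with rfl | hx
    · exact ⟨M, hg, h1⟩
    · exact ih (g := g * b) (by rw [map_mul]; exact hg.mul hb) h2 x hx
  | b T U ih1 ih2 =>
    intro x hx
    rw [visit, List.mem_cons, List.mem_append] at hx
    obtain ⟨h1, h2⟩ := condf (show cond (test M) (cond (force (F2Mat.mul 112 M A) (allB A B test T))
      (force (F2Mat.mul 112 M B) (allB A B test U)) false) false = true from h)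
    obtain ⟨h3, h4⟩ := condf h2
    rw [force_eq] at h3 h4
    rcases hx with rfl | hx | hx
    · exact ⟨M, hg, h1⟩
    · exact ih1 (g := g * a) (by rw [map_mul]; exact hg.mul ha) h3 x hx
    · exact ih2 (g := g * b) (by rw [map_mul]; exact hg.mul hb) h4 x hx

/-! ### Vectors -/

/-- the list of the vectors `v x`, newest first, before the list `acc` -/
def vl (A B : ℕ) : BT → ℕ → List ℕ → List ℕ
  | .o, v, acc => v :: acc
  | .l T, v, acc => vl A B T (F2Mat.vmul 112 v A) (v :: acc)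
  | .r T, v, acc => vl A B T (F2Mat.vmul 112 v B) (v :: acc)
  | .b T U, v, acc => vl A B U (F2Mat.vmul 112 v B) (vl A B T (F2Mat.vmul 112 v A) (v :: acc))

/-- the same, with a continuation, for the kernel -/
noncomputable def col (A B : ℕ) (T : BT) : ℕ → List ℕ → (List ℕ → Bool) → Bool :=
  BT.rec (motive := fun _ => ℕ → List ℕ → (List ℕ → Bool) → Bool) (fun v acc k => k (v :: acc))
    (fun _ ih v acc k => force (F2Mat.vmul 112 v A) fun v' => ih v' (v :: acc) k)
    (fun _ ih v acc k => force (F2Mat.vmul 112 v B) fun v' => ih v' (v :: acc) k)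
    (fun _ _ ih1 ih2 v acc k => force (F2Mat.vmul 112 v A) fun v' => ih1 v' (v :: acc) fun acc' =>
      force (F2Mat.vmul 112 v B) fun v'' => ih2 v'' acc' k) T

theorem col_eq (A B : ℕ) (T : BT) (v : ℕ) (acc : List ℕ) (k : List ℕ → Bool) :
    col A B T v acc k = k (vl A B T v acc) := by
  induction T generalizing v acc k with
  | o => rfl
  | l T ih =>
    show force (F2Mat.vmul 112 v A) (fun v' => col A B T v' (v :: acc) k) = _
    rw [force_eq, ih]; rfl
  | r T ih =>
    show force (F2Mat.vmul 112 v B) (fun v' => col A B T v' (v :: acc) k) = _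
    rw [force_eq, ih]; rfl
  | b T U ih1 ih2 =>
    show force (F2Mat.vmul 112 v A) (fun v' => col A B T v' (v :: acc) fun acc' =>
      force (F2Mat.vmul 112 v B) fun v'' => col A B U v'' acc' k) = _
    rw [force_eq, ih1, force_eq, ih2]; rfl

/-- the vector of an element -/
noncomputable def vv (v : ℕ) (x : Cfsg.Spor.J4) : Fin 112 → ZMod 2 :=
  Matrix.vecMul (F2Mat.toVec 112 v) ((rho x : GL (Fin 112) (ZMod 2)) : Matrix (Fin 112) (Fin 112) (ZMod 2))

theorem vv_mul {v v' : ℕ} {g a : Cfsg.Spor.J4} (h : F2Mat.toVec 112 v' = vv v g) {A : ℕ} (ha : Codes 112 (rho a) A) :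
    F2Mat.toVec 112 (F2Mat.vmul 112 v' A) = vv v (g * a) := by
  unfold vv at h ⊢
  unfold Codes at ha
  rw [toVec_vmul, h, ← ha, map_mul, Units.val_mul, Matrix.vecMul_vecMul]

theorem vl_eq {a b : Cfsg.Spor.J4} {A B : ℕ} (ha : Codes 112 (rho a) A) (hb : Codes 112 (rho b) B)
    {w : ℕ} {T : BT} {g : Cfsg.Spor.J4} {v : ℕ} (hg : F2Mat.toVec 112 v = vv w g) (acc : List ℕ) :
    (vl A B T v acc).map (F2Mat.toVec 112) =
      ((visit a b T g).map (vv w)).reverse ++ acc.map (F2Mat.toVec 112) := by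
  induction T generalizing g v acc with
  | o => simp [vl, visit, hg]
  | l T ih =>
    rw [vl, visit, ih (vv_mul hg ha)]
    simp [hg]
  | r T ih =>
    rw [vl, visit, ih (vv_mul hg hb)]
    simp [hg]
  | b T U ih1 ih2 =>
    rw [vl, visit, ih2 (vv_mul hg hb), ih1 (vv_mul hg ha)]
    simp [hg]

theorem vl_lt {A B : ℕ} {T : BT} {v : ℕ} (hv : v < 2 ^ 112) {acc : List ℕ} (hacc : ∀ a ∈ acc, a < 2 ^ 112) :
    ∀ a ∈ vl A B T v acc, a < 2 ^ 112 := by
  induction T generalizing v acc with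
  | o =>
    intro a ha
    rw [vl, List.mem_cons] at ha
    rcases ha with rfl | ha
    · exact hv
    · exact hacc a ha
  | l T ih =>
    refine ih (vmul_lt _ _) ?_
    intro a ha
    rcases List.mem_cons.1 ha with rfl | ha
    · exact hv
    · exact hacc a ha
  | r T ih =>
    refine ih (vmul_lt _ _) ?_
    intro a ha
    rcases List.mem_cons.1 ha with rfl | ha
    · exact hv
    · exact hacc a ha
  | b T U ih1 ih2 =>
    refine ih2 (vmul_lt _ _) (ih1 (vmul_lt _ _) ?_)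
    intro a ha
    rcases List.mem_cons.1 ha with rfl | ha
    · exact hv
    · exact hacc a ha

theorem nodup_visit {a b : Cfsg.Spor.J4} {A B : ℕ} (ha : Codes 112 (rho a) A) (hb : Codes 112 (rho b) B)
    {w : ℕ} (hw : w < 2 ^ 112) {T : BT} (h : (vl A B T w []).Nodup) : (visit a b T 1).Nodup := by
  have h0 : F2Mat.toVec 112 w = vv w 1 := by
    unfold vv
    rw [map_one, Units.val_one, Matrix.vecMul_one]
  have h1 := vl_eq ha hb (T := T) h0 []
  have h2 : ((vl A B T w []).map (F2Mat.toVec 112)).Nodup := by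
    refine List.Nodup.map_on ?_ h
    intro x hx y hy hxy
    exact toVec_inj (vl_lt hw (by simp) x hx) (vl_lt hw (by simp) y hy) hxy
  rw [h1, List.map_nil, List.append_nil, List.nodup_reverse] at h2
  exact List.Nodup.of_map _ h2

/-- a listed subgroup -/
theorem mem_visit {G : Type*} [Group G] [Finite G] {H : Subgroup G} {L : List G} (hL : ∀ x ∈ L, x ∈ H)
    (hnd : L.Nodup) (hc : Nat.card H ≤ L.length) : ∀ x ∈ H, x ∈ L := by
  classical
  intro x hx
  have h1 : (L.toFinset : Set G) ⊆ (H : Set G) := fun y hy => hL y (List.mem_toFinset.1 (Finset.mem_coe.1 hy))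
  have h2 : (L.toFinset : Set G).ncard = L.length := by
    rw [Set.ncard_coe_finset, List.toFinset_card_of_nodup hnd]
  have h3 : (L.toFinset : Set G) = (H : Set G) := by
    refine Set.eq_of_subset_of_ncard_le h1 ?_ (Set.toFinite _)
    rw [h2]
    exact hc
  have h4 : x ∈ (L.toFinset : Set G) := h3 ▸ hx
  exact List.mem_toFinset.1 (Finset.mem_coe.1 h4)

end Cfsg.Agent.H831.JM.Tree
end

-- part: H831/JM/EnvData
section
/-!
# Elements of `J4` around an element of order 5 (helper831)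

The environment `LY` (elements of `J4`, newest first).
-/

set_option autoImplicit false

namespace Cfsg.Agent.H831.JM.EnvData

open Cfsg.Agent.H831.JM.Tree

/-- the program -/
def slpY : List (List ℕ) := [
  [26, 27, 26, 28, 26, 27, 26, 28, 26, 28, 26, 28, 26, 27, 26, 27, 26, 28, 26, 28, 26, 28, 26, 27, 26, 27,
   26, 28, 26, 28, 26, 28, 26, 27, 26, 28, 26, 27, 26, 27],  -- N
  [29, 27, 29, 27, 28, 27, 29, 27, 28, 27, 28, 27, 28, 27, 29, 27, 29, 27, 28, 27, 28, 27, 28, 27, 29, 27,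
   29, 27, 28, 27, 28, 27, 28, 27, 29, 27, 28, 27, 29, 27],  -- Ni
  [30, 28, 30, 28, 29, 28, 29, 28, 30, 28, 29, 28, 29, 28, 30, 28, 30, 28, 29, 28, 29, 28, 30, 28, 29, 28,
   30, 28, 30, 28, 29, 28, 29, 28, 29, 28, 30],  -- M
  [30, 29, 31, 29, 31, 29, 31, 29, 30, 29, 30, 29, 31, 29, 30, 29, 31, 29, 31, 29, 30, 29, 30, 29, 31, 29,
   31, 29, 30, 29, 31, 29, 31, 29, 30, 29, 30],  -- Mi
  [3, 17, 18, 19, 21, 23, 33, 1],  -- G2
  [1, 34, 18, 19, 20, 22, 24, 3],  -- H
  [32, 33, 32, 33, 32, 33, 32, 34, 32, 34, 32, 34],  -- U11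
  [33, 34, 33, 35, 33, 34, 33, 35, 33, 35, 33, 35, 33, 35, 33, 35, 33, 35, 33, 35, 33, 34, 33, 35, 33, 35,
   33, 34, 33, 34, 33, 34, 33, 35, 33, 35, 33, 34, 33, 35, 33, 35, 33, 35, 33, 35, 33, 35, 33, 34, 33, 35,
   33, 34, 33],  -- A
  [2, 1, 3],  -- UB
  [37, 35, 36, 35, 37, 35, 37, 35, 37, 35, 37, 35, 36, 35, 36, 35, 36, 35, 36, 35, 36, 35, 36, 35, 36, 35,
   37, 35, 36, 35, 37, 35, 36, 35, 37, 35, 36, 35, 37],  -- P1
  [36, 38, 36, 37, 36, 37, 36, 38, 36, 38, 36, 38, 36, 37, 36, 37, 36, 37, 36, 38, 36, 37, 36, 38, 36, 38,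
   36, 38, 36, 38, 36, 37, 36, 37, 36, 38],  -- M2
  [24, 25, 27, 29, 30, 33, 34, 1, 40, 0, 25],  -- UA
  [14, 14],  -- R2
  [13, 13, 13, 22, 22, 13, 22],  -- Z0
  [23, 14, 14],  -- RA
  [15, 24, 15, 24, 15, 24, 15, 24],  -- RB
  [25, 25, 16, 16, 16],  -- YA
  [17, 26, 26, 17, 26, 17, 17],  -- Y1
  [27, 27, 18, 18, 27, 18, 27, 27],  -- Y2
  [28, 28, 28, 28, 19, 28, 28, 28, 28, 19],  -- Y3
  [20, 29, 29, 29, 29, 20, 29, 29, 29, 29],  -- Y4
  [21, 30, 21, 30, 21, 21, 30, 30, 30, 21],  -- Y5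
  [25, 25, 9, 25, 25, 25],  -- T0
  [26, 26, 26, 10, 5, 26, 26],  -- T1
  [27, 27, 27, 11, 5, 27, 27],  -- T2
  [28, 28, 28, 12, 5, 28, 28],  -- T3
  [29, 29, 29, 13, 5, 29, 29],  -- T4
  [30, 14, 5, 30, 30, 30, 30],  -- T5
  [37, 28, 28, 28, 28, 28, 37, 37, 37],  -- YS
  [32, 32, 32, 31, 0, 32, 32]]  -- VS

set_option maxRecDepth 100000 in
/-- a spanning tree of the Cayley graph of `J` -/
def tJ : BT :=
  .b (.b (.b (.b (.b (.b (.r (.b (.r .o) (.b (.l (.l (.b .o .o))) (.b (.r (.r .o)) .o)))) (.b (.b (.b (.b (.r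
  .o) (.l (.l .o))) (.b (.l (.l .o)) (.r .o))) .o) (.b (.b (.l (.b .o (.l .o))) (.r (.r (.l .o)))) (.b (.r (.r
  .o)) (.l .o))))) (.b (.b (.b (.b (.b (.b (.r .o) (.r .o)) .o) (.b (.l .o) (.r .o))) (.b (.b (.l .o) (.l .o))
  (.b (.r (.l .o)) .o))) .o) (.b (.b (.l (.b (.l (.r .o)) (.l .o))) (.b (.l (.b (.r .o) .o)) (.b .o (.l (.b .o
  .o))))) (.b (.b (.r (.l .o)) (.b (.l (.r .o)) (.l (.l .o)))) (.l .o))))) (.b (.b (.b (.b (.b (.b (.r .o) (.r
  .o)) .o) (.b (.b .o (.r (.l (.l .o)))) (.r .o))) (.b (.b (.l (.l (.l .o))) (.l .o)) (.b (.r (.l (.l .o))) (.l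
  .o)))) (.r (.b (.b (.r .o) (.b .o .o)) (.b (.l (.l .o)) (.l (.r (.r .o))))))) (.b (.b (.b (.b (.b (.r .o) (.l
  (.l .o))) (.l .o)) (.r (.b (.b (.r .o) .o) (.r .o)))) (.b (.l (.b (.r .o) .o)) (.b (.l (.b .o .o)) (.b (.b .o
  .o) (.b (.r .o) .o))))) (.b (.b (.r (.l .o)) (.b (.l (.r .o)) (.l (.l (.r .o))))) (.b .o (.b (.r (.l .o)) (.r
  .o))))))) (.b (.b (.b (.b (.b (.b (.r (.r .o)) (.b .o .o)) (.r (.b .o .o))) (.b (.b (.b (.l .o) (.l (.r .o)))
  (.r (.l (.l .o)))) (.r (.l (.b .o (.l .o)))))) (.b (.b (.b (.l (.l .o)) (.l (.b .o .o))) (.b (.l .o) (.r (.l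
  (.l .o))))) (.b (.b .o (.l (.l (.r .o)))) (.b (.l (.b .o .o)) (.b .o (.r .o)))))) (.b (.b (.b (.b (.b .o .o)
  (.r (.r (.r .o)))) (.b (.r (.b .o .o)) (.r (.b .o .o)))) (.b (.b (.l (.r .o)) (.b (.r (.r .o)) .o)) (.b (.b
  (.l (.l .o)) (.b .o .o)) (.l .o)))) (.b (.b (.r (.r (.r .o))) (.b (.l .o) (.r (.b .o .o)))) (.b (.l (.l .o))
  (.l (.r (.r .o))))))) (.b (.b (.b (.b (.b (.b (.r .o) (.l (.l .o))) (.l (.l .o))) (.l .o)) (.b .o (.b (.b (.r
  .o) .o) (.r (.b .o .o))))) (.b (.l (.b (.r .o) .o)) (.b (.l (.b .o (.l .o))) (.b (.b (.l .o) (.l .o)) (.b (.r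
  .o) (.r .o)))))) (.b (.b (.b (.b (.b (.r .o) (.l .o)) (.l (.l .o))) (.l .o)) (.b (.l (.b (.b .o .o) (.r (.l
  .o)))) (.l (.l (.r (.l .o)))))) (.b .o (.b (.r (.l .o)) (.r (.l .o)))))))) (.b (.b (.b (.b (.b (.b (.r (.r (.r
  (.l .o)))) (.b (.b (.l .o) .o) .o)) (.b (.b (.l (.b .o (.l .o))) .o) (.b .o .o))) (.b (.b (.b (.l (.l .o)) (.b
  (.r .o) (.l .o))) (.r (.l (.l .o)))) (.b (.r (.l (.l (.l .o)))) (.b (.b .o (.b .o .o)) (.b .o .o))))) (.b (.b
  (.b (.l (.b .o (.r .o))) (.l (.b .o (.l .o)))) (.b (.l (.r (.r .o))) (.r (.b (.l .o) .o)))) (.b (.b (.b (.b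
  (.l .o) (.l .o)) (.l .o)) (.b (.l (.r .o)) (.r (.l (.r .o))))) (.b (.l (.b (.r .o) (.l .o))) (.b .o (.b .o
  .o)))))) (.b (.b (.b (.b (.b (.l .o) .o) (.r (.r (.b .o (.r .o))))) (.b (.r (.b .o .o)) (.b (.r .o) (.b .o
  .o)))) (.b (.b (.b (.r .o) (.r (.r .o))) (.b (.b (.b .o (.r .o)) (.b .o .o)) .o)) (.b (.b (.l (.l .o)) (.b .o
  (.r (.l .o)))) (.l (.l .o))))) (.b (.b (.b (.b .o (.l (.r .o))) (.b (.r (.r .o)) (.r .o))) (.b (.l .o) (.r (.b
  (.b .o (.b .o .o)) (.r .o))))) (.b (.l (.l .o)) (.b (.r (.r .o)) (.b (.l (.r (.l .o))) .o)))))) (.b (.b (.b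
  (.b (.b (.b (.r .o) (.l (.b .o .o))) (.l (.l (.l .o)))) (.l (.r .o))) (.b (.r (.b (.l .o) (.r (.r .o)))) (.b
  (.b (.r (.l .o)) (.b .o .o)) (.r (.b .o (.r .o)))))) (.b (.l (.b (.b (.r (.l .o)) .o) (.r (.b (.r .o) .o))))
  (.b (.l (.b (.r .o) (.l (.r .o)))) (.b (.b (.l .o) (.b .o (.r .o))) (.b (.r .o) (.b (.b (.r .o) .o) .o))))))
  (.b (.b (.b (.b (.b (.b .o .o) (.l .o)) (.l (.l (.r .o)))) (.l (.r (.b (.b (.r .o) (.l .o)) .o)))) (.b (.l (.b
  (.b .o .o) (.r (.l .o)))) (.b (.l (.r (.b .o (.r .o)))) (.l .o)))) (.b (.r (.b .o (.b (.l (.r .o)) (.l (.r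
  .o))))) (.b (.b (.b .o (.l (.r .o))) (.l .o)) (.r (.l (.l (.b .o .o)))))))))) (.b (.b (.b (.b (.b (.b (.r (.b
  .o (.r (.b .o .o)))) (.b (.b (.l (.l .o)) .o) (.r (.b .o .o)))) (.b (.b (.b (.b (.r .o) (.b (.l .o) .o)) (.l
  (.l .o))) .o) (.b (.r (.l (.l (.r .o)))) (.l (.r (.l .o)))))) (.b (.b (.b (.l (.l (.l .o))) (.b (.r (.l .o))
  (.l .o))) (.r (.b (.l .o) (.b .o .o)))) (.b (.b (.b (.l .o) (.r (.r .o))) (.l (.l (.b .o .o)))) (.b (.b .o (.b
  .o .o)) (.b .o .o))))) (.b (.b (.b (.l (.b .o (.r (.b .o .o)))) (.l (.b .o (.l .o)))) (.b (.b (.r (.b (.r (.r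
  .o)) (.r .o))) (.b (.b .o (.l .o)) (.b (.l (.l .o)) .o))) (.r (.b (.l .o) .o)))) (.b (.b (.b (.b (.l .o) (.l
  .o)) (.l .o)) (.b (.l (.r .o)) (.b .o (.l (.r .o))))) (.b (.l (.b (.r .o) (.l .o))) (.b .o (.b (.r .o)
  .o)))))) (.b (.b (.b (.b (.b (.l (.r .o)) (.b (.r .o) (.b .o .o))) (.r (.b (.r (.l .o)) (.b .o (.r .o))))) (.b
  (.r (.b (.l (.r .o)) (.r (.b .o .o)))) (.b (.b (.l (.r (.l .o))) .o) (.b .o (.l .o))))) (.b (.b (.b (.b (.r
  .o) .o) (.r (.b .o .o))) (.b (.b (.b (.r .o) (.r .o)) (.b (.b .o .o) .o)) .o)) (.b (.b (.l (.b .o .o)) (.b (.l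
  .o) (.r (.l .o)))) (.b (.l (.l .o)) (.r (.l (.l .o))))))) (.b (.b (.b (.b (.l (.r (.l .o))) (.l (.r .o))) (.b
  (.r (.r .o)) (.r (.r (.r .o))))) (.b (.l (.r .o)) (.r (.b (.b (.l .o) (.b .o .o)) (.r (.l (.r .o))))))) (.b
  (.b (.l (.b (.b (.l .o) (.l .o)) (.l .o))) (.b (.l (.b .o .o)) (.r (.l .o)))) (.b (.r (.b .o (.r (.l .o))))
  (.b (.b (.r (.l .o)) .o) (.r (.l (.l (.l .o)))))))))) (.b (.b (.b (.b (.b (.b (.r .o) (.l (.b .o .o))) (.l (.l
  (.b .o .o)))) (.l (.b (.b (.l .o) (.b .o (.l .o))) (.r (.r .o))))) (.b (.r (.b (.b (.r .o) (.b (.l .o) .o))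
  (.r (.b .o .o)))) (.b (.b (.b (.l .o) (.l .o)) (.b .o (.l .o))) (.r (.b .o (.b (.r .o) .o)))))) (.b (.l (.b
  (.b (.r (.b .o .o)) (.r .o)) (.b .o (.b (.b (.l .o) .o) .o)))) (.b (.l (.b (.r .o) (.b (.r .o) (.r (.r .o)))))
  (.b (.b (.l .o) (.b (.l (.l .o)) (.r .o))) (.b (.r (.l .o)) (.b (.b (.r .o) .o) (.r .o))))))) (.b (.b (.b (.b
  (.b (.b .o (.l (.b .o .o))) (.l .o)) (.l (.l (.b .o (.r .o))))) (.b (.r (.b (.b (.r .o) (.l (.l .o))) .o)) (.l
  (.b (.r .o) (.r .o))))) (.b (.l (.b (.b .o (.r .o)) (.r (.l .o)))) (.b (.l (.r (.b (.r .o) (.r .o)))) (.l (.r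
  (.r (.r .o))))))) (.b (.b (.b (.b (.b (.b .o (.l (.l .o))) .o) .o) (.b (.r (.l (.b (.r .o) .o))) (.l (.r
  .o)))) (.b .o (.b (.l (.r (.r (.r .o)))) (.l (.r .o))))) (.b (.b (.b (.r .o) (.b (.r .o) (.l .o))) (.b .o (.b
  (.l .o) .o))) (.b (.l (.b .o (.l .o))) (.l (.l (.b .o .o)))))))))

/-- a row vector fixed by `f`, with a regular orbit under `J` -/
def wJ : ℕ := 2596228012522570763124141650182721

/-- the row vector of the point fixed by `uB` and `f` -/
def pB : ℕ := 4520321800026123793245004258066431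

end Cfsg.Agent.H831.JM.EnvData
end

-- part: H831/JM/Env
section
/-!
# The environment `LY` (helper831)
-/

set_option autoImplicit false

open Cfsg

namespace Cfsg.Agent.H831.JM.Env

open Cfsg.Agent.Lib Cfsg.Agent.Lib.F2Mat Cfsg.Agent.Lib.F2MatGroup
open Cfsg.Agent.J4.Rep112 Cfsg.Agent.J4.LowerData Cfsg.Agent.J4.Lower
open Cfsg.Agent.H858.VK Cfsg.Agent.H858.Data
open Cfsg.Agent.H935.J4Max.ListCl (runG_append)
open Cfsg.Agent.H831.JM.Tree Cfsg.Agent.H831.JM.EnvData

local notation "𝒢" => Cfsg.Spor.J4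

/-- the complete program -/
def slpAll : List (List ℕ) := slpQ ++ slpX ++ slpY

/-- the environment -/
noncomputable def LY : List 𝒢 := runG slpY LX

/-- the elements -/
noncomputable abbrev e (i : ℕ) : 𝒢 := getG LY i

theorem map_LY : LY.map rho = runG slpAll mgens := by
  unfold LY slpAll
  rw [← runG_map, map_LX, runG_append, runG_append, runG_append]

theorem codesY {k : List ℕ → Bool} (h : run 112 slpAll codes k = true) :
    ∃ L', List.Forall₂ (Codes 112) (LY.map rho) L' ∧ k L' = true := by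
  obtain ⟨L', h', hk⟩ := run_sound codes_gens h
  exact ⟨L', by rw [map_LY]; exact h', hk⟩

theorem codes_e {L' : List ℕ} (h : List.Forall₂ (Codes 112) (LY.map rho) L') (i : ℕ) :
    Codes 112 (rho (e i)) (get (F2Mat.one 112) L' i) := by
  have := codes_get h i
  rwa [getG_map] at this

/-! ### Relations -/

/-- equal words -/
def eqsY : List (List ℕ × List ℕ) := [
  ([25, 24], []), ([24, 22, 25], [33]), ([33, 21], [21, 21, 21, 33]), ([33, 18], [18, 18, 18, 33]),
  ([18, 18, 18, 18, 18, 18, 18, 18, 18, 18, 18], []),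
  ([15, 33], [33, 15]), ([15, 18], [18, 18, 18, 18, 18, 18, 18, 18, 18, 18, 15]),
  ([14, 33], [33, 14]), ([14, 21], [21, 21, 21, 21, 21, 21, 21, 21, 21, 21, 14]),
  ([13, 18], [18, 13]), ([13, 13, 13], []), ([16, 16], []), ([16, 21], [21, 16]), ([16, 5], [6, 16]),
  ([16, 3], [4, 16]), ([17, 17], []), ([17, 39], [39, 17]), ([17, 30], [30, 17]), ([17, 33, 17, 33], []),
  ([0, 0], [4]), ([0, 33], [33, 33, 0]), ([39, 33], [33, 39]), ([30, 33], [33, 30]),
  ([21], [24, 23, 25]), ([23], [56, 57, 56, 57, 56, 57, 56, 58, 56, 58, 56, 58]), ([17], [32, 32]),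
  ([16, 33], [33, 16]), ([7], [33, 33, 17, 33, 33, 33]), ([6], [33, 33, 33, 17, 12, 33, 33]),
  ([5], [33, 33, 33, 17, 11, 33, 33]), ([4], [33, 33, 33, 17, 10, 33, 33]), ([3], [33, 33, 33, 17, 9, 33, 33]),
  ([2], [33, 17, 8, 33, 33, 33, 33]), ([0], [33, 33, 33, 32, 1, 33, 33]), ([13, 33], [33, 13]), ([13, 17], [17, 13]),
  ([22], [56, 57, 56, 58, 56, 57, 56, 58, 56, 58, 56, 58, 56, 58, 56, 58, 56, 58, 56, 58, 56, 57, 56, 58, 56, 58,
    56, 57, 56, 57, 56, 57, 56, 58, 56, 58, 56, 57, 56, 58, 56, 58, 56, 58, 56, 58, 56, 58, 56, 57, 56, 58, 56, 57,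
    56])]

/-- different words -/
def neqsY : List (List ℕ × List ℕ) := [([18], []), ([21], []), ([13], []), ([33], [])]

theorem checkY : run 112 slpAll codes (fun L => cond (eqs 112 eqsY L) (neqs 112 neqsY L) false) = true := by
  rw [Lib.F112.run_eq, Lib.F112.eqs_eq, Lib.F112.neqs_eq]
  decide +kernel

theorem soundY : (∀ p ∈ eqsY, evG LY p.1 = evG LY p.2) ∧ ∀ p ∈ neqsY, evG LY p.1 ≠ evG LY p.2 := by
  obtain ⟨L', h', hk⟩ := codesY checkY
  obtain ⟨h1, h2⟩ := condf hk
  refine ⟨fun p hp => ?_, fun p hp h => ?_⟩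
  · apply rho_injective
    rw [← evG_map, ← evG_map]
    exact eqs_sound h' h1 p hp
  · apply neqs_sound (by norm_num) h' h2 p hp
    rw [evG_map, evG_map, h]

end Cfsg.Agent.H831.JM.Env
end

-- part: H793/MS/NodupFast
section
/-!
# A fast kernel check that a list of natural numbers has no duplicates (helper793)

`ndF n L` : the list is divided `n` times by the bits of the remainders modulo 65521, then `ndB`.
-/

set_option autoImplicit false

namespace Cfsg.Agent.H793.MS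

open Cfsg.Agent.H935.J4Max.ListCl (ndB nodup_of_ndB)

theorem nodup_of_filter {α : Type*} [DecidableEq α] (p : α → Bool) {L : List α} (h1 : (L.filter p).Nodup)
    (h2 : (L.filter fun a => !p a).Nodup) : L.Nodup := by
  rw [List.nodup_iff_count_le_one]
  intro a
  rcases hp : p a with _ | _
  · have h := List.nodup_iff_count_le_one.1 h2 a
    rwa [List.count_filter (by simp [hp])] at h
  · have h := List.nodup_iff_count_le_one.1 h1 a
    rwa [List.count_filter hp] at h

/-- the bit used for dividing the list -/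
def bt (i a : ℕ) : Bool := Nat.testBit (Nat.mod a 65521) i

/-- division of a list -/
noncomputable def part (i : ℕ) (L : List ℕ) : List ℕ → List ℕ → (List ℕ → List ℕ → Bool) → Bool :=
  List.rec (motive := fun _ => List ℕ → List ℕ → (List ℕ → List ℕ → Bool) → Bool) (fun l0 l1 k => k l0 l1)
    (fun a _ ih l0 l1 k => cond (bt i a) (ih l0 (a :: l1) k) (ih (a :: l0) l1 k)) L

theorem part_spec (i : ℕ) (L : List ℕ) : ∀ (l0 l1 : List ℕ) (k : List ℕ → List ℕ → Bool),
    part i L l0 l1 k = k ((L.filter fun a => !bt i a).reverse ++ l0) ((L.filter fun a => bt i a).reverse ++ l1) := by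
  induction L with
  | nil => intro l0 l1 k; rfl
  | cons a L ih =>
    intro l0 l1 k
    have e : part i (a :: L) l0 l1 k = cond (bt i a) (part i L l0 (a :: l1) k) (part i L (a :: l0) l1 k) := rfl
    rw [e]
    rcases h : bt i a with _ | _
    · rw [cond_false, ih, List.filter_cons_of_pos (by simp [h]), List.filter_cons_of_neg (by simp [h]),
        List.reverse_cons, List.append_assoc]
      rfl
    · rw [cond_true, ih, List.filter_cons_of_neg (by simp [h]), List.filter_cons_of_pos (by simp [h]),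
        List.reverse_cons, List.append_assoc]
      rfl

/-- the check -/
noncomputable def ndF (n : ℕ) : List ℕ → Bool :=
  Nat.rec (motive := fun _ => List ℕ → Bool) ndB
    (fun i ih L => part i L [] [] fun l0 l1 => cond (ih l0) (ih l1) false) n

theorem nodup_of_ndF (n : ℕ) : ∀ {L : List ℕ}, ndF n L = true → L.Nodup := by
  induction n with
  | zero => exact fun h => nodup_of_ndB h
  | succ n ih =>
    intro L h
    have h1 : part n L [] [] (fun l0 l1 => cond (ndF n l0) (ndF n l1) false) = true := h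
    rw [part_spec] at h1
    rcases h2 : ndF n ((L.filter fun a => !bt n a).reverse ++ []) with _ | _
    · rw [h2] at h1
      exact absurd h1 Bool.false_ne_true
    · rw [h2, cond_true] at h1
      have h3 := ih h2
      have h4 := ih h1
      rw [List.append_nil, List.nodup_reverse] at h3 h4
      exact nodup_of_filter (bt n) h4 h3

end Cfsg.Agent.H793.MS
end

-- part: H831/JM/JList
section
/-!
# The list of the elements of the group `J = 2³ · L₃(2)` (helper831)
-/

set_option autoImplicit false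

open Cfsg

namespace Cfsg.Agent.H831.JM.JList

open Cfsg.Agent.Lib Cfsg.Agent.Lib.F2Mat Cfsg.Agent.Lib.F2MatGroup
open Cfsg.Agent.J4.Rep112 Cfsg.Agent.J4.LowerData Cfsg.Agent.J4.Lower
open Cfsg.Agent.H935.J4Max.ListCl (getG_runG_add)
open Cfsg.Agent.H793.MS (ndF nodup_of_ndF)
open Cfsg.Agent.H858 Cfsg.Agent.H858.VK Cfsg.Agent.H858.Data Cfsg.Agent.H858.Elem
open Cfsg.Agent.H831.JM.Tree Cfsg.Agent.H831.JM.EnvData Cfsg.Agent.H831.JM.Env

local notation "𝒢" => Cfsg.Spor.J4

theorem shift (i : ℕ) : e (30 + i) = g i := getG_runG_add slpY LX i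

theorem e_s : e 39 = s := (shift 9).trans sg_eq.symm
theorem e_j : e 30 = j := (shift 0).trans j_eq.symm
theorem e_f : e 33 = f := (shift 3).trans f_eq.symm
theorem e_r : e 32 = r := (shift 2).trans r_eq.symm

theorem nd : run 112 slpAll codes (fun L => force (get (F2Mat.one 112) L 39) fun A =>
    force (get (F2Mat.one 112) L 30) fun B => col A B tJ wJ [] (ndF 8)) = true := by
  delta col
  rw [Lib.F112.run_eq, Lib.F112.vm_eq]
  decide +kernel

theorem length_visit : (visit s j tJ 1).length = 1344 := by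
  have h : ∀ (T : BT) (g : 𝒢) (g' : Multiplicative (ZMod 1)), (visit s j T g).length = (visit 1 1 T g').length := by
    intro T
    induction T with
    | o => intro g g'; rfl
    | l T ih => intro g g'; rw [visit, visit, List.length_cons, List.length_cons, ih _ (g' * 1)]
    | r T ih => intro g g'; rw [visit, visit, List.length_cons, List.length_cons, ih _ (g' * 1)]
    | b T U ih1 ih2 =>
      intro g g'
      rw [visit, visit, List.length_cons, List.length_cons, List.length_append, List.length_append,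
        ih1 _ (g' * 1), ih2 _ (g' * 1)]
  rw [h tJ 1 1]
  decide +kernel

theorem nodup : (visit s j tJ 1).Nodup := by
  obtain ⟨L', h', hk⟩ := codesY nd
  have hs := codes_e h' 39
  have hj := codes_e h' 30
  rw [e_s] at hs
  rw [e_j] at hj
  generalize get (F2Mat.one 112) L' 39 = A at hk hs
  generalize get (F2Mat.one 112) L' 30 = B at hk hj
  rw [force_eq, force_eq, col_eq] at hk
  exact nodup_visit hs hj (by decide +kernel) (nodup_of_ndF 8 hk)

/-- **the elements of `J`** -/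
theorem mem_list : ∀ x ∈ Loc5.J, x ∈ visit s j tJ 1 := by
  have : Finite 𝒢 := FixJ4.facts.1
  refine mem_visit (mem_of_visit Loc5.s_mem Loc5.j_mem (Subgroup.one_mem _)) nodup ?_
  rw [length_visit, Loc5.card_J]

/-- **the principle of enumeration** -/
theorem all_J {P : 𝒢 → Prop} {test : List ℕ → ℕ → Bool}
    (hP : ∀ L', List.Forall₂ (Codes 112) (LY.map rho) L' → ∀ x X, Codes 112 (rho x) X → test L' X = true → P x)
    (h : run 112 slpAll codes (fun L => force (get (F2Mat.one 112) L 39) fun A =>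
      force (get (F2Mat.one 112) L 30) fun B => allB A B (test L) tJ (F2Mat.one 112)) = true) :
    ∀ x ∈ Loc5.J, P x := by
  obtain ⟨L', h', hk⟩ := codesY h
  have hs := codes_e h' 39
  have hj := codes_e h' 30
  rw [e_s] at hs
  rw [e_j] at hj
  generalize get (F2Mat.one 112) L' 39 = A at hk hs
  generalize get (F2Mat.one 112) L' 30 = B at hk hj
  rw [force_eq, force_eq] at hk
  intro x hx
  obtain ⟨X, hX, ht⟩ := allB_sound hs hj (g := 1) (by rw [map_one]; exact Codes.one 112) hk x (mem_list x hx)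
  exact hP L' h' x X hX ht

end Cfsg.Agent.H831.JM.JList
end

-- part: H831/JM/PairAbs
section
/-!
# Pairs generating a Frobenius group of order 55 (helper831)
-/

set_option autoImplicit false

namespace Cfsg.Agent.H831.JM.PairAbs

open Subgroup

variable {G : Type*} [Group G]

theorem pow_act {F U : G} (h : F * U * F⁻¹ = U ^ 3) (k m : ℕ) : F ^ k * U ^ m * (F ^ k)⁻¹ = U ^ (3 ^ k * m) := by
  induction k with
  | zero => simp
  | succ k ih =>
    have e : F ^ (k + 1) * U ^ m * (F ^ (k + 1))⁻¹ = F * (F ^ k * U ^ m * (F ^ k)⁻¹) * F⁻¹ := by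
      rw [pow_succ']; group
    rw [e, ih, ← conj_pow, h, ← pow_mul]
    congr 1
    rw [pow_succ]; ring

/-- exponents modulo 11 -/
theorem exp_cases : ∀ m < 11, m ≠ 0 → ∃ i < 5, m * 3 ^ i % 11 = 1 ∨ m * 3 ^ i % 11 = 10 := by decide

theorem three_pow : ∀ k < 5, 3 ^ k % 11 = 3 → k = 1 := by decide

/-- the pairs `(f, u)` with `f u f⁻¹ = u³` and `u` conjugate to `U` are conjugate -/
theorem pair_conj [Finite G] (h25 : ¬ 25 ∣ Nat.card G) {U F R : G} (hU : orderOf U = 11) (hF : orderOf F = 5)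
    (hFU : F * U * F⁻¹ = U ^ 3) (hR : R * F = F * R) (hRU : R * U * R⁻¹ = U⁻¹) {f u : G} (hf : orderOf f = 5)
    (hfu : f * u * f⁻¹ = u ^ 3) (hu : IsConj u U) : ∃ g, g * f * g⁻¹ = F ∧ g * u * g⁻¹ = U := by
  classical
  have p5 : Fact (Nat.Prime 5) := ⟨by norm_num⟩
  obtain ⟨g, hg⟩ := isConj_iff.1 hu
  set f' := g * f * g⁻¹ with hf'
  have hf'5 : orderOf f' = 5 := by
    rw [← hf]
    exact MulEquiv.orderOf_eq (MulAut.conj g) f
  have hf'U : f' * U * f'⁻¹ = U ^ 3 := by
    have e : f' * U * f'⁻¹ = g * (f * u * f⁻¹) * g⁻¹ := by rw [hf', ← hg]; group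
    rw [e, hfu, ← conj_pow, hg]
  -- the normalizer
  set N := normalizer ((zpowers U : Subgroup G) : Set G) with hN
  have memN : ∀ {x : G} {k : ℕ}, x * U * x⁻¹ = U ^ k → x ∈ N := by
    intro x k hx
    rw [hN, mem_normalizer_iff]
    have h1 : (zpowers U).map (MulAut.conj x).toMonoidHom = zpowers U := by
      have hsub : (zpowers U).map (MulAut.conj x).toMonoidHom ≤ zpowers U := by
        rw [MonoidHom.map_zpowers, zpowers_le]
        show x * U * x⁻¹ ∈ zpowers U
        rw [hx]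
        exact pow_mem (mem_zpowers U) k
      refine eq_of_le_of_card_ge hsub ?_
      rw [Subgroup.card_map_of_injective (MulAut.conj x).injective]
    intro y
    constructor
    · intro hy
      have h2 : x * y * x⁻¹ ∈ (zpowers U).map (MulAut.conj x).toMonoidHom := ⟨y, hy, rfl⟩
      rwa [h1] at h2
    · intro hy
      have h2 : x * y * x⁻¹ ∈ (zpowers U).map (MulAut.conj x).toMonoidHom := by rw [h1]; exact hy
      obtain ⟨z, hz, h3⟩ := h2
      have h4 : z = y := (MulAut.conj x).injective h3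
      exact h4 ▸ hz
  have hFN : F ∈ N := memN hFU
  have hf'N : f' ∈ N := memN hf'U
  have h25N : ¬ 25 ∣ Nat.card N := fun h => h25 (h.trans (card_subgroup_dvd_card N))
  -- Sylow subgroups
  have syl : ∀ x : N, orderOf x = 5 → ∃ P : Sylow 5 N, (P : Subgroup N) = zpowers x := by
    intro x hx
    have h1 : IsPGroup 5 (zpowers x) := IsPGroup.of_card (n := 1) (by rw [Nat.card_zpowers, hx, pow_one])
    obtain ⟨P, hP⟩ := h1.exists_le_sylow
    refine ⟨P, ?_⟩
    symm
    apply eq_of_le_of_card_ge hP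
    obtain ⟨n, hn⟩ := IsPGroup.iff_card.1 P.2
    rw [Nat.card_zpowers, hx, hn]
    have h2 : 5 ^ n ∣ Nat.card N := hn ▸ card_subgroup_dvd_card (P : Subgroup N)
    have h3 : n ≤ 1 := by
      by_contra h4
      exact h25N ((show 25 = 5 ^ 2 by norm_num) ▸ (pow_dvd_pow 5 (by omega)).trans h2)
    calc 5 ^ n ≤ 5 ^ 1 := Nat.pow_le_pow_right (by norm_num) h3
      _ = 5 := by norm_num
  have ho1 : orderOf (⟨F, hFN⟩ : N) = 5 := by rw [← hF]; exact Subgroup.orderOf_mk F hFN
  have ho2 : orderOf (⟨f', hf'N⟩ : N) = 5 := by rw [← hf'5]; exact Subgroup.orderOf_mk f' hf'N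
  obtain ⟨P, hP⟩ := syl _ ho1
  obtain ⟨Q, hQ⟩ := syl _ ho2
  obtain ⟨n, hn⟩ := MulAction.exists_smul_eq N Q P
  have hmem : (n : G) * f' * (n : G)⁻¹ ∈ zpowers F := by
    have h1 : (n * ⟨f', hf'N⟩ * n⁻¹ : N) ∈ (P : Subgroup N) := by
      rw [← hn, Sylow.coe_subgroup_smul]
      exact Subgroup.smul_mem_pointwise_smul (⟨f', hf'N⟩ : N) (MulAut.conj n) (Q : Subgroup N)
        (by rw [hQ]; exact mem_zpowers _)
    rw [hP] at h1
    obtain ⟨k, hk⟩ := h1
    exact ⟨k, congrArg Subtype.val hk⟩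
  have hfin : IsOfFinOrder F := isOfFinOrder_of_finite F
  obtain ⟨k, hk, hk'⟩ := Finset.mem_image.1 (mem_zpowers_iff_mem_range_orderOf.1 hmem)
  rw [hF, Finset.mem_range] at hk
  -- the action of `n` on `U`
  have hnU : (n : G) * U * (n : G)⁻¹ ∈ zpowers U := (mem_normalizer_iff.1 n.2 U).1 (mem_zpowers U)
  obtain ⟨m, hm, hm'⟩ := Finset.mem_image.1 (mem_zpowers_iff_mem_range_orderOf.1 hnU)
  rw [hU, Finset.mem_range] at hm
  change F ^ k = (n : G) * f' * (n : G)⁻¹ at hk'
  change U ^ m = (n : G) * U * (n : G)⁻¹ at hm'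
  have hm0 : m ≠ 0 := by
    rintro rfl
    rw [pow_zero] at hm'
    have h1 : U = 1 := by
      have e : U = (n : G)⁻¹ * ((n : G) * U * (n : G)⁻¹) * n := by group
      rw [e, ← hm']; group
    rw [h1, orderOf_one] at hU
    norm_num at hU
  -- `k = 1`
  have h1 : F ^ k * U ^ m * (F ^ k)⁻¹ = U ^ (3 * m) := by
    rw [hk', hm']
    have e : (n : G) * f' * (n : G)⁻¹ * ((n : G) * U * (n : G)⁻¹) * ((n : G) * f' * (n : G)⁻¹)⁻¹ =
        (n : G) * (f' * U * f'⁻¹) * (n : G)⁻¹ := by group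
    rw [e, hf'U, ← conj_pow, ← hm', ← pow_mul]
    congr 1
    ring
  have hk1 : k = 1 := by
    rw [pow_act hFU, pow_inj_mod, hU] at h1
    apply three_pow k hk
    have h2 : (3 ^ k * m) ≡ 3 * m [MOD 11] := h1
    have h3 : Nat.gcd 11 m = 1 := (Nat.Prime.coprime_iff_not_dvd (by norm_num)).2
      fun h => absurd (Nat.le_of_dvd (by omega) h) (by omega)
    exact (Nat.ModEq.cancel_right_of_coprime h3 h2)
  subst hk1
  rw [pow_one] at hk'
  obtain ⟨i, hi, h2⟩ := exp_cases m hm hm0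
  have h3 : F ^ i * ((n : G) * U * (n : G)⁻¹) * (F ^ i)⁻¹ = U ^ (m * 3 ^ i % 11) := by
    rw [← hm', pow_act hFU, ← hU, pow_mod_orderOf, mul_comm]
  have h4 : F ^ i * ((n : G) * f' * (n : G)⁻¹) * (F ^ i)⁻¹ = F := by
    rw [← hk', ← pow_succ, pow_succ']; group
  rcases h2 with h2 | h2
  · refine ⟨F ^ i * n * g, ?_, ?_⟩
    · have e : F ^ i * n * g * f * (F ^ i * n * g)⁻¹ =
          F ^ i * ((n : G) * (g * f * g⁻¹) * (n : G)⁻¹) * (F ^ i)⁻¹ := by group
      rw [e, ← hf', h4]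
    · rw [h2, pow_one] at h3
      have e : F ^ i * n * g * u * (F ^ i * n * g)⁻¹ =
          F ^ i * ((n : G) * (g * u * g⁻¹) * (n : G)⁻¹) * (F ^ i)⁻¹ := by group
      rw [e, hg, h3]
  · have h5 : U ^ 10 = U⁻¹ := by
      have h7 := pow_orderOf_eq_one U
      rw [hU] at h7
      rw [eq_inv_iff_mul_eq_one, ← pow_succ]
      exact h7
    rw [h2, h5] at h3
    have h6 : R * F * R⁻¹ = F := by rw [hR]; group
    refine ⟨R * F ^ i * n * g, ?_, ?_⟩
    · have e : R * F ^ i * n * g * f * (R * F ^ i * n * g)⁻¹ =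
          R * (F ^ i * ((n : G) * (g * f * g⁻¹) * (n : G)⁻¹) * (F ^ i)⁻¹) * R⁻¹ := by group
      rw [e, ← hf', h4, h6]
    · have e : R * F ^ i * n * g * u * (R * F ^ i * n * g)⁻¹ =
          R * (F ^ i * ((n : G) * (g * u * g⁻¹) * (n : G)⁻¹) * (F ^ i)⁻¹) * R⁻¹ := by group
      rw [e, hg, h3]
      have e2 : R * U⁻¹ * R⁻¹ = (R * U * R⁻¹)⁻¹ := by group
      rw [e2, hRU, inv_inv]

end Cfsg.Agent.H831.JM.PairAbs
end

-- part: H831/JM/Pair
section
/-!
# The subgroups `11:5` of `J4` (helper831)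
-/

set_option autoImplicit false

open Cfsg

namespace Cfsg.Agent.H831.JM.Pair

open Cfsg.Agent.Lib Cfsg.Agent.Lib.F2Mat Cfsg.Agent.Lib.F2MatGroup
open Cfsg.Agent.J4.Rep112 Cfsg.Agent.J4.Pres Cfsg.Agent.J4.M24Hom Cfsg.Agent.J4.Nodes
open Cfsg.Agent.H858 Cfsg.Agent.H858.VK Cfsg.Agent.H858.Data Cfsg.Agent.H858.Elem
open Cfsg.Agent.H831.JM.Tree Cfsg.Agent.H831.JM.EnvData Cfsg.Agent.H831.JM.Env Cfsg.Agent.H831.JM.JList

local notation "𝒢" => Cfsg.Spor.J4

instance : Finite 𝒢 := FixJ4.facts.1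

theorem eqY {p : List ℕ × List ℕ} (h : p ∈ eqsY) : evG LY p.1 = evG LY p.2 := soundY.1 p h
theorem neY {p : List ℕ × List ℕ} (h : p ∈ neqsY) : evG LY p.1 ≠ evG LY p.2 := soundY.2 p h

/-- elements of order 11 of the two classes, normalized by `f` -/
noncomputable abbrev uA : 𝒢 := e 18
noncomputable abbrev uB : 𝒢 := e 21
/-- a conjugating element -/
noncomputable abbrev G2 : 𝒢 := e 25
noncomputable abbrev H2 : 𝒢 := e 24

theorem G2_H2 : G2 * H2 = 1 := by
  have h := eqY (p := ([25, 24], [])) (by decide +kernel)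
  simpa only [evG_cons, evG_nil, mul_one] using h

theorem H2_eq : H2 = G2⁻¹ := eq_inv_of_mul_eq_one_right G2_H2

theorem f_eq' : H2 * e 22 * G2 = f := by
  have h := eqY (p := ([24, 22, 25], [33])) (by decide +kernel)
  simp only [evG_cons, evG_nil, mul_one] at h
  rw [← e_f, mul_assoc]
  exact h

theorem uB_eq : uB = H2 * e 23 * G2 := by
  have h := eqY (p := ([21], [24, 23, 25])) (by decide +kernel)
  simp only [evG_cons, evG_nil, mul_one] at h
  rw [mul_assoc]
  exact h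

theorem e_x : e 56 = x := (shift 26).trans g26
theorem e_y : e 57 = y := (shift 27).trans g27
theorem e_yi : e 58 = y⁻¹ := (shift 28).trans g28

theorem e23_eq : e 23 = phi H859.M24Eleven.f := by
  have h := eqY (p := ([23], [56, 57, 56, 57, 56, 57, 56, 58, 56, 58, 56, 58])) (by decide +kernel)
  simp only [evG_cons, evG_nil, mul_one] at h
  have h2 : phi H859.M24Eleven.f = x * (y * (x * (y * (x * (y * (x * (y⁻¹ * (x * (y⁻¹ * (x * y⁻¹)))))))))) := by
    simp [H859.M24Eleven.f, H859.M24Eleven.wf, wordG, letG0, letG1, letG2, phi_X, phi_Y]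
  rw [h2, ← e_x, ← e_yi, ← e_y]
  exact h

theorem f_uB : f * uB = uB ^ 3 * f := by
  have h := eqY (p := ([33, 21], [21, 21, 21, 33])) (by decide +kernel)
  simp only [evG_cons, evG_nil, mul_one] at h
  rw [← e_f]
  simpa only [pow_succ, pow_zero, one_mul, mul_assoc] using h

theorem f_uA : f * uA = uA ^ 3 * f := by
  have h := eqY (p := ([33, 18], [18, 18, 18, 33])) (by decide +kernel)
  simp only [evG_cons, evG_nil, mul_one] at h
  rw [← e_f]
  simpa only [pow_succ, pow_zero, one_mul, mul_assoc] using h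

theorem uA_pow : uA ^ 11 = 1 := by
  have h := eqY (p := ([18, 18, 18, 18, 18, 18, 18, 18, 18, 18, 18], [])) (by decide +kernel)
  simp only [evG_cons, evG_nil, mul_one] at h
  simpa only [pow_succ, pow_zero, one_mul, mul_assoc] using h

theorem uA_ne : uA ≠ 1 := by
  have h := neY (p := ([18], [])) (by decide +kernel)
  simpa only [evG_cons, evG_nil, mul_one] using h

theorem uB_ne : uB ≠ 1 := by
  have h := neY (p := ([21], [])) (by decide +kernel)
  simpa only [evG_cons, evG_nil, mul_one] using h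

theorem rA_f : e 15 * f = f * e 15 := by
  have h := eqY (p := ([15, 33], [33, 15])) (by decide +kernel)
  simp only [evG_cons, evG_nil, mul_one] at h
  rw [← e_f]; exact h

theorem rB_f : e 14 * f = f * e 14 := by
  have h := eqY (p := ([14, 33], [33, 14])) (by decide +kernel)
  simp only [evG_cons, evG_nil, mul_one] at h
  rw [← e_f]; exact h

theorem rA_uA : e 15 * uA = uA ^ 10 * e 15 := by
  have h := eqY (p := ([15, 18], [18, 18, 18, 18, 18, 18, 18, 18, 18, 18, 15])) (by decide +kernel)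
  simp only [evG_cons, evG_nil, mul_one] at h
  simpa only [pow_succ, pow_zero, one_mul, mul_assoc] using h

theorem rB_uB : e 14 * uB = uB ^ 10 * e 14 := by
  have h := eqY (p := ([14, 21], [21, 21, 21, 21, 21, 21, 21, 21, 21, 21, 14])) (by decide +kernel)
  simp only [evG_cons, evG_nil, mul_one] at h
  simpa only [pow_succ, pow_zero, one_mul, mul_assoc] using h

/-- an element of order 3 of the centralizer of `uA` and `f` -/
noncomputable abbrev yA : 𝒢 := e 13

theorem yA_ne : yA ≠ 1 := by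
  have h := neY (p := ([13], [])) (by decide +kernel)
  simpa only [evG_cons, evG_nil, mul_one] using h

theorem yA_pow : yA ^ 3 = 1 := by
  have h := eqY (p := ([13, 13, 13], [])) (by decide +kernel)
  simp only [evG_cons, evG_nil, mul_one] at h
  simpa only [pow_succ, pow_zero, one_mul, mul_assoc] using h

theorem yA_uA : yA * uA = uA * yA := by
  have h := eqY (p := ([13, 18], [18, 13])) (by decide +kernel)
  simpa only [evG_cons, evG_nil, mul_one] using h

theorem orderOf_uA : orderOf uA = 11 := by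
  have : Fact (Nat.Prime 11) := ⟨by norm_num⟩
  exact orderOf_eq_prime uA_pow uA_ne

theorem conj_pow' {a b : 𝒢} (n : ℕ) : (b⁻¹ * a * b) ^ n = b⁻¹ * a ^ n * b := by
  have e : b⁻¹ * a * b = b⁻¹ * a * (b⁻¹)⁻¹ := by rw [inv_inv]
  rw [e, conj_pow, inv_inv]

theorem uB_pow : uB ^ 11 = 1 := by
  rw [uB_eq, H2_eq, conj_pow', e23_eq, ← map_pow, H859.M24Eleven.f_pow, map_one]
  group

theorem orderOf_uB : orderOf uB = 11 := by
  have : Fact (Nat.Prime 11) := ⟨by norm_num⟩
  exact orderOf_eq_prime uB_pow uB_ne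

theorem orderOf_f : orderOf f = 5 := by
  have : Fact (Nat.Prime 5) := ⟨by norm_num⟩
  exact orderOf_eq_prime f_pow Loc5.f_ne

/-! ### The classes of elements of order 11 -/

theorem conj_x_uB : IsConj H859.SylEleven.x uB := by
  obtain ⟨g, hg⟩ := H859.SylEleven.exists_x.choose_spec.2
  have h1 : H859.SylEleven.x = g * phi H859.M24Eleven.f * g⁻¹ := hg
  rw [isConj_iff]
  refine ⟨H2 * g⁻¹, ?_⟩
  rw [h1, uB_eq, e23_eq, H2_eq]
  group

theorem not_conj_x_uA : ¬ IsConj H859.SylEleven.x uA := by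
  intro h
  have h1 := H859.ClassEleven.card_centralizer_conj h
  rw [H859.SylEleven.card_centralizer_x_eq] at h1
  have h2 : yA ∈ Subgroup.centralizer {uA} := Subgroup.mem_centralizer_singleton_iff.2 yA_uA
  have h3 : orderOf yA = 3 := by
    have : Fact (Nat.Prime 3) := ⟨by norm_num⟩
    exact orderOf_eq_prime yA_pow yA_ne
  have h4 : orderOf yA ∣ Nat.card (Subgroup.centralizer {uA} : Subgroup 𝒢) := by
    have := orderOf_dvd_natCard (⟨yA, h2⟩ : Subgroup.centralizer {uA})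
    rwa [Subgroup.orderOf_mk] at this
  rw [h3, ← h1] at h4
  norm_num at h4

/-- **an element of order 11 is conjugate to `uA` or to `uB`** -/
theorem conj_or {w : 𝒢} (hw : orderOf w = 11) : IsConj w uA ∨ IsConj w uB := by
  have hA : IsConj uA H859.NU.c := (H859.ClassEleven.isConj_or orderOf_uA).resolve_left
    fun h => not_conj_x_uA h.symm
  rcases H859.ClassEleven.isConj_or hw with h | h
  · exact Or.inr (h.trans conj_x_uB)
  · exact Or.inl (h.trans hA.symm)

theorem not25 : ¬ 25 ∣ Nat.card 𝒢 := by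
  rw [FixJ4.card_J4]
  norm_num

theorem act_of {a b : 𝒢} {n : ℕ} (h : a * b = b ^ n * a) : a * b * a⁻¹ = b ^ n := by
  rw [h, mul_inv_cancel_right]

theorem inv_of {a b : 𝒢} (hb : b ^ 11 = 1) (h : a * b = b ^ 10 * a) : a * b * a⁻¹ = b⁻¹ := by
  rw [act_of h, eq_inv_iff_mul_eq_one, ← pow_succ]
  exact hb

/-- **the pairs `(f, u)` with `f u f⁻¹ = u³`** -/
theorem pair {f' u' : 𝒢} (hf : f' ^ 5 = 1) (hu : u' ^ 11 = 1) (hu1 : u' ≠ 1) (hfu : f' * u' * f'⁻¹ = u' ^ 3) :
    ∃ g : 𝒢, g * f' * g⁻¹ = f ∧ (g * u' * g⁻¹ = uA ∨ g * u' * g⁻¹ = uB) := by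
  have p11 : Fact (Nat.Prime 11) := ⟨by norm_num⟩
  have p5 : Fact (Nat.Prime 5) := ⟨by norm_num⟩
  have h11 : orderOf u' = 11 := orderOf_eq_prime hu hu1
  have hf1 : f' ≠ 1 := by
    rintro rfl
    rw [one_mul, inv_one, mul_one] at hfu
    have h2 : u' ^ 2 = 1 := by
      have h3 : u' ^ 2 * u' = 1 * u' := by rw [← pow_succ, one_mul, ← hfu]
      exact mul_right_cancel h3
    have h3 := orderOf_dvd_of_pow_eq_one h2
    rw [h11] at h3
    norm_num at h3
  have h5 : orderOf f' = 5 := orderOf_eq_prime hf hf1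
  rcases conj_or h11 with h | h
  · obtain ⟨g, h1, h2⟩ := PairAbs.pair_conj not25 orderOf_uA orderOf_f (act_of f_uA) rA_f
      (inv_of uA_pow rA_uA) h5 hfu h
    exact ⟨g, h1, Or.inl h2⟩
  · obtain ⟨g, h1, h2⟩ := PairAbs.pair_conj not25 orderOf_uB orderOf_f (act_of f_uB) rB_f
      (inv_of uB_pow rB_uB) h5 hfu h
    exact ⟨g, h1, Or.inr h2⟩

end Cfsg.Agent.H831.JM.Pair
end

-- part: H831/JM/Point
section
/-!
# The point fixed by `uB` and `f` (helper831)
-/

set_option autoImplicit false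

open Cfsg

namespace Cfsg.Agent.H831.JM.Point

open Cfsg.Agent.Lib Cfsg.Agent.Lib.F2Mat Cfsg.Agent.Lib.F2MatGroup
open Cfsg.Agent.J4.Rep112 Cfsg.Agent.J4.Pres Cfsg.Agent.J4.M24Hom Cfsg.Agent.J4.Nodes
open Cfsg.Agent.J4.Upper (rw20 evalW)
open Cfsg.Agent.J4.Invol (EJ)
open Cfsg.Agent.H858 Cfsg.Agent.H858.VK Cfsg.Agent.H858.Data Cfsg.Agent.H858.Elem Cfsg.Agent.H858.Fix
open Cfsg.Agent.H831.JM.Tree Cfsg.Agent.H831.JM.EnvData Cfsg.Agent.H831.JM.Env Cfsg.Agent.H831.JM.JList
open Cfsg.Agent.H831.JM.Pair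

local notation "𝒢" => Cfsg.Spor.J4

/-- the row vector of the point `EJ` -/
def p0 : ℕ := 5192296858534827628530496329220095

/-- the stabilizer of a row vector -/
noncomputable def Stv (v : ℕ) : Subgroup 𝒢 where
  carrier := {g | vv v g = F2Mat.toVec 112 v}
  one_mem' := by
    show vv v 1 = _
    unfold vv
    rw [map_one, Units.val_one, Matrix.vecMul_one]
  mul_mem' := by
    intro a b (ha : vv v a = _) (hb : vv v b = _)
    show vv v (a * b) = _
    unfold vv at ha hb ⊢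
    rw [map_mul, Units.val_mul, ← Matrix.vecMul_vecMul, ha, hb]
  inv_mem' := by
    intro a (ha : vv v a = _)
    show vv v a⁻¹ = _
    unfold vv at ha ⊢
    conv_lhs => rw [← ha]
    rw [Matrix.vecMul_vecMul, ← Units.val_mul, ← map_mul, mul_inv_cancel, map_one, Units.val_one, Matrix.vecMul_one]

theorem mem_Stv {v : ℕ} {g : 𝒢} : g ∈ Stv v ↔ vv v g = F2Mat.toVec 112 v := Iff.rfl

/-- number of a letter -/
def ix (a : ℕ) : ℕ := [56, 57, 58, 59].getD a 58

/-- the image of a row vector under a word -/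
noncomputable def wv (L : List ℕ) (w : List ℕ) : ℕ → ℕ :=
  List.rec (motive := fun _ => ℕ → ℕ) (fun v => v)
    (fun a _ ih v => force (F2Mat.vmul 112 v (get (F2Mat.one 112) L (ix a))) ih) w

theorem wv_cons (L : List ℕ) (a : ℕ) (w : List ℕ) (v : ℕ) :
    wv L (a :: w) v = wv L w (F2Mat.vmul 112 v (get (F2Mat.one 112) L (ix a))) := by
  show force _ _ = _
  generalize F2Mat.vmul 112 v (get (F2Mat.one 112) L (ix a)) = u
  rw [force_eq]
  rfl

/-- the check -/
noncomputable def chkP (L : List ℕ) : Bool :=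
  (([56, 57, 43, 44, 45, 46, 47, 48, 49, 50, 51, 52, 53] : List ℕ).all fun i =>
    Nat.beq (F2Mat.vmul 112 p0 (get (F2Mat.one 112) L i)) p0) &&
  ((List.range 20).all fun i => Nat.beq i 0 || !Nat.beq (wv L (rw20 i) p0) p0) &&
  Nat.beq (F2Mat.vmul 112 p0 (get (F2Mat.one 112) L 25)) pB

theorem checkP : run 112 slpAll codes chkP = true := by
  delta chkP wv
  rw [Lib.F112.run_eq, Lib.F112.vm_eq]
  decide +kernel

theorem e_t : e 59 = t := (shift 29).trans g29

theorem letter {a : ℕ} (ha : a < 4) : e (ix a) = if a = 3 then t else phi (letG a) := by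
  interval_cases a
  · exact e_x.trans phi_X.symm
  · exact e_y.trans phi_Y.symm
  · refine e_yi.trans ?_
    show y⁻¹ = phi YM⁻¹
    rw [map_inv, phi_Y]
  · exact e_t

theorem wv_eq {L' : List ℕ} (h' : List.Forall₂ (Codes 112) (LY.map rho) L') {w : List ℕ} (hw : ∀ a ∈ w, a < 4)
    {v u : ℕ} {g : 𝒢} (hg : F2Mat.toVec 112 u = vv v g) :
    F2Mat.toVec 112 (wv L' w u) = vv v (g * evalW phi t w) := by
  induction w generalizing u g with
  | nil => rw [show evalW phi t [] = 1 from rfl, mul_one]; exact hg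
  | cons a w ih =>
    have h1 := codes_e h' (ix a)
    rw [wv_cons, ih (fun a ha => hw a (List.mem_cons_of_mem _ ha)) (vv_mul hg h1)]
    congr 1
    rw [mul_assoc, letter (hw a List.mem_cons_self)]
    rfl

theorem rw20_lt : ∀ i < 20, ∀ a ∈ rw20 i, a < 4 := by decide +kernel

theorem facts : (∀ i ∈ ([56, 57, 43, 44, 45, 46, 47, 48, 49, 50, 51, 52, 53] : List ℕ), e i ∈ Stv p0) ∧
    (∀ i : Fin 20, FixJ4.r i ∈ Stv p0 → i = 0) ∧ F2Mat.toVec 112 pB = vv p0 G2 := by
  obtain ⟨L', h', hk⟩ := codesY checkP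
  unfold chkP at hk
  rw [Bool.and_eq_true, Bool.and_eq_true] at hk
  obtain ⟨⟨h1, h2⟩, h3⟩ := hk
  refine ⟨?_, ?_, ?_⟩
  · intro i hi
    have h4 := Nat.eq_of_beq_eq_true (List.all_eq_true.1 h1 i hi)
    have h5 := codes_e h' i
    rw [mem_Stv]
    unfold vv
    unfold Codes at h5
    rw [h5, ← toVec_vmul, h4]
  · intro i hi
    have h4 := List.all_eq_true.1 h2 i (List.mem_range.2 i.2)
    rw [Bool.or_eq_true] at h4
    rcases h4 with h4 | h4
    · exact Fin.ext (Nat.eq_of_beq_eq_true h4)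
    · exfalso
      have h5 := wv_eq h' (rw20_lt i i.2) (v := p0) (u := p0) (g := 1) (by
        unfold vv; rw [map_one, Units.val_one, Matrix.vecMul_one])
      rw [one_mul] at h5
      have h6 : vv p0 (evalW phi t (rw20 i)) = F2Mat.toVec 112 p0 := hi
      rw [h6] at h5
      have h7 : wv L' (rw20 i) p0 = p0 := by
        refine toVec_inj ?_ (by norm_num [p0]) h5
        have key : ∀ (w : List ℕ) (v : ℕ), v < 2 ^ 112 → wv L' w v < 2 ^ 112 := by
          intro w
          induction w with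
          | nil => intro v hv; exact hv
          | cons a w ih => intro v _; rw [wv_cons]; exact ih _ (vmul_lt _ _)
        exact key _ _ (by norm_num [p0])
      rw [h7, Nat.beq_refl] at h4
      exact absurd h4 (by decide)
  · have h4 := Nat.eq_of_beq_eq_true h3
    have h5 := codes_e h' 25
    unfold vv
    unfold Codes at h5
    rw [h5, ← toVec_vmul, h4]

theorem phi_mem (m : M24) : phi m ∈ Stv p0 := by
  have h1 : (Subgroup.closure ({XM, YM} : Set M24)) ≤ (Stv p0).comap phi := by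
    rw [Subgroup.closure_le]
    rintro z (rfl | rfl)
    · show phi XM ∈ Stv p0
      rw [phi_X, ← e_x]
      exact facts.1 56 (by simp)
    · show phi YM ∈ Stv p0
      rw [phi_Y, ← e_y]
      exact facts.1 57 (by simp)
  rw [closure_XYM] at h1
  exact h1 (Subgroup.mem_top m)

theorem EJ_le : EJ ≤ Stv p0 := by
  intro x hx
  obtain ⟨v, -, rfl⟩ := mem_EJ.1 hx
  unfold V
  have h1 : ∀ a ∈ lJ, a ∈ Stv p0 := by
    intro a ha
    obtain ⟨k, hk, hka⟩ := List.getElem_of_mem ha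
    have hk' : k < 11 := by rwa [lJ_length] at hk
    have h2 : getG LX (13 + k) = lJ.getD k 1 := getG_LX hk'
    have h3 : e (30 + (13 + k)) = a :=
      (shift (13 + k)).trans (h2.trans ((List.getD_eq_getElem _ _ hk).trans hka))
    rw [← h3]
    refine facts.1 _ ?_
    interval_cases k <;> simp
  exact Cfsg.Agent.J4.Beta.beta_mem (Stv p0) lJ h1 v

/-- **the stabilizer of `p0`** -/
theorem Stv_p0 : Stv p0 = FixJ4.B := by
  apply le_antisymm
  · intro g hg
    obtain ⟨i, m, h⟩ := FixJ4.cover (QuotientGroup.mk g)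
    have h1 : (QuotientGroup.mk g : 𝒢 ⧸ FixJ4.B) = QuotientGroup.mk (phi m * (FixJ4.r i)⁻¹) := h
    rw [QuotientGroup.eq] at h1
    have hB : FixJ4.B ≤ Stv p0 := by
      intro x hx
      obtain ⟨a, ha, k, rfl⟩ := mem_B.1 hx
      exact Subgroup.mul_mem _ (EJ_le ha) (phi_mem k)
    have h2 : FixJ4.r i ∈ Stv p0 := by
      have e1 : FixJ4.r i = (g⁻¹ * (phi m * (FixJ4.r i)⁻¹))⁻¹ * g⁻¹ * phi m := by group
      rw [e1]
      exact Subgroup.mul_mem _ (Subgroup.mul_mem _ (Subgroup.inv_mem _ (hB h1)) (Subgroup.inv_mem _ hg)) (phi_mem m)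
    have h3 := facts.2.1 i h2
    subst h3
    have h4 : FixJ4.r 0 = 1 := rfl
    rw [h4, inv_one, mul_one] at h1
    have e2 : g = phi m * (g⁻¹ * phi m)⁻¹ := by group
    rw [e2]
    exact Subgroup.mul_mem _ (mem_B.2 ⟨1, Subgroup.one_mem _, m, (one_mul _).symm⟩) (Subgroup.inv_mem _ h1)
  · intro x hx
    obtain ⟨a, ha, k, rfl⟩ := mem_B.1 hx
    exact Subgroup.mul_mem _ (EJ_le ha) (phi_mem k)

/-- the stabilizer of the point fixed by `uB` and `f` -/
noncomputable def MB : Subgroup 𝒢 := Stv pB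

theorem mem_MB {g : 𝒢} : g ∈ MB ↔ G2 * g * G2⁻¹ ∈ FixJ4.B := by
  have h := facts.2.2
  have key : ∀ x : 𝒢, vv pB x = vv p0 (G2 * x) := by
    intro x
    unfold vv at h ⊢
    rw [h, map_mul, Units.val_mul, Matrix.vecMul_vecMul]
  unfold MB
  rw [← Stv_p0, mem_Stv, mem_Stv, key, h]
  constructor
  · intro h1
    have h2 : vv p0 (G2 * g * G2⁻¹) = vv p0 (G2 * G2⁻¹) := by
      unfold vv at h1 ⊢
      rw [map_mul rho (G2 * g), Units.val_mul, ← Matrix.vecMul_vecMul, h1, Matrix.vecMul_vecMul, ← Units.val_mul,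
        ← map_mul]
    rw [h2, mul_inv_cancel]
    unfold vv
    rw [map_one, Units.val_one, Matrix.vecMul_one]
  · intro h1
    have h2 : vv p0 (G2 * g) = vv p0 (G2 * g * G2⁻¹ * G2) := by rw [inv_mul_cancel_right]
    rw [h2]
    unfold vv at h1 ⊢
    rw [map_mul rho (G2 * g * G2⁻¹), Units.val_mul, ← Matrix.vecMul_vecMul, h1]

end Cfsg.Agent.H831.JM.Point
end

-- part: H831/JM/NoIn
section
/-!
# A simple group in the stabilizer of the point fixed by `uB` and `f` (helper831)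
-/

set_option autoImplicit false

open Cfsg

namespace Cfsg.Agent.H831.JM.NoIn

open Cfsg.Agent.Lib Cfsg.Agent.Lib.F2Mat Cfsg.Agent.Lib.F2MatGroup
open Cfsg.Agent.J4.Rep112 Cfsg.Agent.J4.Pres Cfsg.Agent.J4.M24Hom Cfsg.Agent.J4.Nodes
open Cfsg.Agent.J4.Invol (EJ)
open Cfsg.Agent.H858 Cfsg.Agent.H858.VK Cfsg.Agent.H858.Data Cfsg.Agent.H858.Elem Cfsg.Agent.H858.Fix
open Cfsg.Agent.H831.JM.Env Cfsg.Agent.H831.JM.JList Cfsg.Agent.H831.JM.Pair Cfsg.Agent.H831.JM.Point

local notation "𝒢" => Cfsg.Spor.J4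

/-- the word of the element of order 5 of `M24` -/
def wA : List ℕ := [56, 57, 56, 58, 56, 57, 56, 58, 56, 58, 56, 58, 56, 58, 56, 58, 56, 58, 56, 58, 56, 57, 56, 58, 56, 58,
    56, 57, 56, 57, 56, 57, 56, 58, 56, 58, 56, 57, 56, 58, 56, 58, 56, 58, 56, 58, 56, 58, 56, 57, 56, 58, 56, 57,
    56]

theorem exists_a : ∃ a : M24, phi a = e 22 := by
  have h := eqY (p := ([22], wA)) (by decide +kernel)
  simp only [evG_cons, evG_nil, mul_one] at h
  have key : ∀ w : List ℕ, (∀ i ∈ w, i = 56 ∨ i = 57 ∨ i = 58) → evG LY w ∈ phi.range := by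
    intro w
    induction w with
    | nil => intro _; exact Subgroup.one_mem _
    | cons i w ih =>
      intro hw
      rw [evG_cons]
      refine Subgroup.mul_mem _ ?_ (ih fun j hj => hw j (List.mem_cons_of_mem _ hj))
      rcases hw i List.mem_cons_self with rfl | rfl | rfl
      · exact ⟨XM, phi_X.trans e_x.symm⟩
      · exact ⟨YM, phi_Y.trans e_y.symm⟩
      · refine ⟨YM⁻¹, ?_⟩
        rw [map_inv, phi_Y]
        exact e_yi.symm
  have h2 := key wA (by decide +kernel)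
  rw [← h] at h2
  exact h2

/-- the element of order 5 of `M24` -/
noncomputable def aM : M24 := exists_a.choose
theorem phi_aM : phi aM = e 22 := exists_a.choose_spec

/-- the Frobenius group of order 55 of `M24` -/
noncomputable def P : Subgroup M24 := Subgroup.closure {aM, H859.M24Eleven.f}

theorem aM_mem : aM ∈ P := Subgroup.subset_closure (Or.inl rfl)
theorem f_mem : H859.M24Eleven.f ∈ P := Subgroup.subset_closure (Or.inr rfl)

theorem dvd_P : 55 ∣ Nat.card P := by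
  have h1 : 11 ∣ Nat.card P := by
    rw [← H859.M24Eleven.orderOf_f]
    have := orderOf_dvd_natCard (⟨H859.M24Eleven.f, f_mem⟩ : P)
    rwa [Subgroup.orderOf_mk] at this
  have h2 : orderOf aM = 5 := by
    have h3 : orderOf (phi aM) = orderOf f := by
      rw [phi_aM, ← f_eq', H2_eq]
      have e1 : G2⁻¹ * e 22 * G2 = (MulAut.conj G2⁻¹) (e 22) := by
        rw [MulAut.conj_apply, inv_inv]
      rw [e1]
      exact (MulEquiv.orderOf_eq _ _).symm
    have h4 : Function.Injective phi := phi_injective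
    rw [← orderOf_injective phi h4, h3, orderOf_f]
  have h5 : 5 ∣ Nat.card P := by
    rw [← h2]
    have := orderOf_dvd_natCard (⟨aM, aM_mem⟩ : P)
    rwa [Subgroup.orderOf_mk] at this
  exact Nat.Coprime.mul_dvd_of_dvd_of_dvd (by norm_num : Nat.Coprime 5 11) h5 h1

theorem ncard_le : (fixSet FixJ4.B (P.map phi)).ncard ≤ 1 := by
  refine (FixJ4.card_fix_le P).trans ?_
  have h0 : ∀ i : Fin 20, i ≠ 0 → (fixSet (FixJ4.S i) P).ncard = 0 := by
    intro i hi
    rw [Set.ncard_eq_zero (Set.toFinite _), Set.eq_empty_iff_forall_notMem]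
    intro c hc
    obtain ⟨m, rfl⟩ := QuotientGroup.mk_surjective c
    rw [mk_mem_fixSet] at hc
    have h1 : P.map (MulAut.conj m⁻¹).toMonoidHom ≤ FixJ4.S i := by
      rintro _ ⟨p, hp, rfl⟩
      have := hc p hp
      show m⁻¹ * p * (m⁻¹)⁻¹ ∈ FixJ4.S i
      rwa [inv_inv]
    have h2 := Subgroup.card_dvd_of_le h1
    rw [Subgroup.card_map_of_injective (MulAut.conj m⁻¹).injective, FixJ4.card_S] at h2
    have h3 : ∀ i : Fin 20, i ≠ 0 → ¬ 55 ∣ FixJ4.so i := by decide +kernel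
    exact h3 i hi (dvd_P.trans h2)
  rw [Finset.sum_eq_single (0 : Fin 20) (fun i _ hi => h0 i hi) (fun h => absurd (Finset.mem_univ _) h)]
  have h1 : FixJ4.S 0 = ⊤ := by
    apply Subgroup.eq_top_of_card_eq
    rw [FixJ4.card_S, FixJ4.card_M24]
    rfl
  rw [Set.ncard_le_one (Set.toFinite _)]
  intro a _ b _
  obtain ⟨x, rfl⟩ := QuotientGroup.mk_surjective a
  obtain ⟨y, rfl⟩ := QuotientGroup.mk_surjective b
  rw [QuotientGroup.eq, h1]
  exact Subgroup.mem_top _

/-- the conjugate of `phi p` -/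
theorem conj_P {S : Subgroup 𝒢} (hu : uB ∈ S) (hf : f ∈ S) {p : M24} (hp : p ∈ P) : G2⁻¹ * phi p * G2 ∈ S := by
  have h1 : P ≤ (S.map (MulAut.conj G2).toMonoidHom).comap phi := by
    unfold P
    rw [Subgroup.closure_le]
    rintro z (rfl | rfl)
    · refine ⟨f, hf, ?_⟩
      show G2 * f * G2⁻¹ = phi aM
      rw [← f_eq', phi_aM, H2_eq]
      group
    · refine ⟨uB, hu, ?_⟩
      show G2 * uB * G2⁻¹ = phi H859.M24Eleven.f
      rw [uB_eq, ← e23_eq, H2_eq]
      group
  obtain ⟨k, hk, h2⟩ := h1 hp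
  have h3 : G2 * k * G2⁻¹ = phi p := h2
  rw [← h3]
  have e1 : G2⁻¹ * (G2 * k * G2⁻¹) * G2 = k := by group
  rw [e1]
  exact hk

/-- the normalizer of a subgroup of `MB` containing `uB` and `f` is in `MB` -/
theorem norm_le {S : Subgroup 𝒢} (hu : uB ∈ S) (hf : f ∈ S) (hS : S ≤ MB) :
    Subgroup.normalizer (S : Set 𝒢) ≤ MB := by
  intro n hn
  rw [mem_MB]
  have h1 : (QuotientGroup.mk (1 : 𝒢) : 𝒢 ⧸ FixJ4.B) ∈ fixSet FixJ4.B (P.map phi) := by
    rw [mk_mem_fixSet]
    rintro _ ⟨p, hp, rfl⟩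
    rw [inv_one, one_mul, mul_one]
    exact mem_B.2 ⟨1, Subgroup.one_mem _, p, (one_mul _).symm⟩
  have h2 : (QuotientGroup.mk (G2 * n * G2⁻¹) : 𝒢 ⧸ FixJ4.B) ∈ fixSet FixJ4.B (P.map phi) := by
    rw [mk_mem_fixSet]
    rintro _ ⟨p, hp, rfl⟩
    have h3 : n⁻¹ * (G2⁻¹ * phi p * G2) * n ∈ S := by
      have h4 := (Subgroup.mem_normalizer_iff.1 (Subgroup.inv_mem _ hn) _).1 (conj_P hu hf hp)
      rwa [inv_inv] at h4
    have h4 := mem_MB.1 (hS h3)
    have e1 : (G2 * n * G2⁻¹)⁻¹ * phi p * (G2 * n * G2⁻¹) = G2 * (n⁻¹ * (G2⁻¹ * phi p * G2) * n) * G2⁻¹ := by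
      group
    rw [e1]
    exact h4
  have h3 := (Set.ncard_le_one (Set.toFinite _)).1 ncard_le _ h1 _ h2
  rw [QuotientGroup.eq, inv_one, one_mul] at h3
  exact h3

theorem MB_ne : MB ≠ ⊤ := by
  intro h
  have h1 : FixJ4.B = ⊤ := by
    rw [eq_top_iff]
    intro x _
    have h2 : G2⁻¹ * x * G2 ∈ MB := by rw [h]; exact Subgroup.mem_top _
    have h3 := mem_MB.1 h2
    have e1 : G2 * (G2⁻¹ * x * G2) * G2⁻¹ = x := by group
    rwa [e1] at h3
  have h2 := FixJ4.index_B
  rw [h1, Subgroup.index_top] at h2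
  norm_num at h2

/-- the elementary abelian group of the point -/
noncomputable def VB : Subgroup 𝒢 := EJ.map (MulAut.conj G2⁻¹).toMonoidHom

theorem mem_VB {x : 𝒢} : x ∈ VB ↔ G2 * x * G2⁻¹ ∈ EJ := by
  unfold VB
  constructor
  · rintro ⟨v, hv, rfl⟩
    show G2 * (G2⁻¹ * v * (G2⁻¹)⁻¹) * G2⁻¹ ∈ EJ
    have e1 : G2 * (G2⁻¹ * v * (G2⁻¹)⁻¹) * G2⁻¹ = v := by group
    rwa [e1]
  · intro h
    refine ⟨_, h, ?_⟩
    show G2⁻¹ * (G2 * x * G2⁻¹) * (G2⁻¹)⁻¹ = x
    group

theorem VB_le : VB ≤ MB := by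
  intro x hx
  rw [mem_MB]
  exact mem_B.2 ⟨_, mem_VB.1 hx, 1, by rw [map_one, mul_one]⟩

theorem VB_norm {m x : 𝒢} (hm : m ∈ MB) (hx : x ∈ VB) : m * x * m⁻¹ ∈ VB := by
  rw [mem_VB] at hx ⊢
  have h1 : FixJ4.B ≤ Subgroup.normalizer (EJ : Set 𝒢) := by
    intro z hz
    obtain ⟨a, ha, k, rfl⟩ := mem_B.1 hz
    exact Subgroup.mul_mem _ (Subgroup.le_normalizer ha) (phi_norm ⟨k, rfl⟩)
  have h2 := (Subgroup.mem_normalizer_iff.1 (h1 (mem_MB.1 hm)) _).1 hx
  have e1 : G2 * m * G2⁻¹ * (G2 * x * G2⁻¹) * (G2 * m * G2⁻¹)⁻¹ = G2 * (m * x * m⁻¹) * G2⁻¹ := by group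
  rwa [e1] at h2

theorem VB_comm {x y : 𝒢} (hx : x ∈ VB) (hy : y ∈ VB) : x * y = y * x := by
  have h := Cfsg.Agent.J4.Invol.EJ_comm rho_injective _ _ (mem_VB.1 hx) (mem_VB.1 hy)
  have e1 : x * y = G2⁻¹ * (G2 * x * G2⁻¹ * (G2 * y * G2⁻¹)) * G2 := by group
  rw [e1, h]
  group

theorem VB_ne : ∃ x ∈ VB, x ≠ 1 := by
  refine ⟨G2⁻¹ * V 1 * G2, mem_VB.2 ?_, ?_⟩
  · have e1 : G2 * (G2⁻¹ * V 1 * G2) * G2⁻¹ = V 1 := by group
    rw [e1]
    exact V_mem 1
  · intro h
    have h1 : V 1 = 1 := by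
      have e1 : V 1 = G2 * (G2⁻¹ * V 1 * G2) * G2⁻¹ := by group
      rw [e1, h]; group
    rw [← V_zero] at h1
    exact absurd (V_inj (by norm_num) (by norm_num) h1) (by norm_num)

/-- **no maximal subgroup with a simple socle in `MB` containing `uB` and `f`** -/
theorem no_in_MB {M S : Subgroup 𝒢} (h : Cfsg.Agent.H860.JM.NL M S) (hu : uB ∈ S) (hf : f ∈ S) (hS : S ≤ MB) :
    False := by
  have h1 : M = MB := by
    rcases h.coatom.le_iff.1 (h.norm.trans (norm_le hu hf hS)) with h2 | h2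
    · exact absurd h2 MB_ne
    · exact h2.symm
  have hsimple := h.simple
  let W : Subgroup S := VB.subgroupOf S
  have hW : W.Normal := ⟨fun w hw s => Subgroup.mem_subgroupOf.2 (by
    have := VB_norm (hS s.2) (Subgroup.mem_subgroupOf.1 hw)
    exact this)⟩
  rcases hW.eq_bot_or_eq_top with h2 | h2
  · obtain ⟨x, hx, hx1⟩ := VB_ne
    apply hx1
    have h3 : x ∈ Subgroup.centralizer (S : Set 𝒢) := by
      rw [Subgroup.mem_centralizer_iff]
      intro s hs
      have hsS : s ∈ S := hs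
      have h4 : s * x * s⁻¹ * x⁻¹ ∈ VB := VB.mul_mem (VB_norm (hS hsS) hx) (VB.inv_mem hx)
      have h5 : s * x * s⁻¹ * x⁻¹ ∈ S := by
        have hxM : x ∈ M := h1 ▸ VB_le hx
        have h6 := (Subgroup.mem_normalizer_iff.1 (h.norm hxM) _).1 (S.inv_mem hsS)
        have e1 : s * x * s⁻¹ * x⁻¹ = s * (x * s⁻¹ * x⁻¹) := by group
        rw [e1]
        exact S.mul_mem hsS h6
      have h6 : (⟨_, h5⟩ : S) ∈ W := Subgroup.mem_subgroupOf.2 h4
      rw [h2, Subgroup.mem_bot] at h6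
      have h7 : s * x * s⁻¹ * x⁻¹ = 1 := congrArg Subtype.val h6
      have e2 : s * x = s * x * s⁻¹ * x⁻¹ * (x * s) := by group
      rw [e2, h7, one_mul]
    rw [h.cent, Subgroup.mem_bot] at h3
    exact h3
  · apply h.nab
    have h3 : ∀ s : S, (s : 𝒢) ∈ VB := fun s =>
      Subgroup.mem_subgroupOf.1 (show s ∈ W by rw [h2]; exact Subgroup.mem_top _)
    exact ⟨⟨fun a b => Subtype.ext (VB_comm (h3 a) (h3 b))⟩⟩

end Cfsg.Agent.H831.JM.NoIn
end

-- part: H831/JM/Fm
section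
/-!
# Formulas checked for all elements of `J` by the kernel (helper831)
-/

set_option autoImplicit false
set_option Elab.async false

open Cfsg

namespace Cfsg.Agent.H831.JM.FmJ

open Cfsg.Agent.Lib Cfsg.Agent.Lib.F2Mat Cfsg.Agent.Lib.F2MatGroup
open Cfsg.Agent.J4.Rep112
open Cfsg.Agent.H935.J4Max.ListCl (getG_runG_add)
open Cfsg.Agent.H858 Cfsg.Agent.H858.VK Cfsg.Agent.H858.Data Cfsg.Agent.H858.Elem
open Cfsg.Agent.H831.JM.Tree Cfsg.Agent.H831.JM.EnvData Cfsg.Agent.H831.JM.Env Cfsg.Agent.H831.JM.JList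
open Cfsg.Agent.H831.JM.Pair Cfsg.Agent.H831.JM.Point

local notation "𝒢" => Cfsg.Spor.J4

/-- formulas about the elements of a list -/
inductive Fm : Type
  | eq : List ℕ → List ℕ → Fm
  | ne : List ℕ → List ℕ → Fm
  | vec : ℕ → List ℕ → Fm
  | and : Fm → Fm → Fm
  | or : Fm → Fm → Fm
  | bind : List ℕ → Fm → Fm

/-- evaluation on packed matrices -/
noncomputable def evB (φ : Fm) : List ℕ → Bool :=
  Fm.rec (motive := fun _ => List ℕ → Bool)
    (fun w v L => Nat.beq (evW 112 L w) (evW 112 L v))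
    (fun w v L => cond (Nat.beq (evW 112 L w) (evW 112 L v)) false true)
    (fun u w L => force (evW 112 L w) fun M => Nat.beq (F2Mat.vmul 112 u M) u)
    (fun _ _ ih1 ih2 L => cond (ih1 L) (ih2 L) false)
    (fun _ _ ih1 ih2 L => cond (ih1 L) true (ih2 L))
    (fun w _ ih L => force (evW 112 L w) fun M => ih (M :: L)) φ

/-- the meaning -/
def Mean : Fm → List 𝒢 → Prop
  | .eq w v, L => evG L w = evG L v
  | .ne w v, L => evG L w ≠ evG L v
  | .vec u w, L => evG L w ∈ Stv u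
  | .and a b, L => Mean a L ∧ Mean b L
  | .or a b, L => Mean a L ∨ Mean b L
  | .bind w a, L => Mean a (evG L w :: L)

theorem evG_rho (L : List 𝒢) (w : List ℕ) : evG (L.map rho) w = rho (evG L w) := evG_map rho L w

theorem sound_fm {φ : Fm} {L : List 𝒢} {L' : List ℕ} (h : List.Forall₂ (Codes 112) (L.map rho) L')
    (hb : evB φ L' = true) : Mean φ L := by
  induction φ generalizing L L' with
  | eq w v =>
    have hb' : Nat.beq (evW 112 L' w) (evW 112 L' v) = true := hb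
    show evG L w = evG L v
    apply rho_injective
    rw [← evG_rho, ← evG_rho]
    exact (codes_evW h w).eq (codes_evW h v) hb'
  | ne w v =>
    have hb' : cond (Nat.beq (evW 112 L' w) (evW 112 L' v)) false true = true := hb
    show evG L w ≠ evG L v
    intro he
    have h1 : Codes 112 (rho (evG L w)) (evW 112 L' w) := by rw [← evG_rho]; exact codes_evW h w
    have h2 : Codes 112 (rho (evG L v)) (evW 112 L' v) := by rw [← evG_rho]; exact codes_evW h v
    unfold Codes at h1 h2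
    rw [he, h2] at h1
    have h3 := toMat_inj (evW_lt (by norm_num) L' v) (evW_lt (by norm_num) L' w) h1
    rw [h3, Nat.beq_refl] at hb'
    exact absurd hb' (by decide)
  | vec u w =>
    have h1 : Codes 112 (rho (evG L w)) (evW 112 L' w) := by rw [← evG_rho]; exact codes_evW h w
    have hb' : force (evW 112 L' w) (fun M => Nat.beq (F2Mat.vmul 112 u M) u) = true := hb
    show evG L w ∈ Stv u
    generalize evW 112 L' w = M at h1 hb'
    rw [force_eq] at hb'
    rw [mem_Stv]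
    unfold vv
    unfold Codes at h1
    rw [h1, ← toVec_vmul, Nat.eq_of_beq_eq_true hb']
  | and a b ih1 ih2 =>
    have hb' : cond (evB a L') (evB b L') false = true := hb
    obtain ⟨h1, h2⟩ := condf hb'
    exact ⟨ih1 h h1, ih2 h h2⟩
  | or a b ih1 ih2 =>
    have hb' : cond (evB a L') true (evB b L') = true := hb
    show Mean a L ∨ Mean b L
    rcases h1 : evB a L' with _ | _
    · rw [h1] at hb'
      exact Or.inr (ih2 h hb')
    · exact Or.inl (ih1 h h1)
  | bind w a ih =>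
    have hb' : force (evW 112 L' w) (fun M => evB a (M :: L')) = true := hb
    have h1 : Codes 112 (rho (evG L w)) (evW 112 L' w) := by rw [← evG_rho]; exact codes_evW h w
    show Mean a (evG L w :: L)
    generalize evW 112 L' w = M at h1 hb'
    rw [force_eq] at hb'
    refine ih ?_ hb'
    rw [List.map_cons]
    exact List.Forall₂.cons h1 h

/-- the check for all elements of `J` -/
noncomputable def chkJ (ws : List (List ℕ)) (φ : Fm) : Bool :=
  run 112 (slpAll ++ ws) codes fun L => force (get (F2Mat.one 112) L (ws.length + 39)) fun A =>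
    force (get (F2Mat.one 112) L (ws.length + 30)) fun B => allB A B (fun X => evB φ (X :: L)) tJ (F2Mat.one 112)

/-- the extended environment -/
noncomputable def EY (ws : List (List ℕ)) : List 𝒢 := runG ws LY

theorem EY_shift (ws : List (List ℕ)) (i : ℕ) : getG (EY ws) (ws.length + i) = e i := getG_runG_add ws LY i

theorem all_J {ws : List (List ℕ)} {φ : Fm} (h : chkJ ws φ = true) : ∀ x ∈ Loc5.J, Mean φ (x :: EY ws) := by
  unfold chkJ at h
  obtain ⟨L', h', hk⟩ := run_sound codes_gens h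
  have h2 : List.Forall₂ (Codes 112) ((EY ws).map rho) L' := by
    unfold EY
    rw [← runG_map, map_LY, ← Cfsg.Agent.H935.J4Max.ListCl.runG_append]
    exact h'
  have hc : ∀ i, Codes 112 (rho (e i)) (get (F2Mat.one 112) L' (ws.length + i)) := by
    intro i
    have := codes_get h2 (ws.length + i)
    rwa [getG_map, EY_shift] at this
  have hs := hc 39
  have hj := hc 30
  rw [e_s] at hs
  rw [e_j] at hj
  generalize get (F2Mat.one 112) L' (ws.length + 39) = A at hk hs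
  generalize get (F2Mat.one 112) L' (ws.length + 30) = B at hk hj
  rw [force_eq, force_eq] at hk
  intro x hx
  obtain ⟨X, hX, ht⟩ := allB_sound hs hj (g := 1) (by rw [map_one]; exact Codes.one 112) hk x (mem_list x hx)
  refine sound_fm ?_ ht
  rw [List.map_cons]
  exact List.Forall₂.cons hX h2

/-- `evB` with given evaluations -/
noncomputable def evBF (v : ℕ → ℕ → ℕ) (e : List ℕ → List ℕ → ℕ) (q : List ℕ → List ℕ → List ℕ → Bool) (φ : Fm) :
    List ℕ → Bool :=
  Fm.rec (motive := fun _ => List ℕ → Bool)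
    (fun w w' L => q L w w')
    (fun w w' L => cond (q L w w') false true)
    (fun u w L => force (e L w) fun M => Nat.beq (v u M) u)
    (fun _ _ ih1 ih2 L => cond (ih1 L) (ih2 L) false)
    (fun _ _ ih1 ih2 L => cond (ih1 L) true (ih2 L))
    (fun w _ ih L => force (e L w) fun M => ih (M :: L)) φ

theorem evB_eq : evB = evBF Lib.F112.vm (Lib.F112.evF Lib.F112.ml) (Lib.F112.eqW Lib.F112.vm (Lib.F112.evF Lib.F112.ml)) := by
  rw [← Lib.F112.eqW_eq', ← Lib.F112.evW_eq, ← Lib.F112.vm_eq]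
  rfl

/-- `allB` with a given product -/
noncomputable def allBF (f : ℕ → ℕ → ℕ) (A B : ℕ) (test : ℕ → Bool) (T : BT) : ℕ → Bool :=
  BT.rec (motive := fun _ => ℕ → Bool) test
    (fun _ ih M => cond (test M) (force (f M A) ih) false)
    (fun _ ih M => cond (test M) (force (f M B) ih) false)
    (fun _ _ ih1 ih2 M => cond (test M) (cond (force (f M A) ih1) (force (f M B) ih2) false) false) T

theorem allB_eq : allB = allBF Lib.F112.ml := by
  rw [← Lib.F112.ml_eq]
  rfl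

/-- the fast check for all elements of `J` -/
noncomputable def chkJF (ws : List (List ℕ)) (φ : Fm) : Bool :=
  Lib.F112.runF (Lib.F112.evF Lib.F112.ml) (slpAll ++ ws) codes fun L => force (get (F2Mat.one 112) L (ws.length + 39)) fun A =>
    force (get (F2Mat.one 112) L (ws.length + 30)) fun B => allBF Lib.F112.ml A B
      (fun X => evBF Lib.F112.vm (Lib.F112.evF Lib.F112.ml) (Lib.F112.eqW Lib.F112.vm (Lib.F112.evF Lib.F112.ml)) φ (X :: L)) tJ (F2Mat.one 112)

theorem all_JF {ws : List (List ℕ)} {φ : Fm} (h : chkJF ws φ = true) : ∀ x ∈ Loc5.J, Mean φ (x :: EY ws) := by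
  refine all_J ?_
  unfold chkJ
  rw [Lib.F112.run_eq, allB_eq, evB_eq]
  exact h

end Cfsg.Agent.H831.JM.FmJ

namespace Cfsg.Agent.H831.JM.Split

local notation "𝒢" => Cfsg.Spor.J4

end Cfsg.Agent.H831.JM.Split
end

-- part: H831/JM/Cent
section
/-!
# The normalizer of `⟨f⟩` (helper831)
-/

set_option autoImplicit false

open Cfsg

namespace Cfsg.Agent.H831.JM.Cent

open Cfsg.Agent.Lib Cfsg.Agent.Lib.F2Mat Cfsg.Agent.Lib.F2MatGroup
open Cfsg.Agent.J4.Rep112
open Cfsg.Agent.H935.J4Max.ListCl (getG_runG_add)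
open Cfsg.Agent.H858 Cfsg.Agent.H858.VK Cfsg.Agent.H858.Data Cfsg.Agent.H858.Elem
open Cfsg.Agent.H831.JM.EnvData Cfsg.Agent.H831.JM.Env Cfsg.Agent.H831.JM.JList
open Cfsg.Agent.H831.JM.Pair Cfsg.Agent.H831.JM.Point Cfsg.Agent.H831.JM.FmJ

local notation "𝒢" => Cfsg.Spor.J4

/-! ### Entries of the extended environment -/

theorem getG_run_at {G : Type*} [Group G] (ws : List (List ℕ)) (w : List ℕ) (ws' : List (List ℕ)) (L : List G) :
    getG (runG (ws ++ w :: ws') L) ws'.length = evG (runG ws L) w := by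
  rw [Cfsg.Agent.H935.J4Max.ListCl.runG_append, runG_cons]
  have := getG_runG_add ws' (evG (runG ws L) w :: runG ws L) 0
  rw [add_zero] at this
  exact this

theorem evG_shift {G : Type*} [Group G] (ws : List (List ℕ)) (w : List ℕ) (L : List G) :
    evG (runG ws L) (w.map (ws.length + ·)) = evG L w := by
  induction w with
  | nil => rfl
  | cons a w ih => rw [List.map_cons, evG_cons, evG_cons, ih, getG_runG_add]

theorem EY_at (ws : List (List ℕ)) (k : ℕ) (w : List ℕ)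
    (h : ws = ws.take k ++ (w.map (k + ·)) :: ws.drop (k + 1)) (hk : k < ws.length) :
    getG (EY ws) (ws.length - 1 - k) = evG LY w := by
  have h1 : (ws.drop (k + 1)).length = ws.length - 1 - k := by rw [List.length_drop]; omega
  have h2 : (ws.take k).length = k := by rw [List.length_take]; omega
  have key := getG_run_at (ws.take k) (w.map (k + ·)) (ws.drop (k + 1)) LY
  rw [h1, ← h] at key
  have h3 := evG_shift (ws.take k) w LY
  rw [h2] at h3
  exact key.trans h3

theorem EY_at' (ws : List (List ℕ)) (k : ℕ) (w : List ℕ) (m : ℕ)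
    (h : ws = ws.take k ++ (w.map (k + ·)) :: ws.drop (k + 1)) (hk : k < ws.length) (hm : ws.length - 1 - k = m) :
    getG (EY ws) m = evG LY w := hm ▸ EY_at ws k w h hk

/-! ### The involution `r²` -/

/-- `r²` -/
noncomputable abbrev R : 𝒢 := e 17

theorem R_eq : R = r * r := by
  have h := eqY (p := ([17], [32, 32])) (by decide +kernel)
  simp only [evG_cons, evG_nil, mul_one] at h
  rw [← e_r]
  exact h

theorem R_sq : R * R = 1 := by
  have h := eqY (p := ([17, 17], [])) (by decide +kernel)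
  simpa only [evG_cons, evG_nil, mul_one] using h

theorem R_inv : R⁻¹ = R := inv_eq_of_mul_eq_one_left R_sq

theorem R_f : R * f * R⁻¹ = f⁻¹ := by
  have h := eqY (p := ([17, 33, 17, 33], [])) (by decide +kernel)
  simp only [evG_cons, evG_nil, mul_one] at h
  rw [R_inv, eq_inv_iff_mul_eq_one, ← e_f]
  simpa only [mul_assoc] using h

theorem R_J {y : 𝒢} (hy : y ∈ Loc5.J) : R * y = y * R := by
  have h : Loc5.J ≤ Subgroup.centralizer {R} := by
    unfold Loc5.J
    rw [Subgroup.closure_le]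
    rintro z (rfl | rfl)
    · have h := eqY (p := ([17, 39], [39, 17])) (by decide +kernel)
      simp only [evG_cons, evG_nil, mul_one] at h
      rw [← e_s]
      exact Subgroup.mem_centralizer_singleton_iff.2 h.symm
    · have h := eqY (p := ([17, 30], [30, 17])) (by decide +kernel)
      simp only [evG_cons, evG_nil, mul_one] at h
      rw [← e_j]
      exact Subgroup.mem_centralizer_singleton_iff.2 h.symm
  exact (Subgroup.mem_centralizer_singleton_iff.1 (h hy)).symm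

theorem J_f {y : 𝒢} (hy : y ∈ Loc5.J) : y * f = f * y := by
  have h := Loc5.J_le_C hy
  rw [Loc5.F5, NormC.centralizer_zpowers] at h
  exact Subgroup.mem_centralizer_singleton_iff.1 h

theorem J_fpow {y : 𝒢} (hy : y ∈ Loc5.J) (n : ℕ) : y * f ^ n = f ^ n * y :=
  (show Commute y f from J_f hy).pow_right n

/-- the centralizer of `f` -/
theorem cent_f {x : 𝒢} (h : x * f = f * x) : ∃ b < 5, ∃ y ∈ Loc5.J, x = f ^ b * y := by
  classical
  have h1 : x ∈ Subgroup.centralizer (Loc5.F5 : Set 𝒢) := by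
    rw [Loc5.F5, NormC.centralizer_zpowers]
    exact Subgroup.mem_centralizer_singleton_iff.2 h
  obtain ⟨-, -, hc, -, h2⟩ := Loc5.directProduct
  rw [← h2] at h1
  have h3 : ∃ a ∈ Loc5.F5, ∃ y ∈ Loc5.J, a * y = x := by
    let K : Subgroup 𝒢 :=
      { carrier := {z | ∃ a ∈ Loc5.F5, ∃ y ∈ Loc5.J, a * y = z}
        one_mem' := ⟨1, Subgroup.one_mem _, 1, Subgroup.one_mem _, one_mul _⟩
        mul_mem' := by
          rintro _ _ ⟨a, ha, y, hy, rfl⟩ ⟨b, hb, z, hz, rfl⟩
          refine ⟨a * b, Subgroup.mul_mem _ ha hb, y * z, Subgroup.mul_mem _ hy hz, ?_⟩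
          calc a * b * (y * z) = a * (b * y) * z := by group
            _ = a * y * (b * z) := by rw [hc b hb y hy]; group
        inv_mem' := by
          rintro _ ⟨a, ha, y, hy, rfl⟩
          refine ⟨a⁻¹, Subgroup.inv_mem _ ha, y⁻¹, Subgroup.inv_mem _ hy, ?_⟩
          rw [hc a⁻¹ (Subgroup.inv_mem _ ha) y⁻¹ (Subgroup.inv_mem _ hy), mul_inv_rev] }
    have h4 : Loc5.F5 ⊔ Loc5.J ≤ K := sup_le
      (fun a ha => ⟨a, ha, 1, Subgroup.one_mem _, mul_one _⟩) (fun y hy => ⟨1, Subgroup.one_mem _, y, hy, one_mul _⟩)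
    exact h4 h1
  obtain ⟨a, ha, y, hy, rfl⟩ := h3
  have hfin : IsOfFinOrder f := isOfFinOrder_of_finite f
  obtain ⟨b, hb, hb'⟩ := Finset.mem_image.1 (mem_zpowers_iff_mem_range_orderOf.1 (show a ∈ Subgroup.zpowers f from ha))
  rw [orderOf_f, Finset.mem_range] at hb
  exact ⟨b, hb, y, hy, by rw [← hb']⟩

theorem f_pow_eq_one {n : ℕ} (h : f ^ n ∈ Loc5.J) : 5 ∣ n := by
  have h1 : f ^ n ∈ Loc5.F5 ⊓ Loc5.J := ⟨pow_mem (Subgroup.mem_zpowers f) n, h⟩
  rw [Loc5.F5_inf, Subgroup.mem_bot] at h1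
  rw [← orderOf_f]
  exact orderOf_dvd_of_pow_eq_one h1

/-- elements of order prime to 5 of the centralizer of `f` -/
theorem mem_J {x : 𝒢} (h : x * f = f * x) {n : ℕ} (hn : x ^ n = 1) (h5 : ¬ 5 ∣ n) : x ∈ Loc5.J := by
  obtain ⟨b, hb, y, hy, rfl⟩ := cent_f h
  have hc : Commute (f ^ b) y := (J_fpow hy b).symm
  rw [hc.mul_pow, ← pow_mul] at hn
  have h1 : f ^ (b * n) ∈ Loc5.J := by
    rw [mul_eq_one_iff_eq_inv.1 hn]
    exact Subgroup.inv_mem _ (Subgroup.pow_mem _ hy n)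
  have h2 := f_pow_eq_one h1
  rcases (Nat.Prime.dvd_mul (by norm_num)).1 h2 with h3 | h3
  · have h4 : b = 0 := by omega
    rw [h4, pow_zero, one_mul]
    exact hy
  · exact absurd h3 h5

theorem R_fpow (a : ℕ) : f ^ a * R = R * (f ^ a)⁻¹ := by
  have h : R * f ^ a * R⁻¹ = (f ^ a)⁻¹ := by rw [← conj_pow, R_f, inv_pow]
  have h2 : (f ^ a)⁻¹ = R * f ^ a * R := by rw [← h, R_inv]
  rw [h2, ← mul_assoc, ← mul_assoc, R_sq, one_mul]

theorem f_five : f ^ 5 = 1 := f_pow

/-- the involutions inverting `f` -/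
theorem inv_f {t' : 𝒢} (ht : t' * t' = 1) (htf : t' * f * t'⁻¹ = f⁻¹) :
    ∃ a < 5, ∃ y ∈ Loc5.J, y * y = 1 ∧ t' = f ^ a * (R * y) * (f ^ a)⁻¹ := by
  have h1 : (R * t') * f = f * (R * t') := by
    have e1 : R * t' * f = R * (t' * f * t'⁻¹) * t' := by group
    have e2 : R * f⁻¹ = f * R := by
      have := R_f
      have h3 : R * f⁻¹ * R⁻¹ = f := by
        have e3 : R * f⁻¹ * R⁻¹ = (R * f * R⁻¹)⁻¹ := by group
        rw [e3, R_f, inv_inv]
      calc R * f⁻¹ = R * f⁻¹ * R⁻¹ * R := by group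
        _ = f * R := by rw [h3]
    rw [e1, htf, e2, mul_assoc]
  obtain ⟨b, hb, y, hy, h2⟩ := cent_f h1
  have h3 : t' = R * (f ^ b * y) := by
    rw [← h2, ← mul_assoc, R_sq, one_mul]
  have hRy := R_J hy
  have h4 : y * y = 1 := by
    have e1 : t' * t' = R * f ^ b * (y * R) * f ^ b * y := by rw [h3]; group
    have e2 : R * f ^ b * (y * R) * f ^ b * y = R * (f ^ b * R) * (y * f ^ b) * y := by rw [← hRy]; group
    rw [ht, e2, R_fpow, J_fpow hy] at e1
    have e3 : R * (R * (f ^ b)⁻¹) * (f ^ b * y) * y = (R * R) * (y * y) := by group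
    rw [e3, R_sq, one_mul] at e1
    exact e1.symm
  have key : ∀ a : ℕ, f ^ a * (R * y) * (f ^ a)⁻¹ = R * ((f ^ a)⁻¹ * (f ^ a)⁻¹ * y) := by
    intro a
    have e1 : y * (f ^ a)⁻¹ = (f ^ a)⁻¹ * y := by
      have := J_fpow hy a
      rw [eq_inv_mul_iff_mul_eq, ← mul_assoc, ← this, mul_inv_cancel_right]
    calc f ^ a * (R * y) * (f ^ a)⁻¹ = (f ^ a * R) * (y * (f ^ a)⁻¹) := by group
      _ = R * ((f ^ a)⁻¹ * (f ^ a)⁻¹ * y) := by rw [R_fpow, e1]; group
  have h5 : ∃ a < 5, (f ^ a)⁻¹ * (f ^ a)⁻¹ = f ^ b := by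
    have h6 : ∀ b < 5, ∃ a < 5, (b + a + a) % 5 = 0 := by decide
    obtain ⟨a, ha, h7⟩ := h6 b hb
    refine ⟨a, ha, ?_⟩
    have h8 : f ^ (b + a + a) = 1 := by
      rw [← Nat.div_add_mod (b + a + a) 5, h7, add_zero, pow_mul, f_five, one_pow]
    rw [pow_add, pow_add] at h8
    have h9 : f ^ b = (f ^ a)⁻¹ * (f ^ a)⁻¹ := by
      rw [eq_mul_inv_iff_mul_eq, eq_inv_iff_mul_eq_one]
      exact h8
    exact h9.symm
  obtain ⟨a, ha, h6⟩ := h5
  refine ⟨a, ha, y, hy, h4, ?_⟩
  rw [key, h6, h3]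

end Cfsg.Agent.H831.JM.Cent
end

private theorem dce_052b1a2e5a68 : _root_.True := by
  try have : _root_.True := by simp only [_root_.Cfsg.Agent.H831.JM.Point.p0.eq_1]
  try have : _root_.True := by simp only [_root_.Cfsg.Agent.H831.JM.Split.subV.eq_6]
  try have : _root_.True := by simp only [_root_.Cfsg.Agent.H831.JM.Split.subV.eq_3]
  try have : _root_.True := by simp only [_root_.Cfsg.Agent.H831.JM.Tree.vl.eq_1]
  try have : _root_.True := by simp only [_root_.Cfsg.Agent.H831.JM.Split.subV.eq_2]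
  try have : _root_.True := by simp only [_root_.Cfsg.Agent.H831.JM.Tree.visit.eq_4]
  try have : _root_.True := by simp only [_root_.Cfsg.Agent.H831.JM.Tree.vl.eq_3]
  try have : _root_.True := by simp only [_root_.Cfsg.Agent.H831.JM.Split.subV.eq_4]
  try have : _root_.True := by simp only [_root_.Cfsg.Agent.H831.JM.Split.subV.eq_8]
  try have : _root_.True := by simp only [_root_.Cfsg.Agent.H831.JM.Tree.visit.eq_1]
  try have : _root_.True := by simp only [_root_.Cfsg.Agent.H831.JM.Tree.vl.eq_def]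
  try have : _root_.True := by simp only [_root_.Cfsg.Agent.H831.JM.Tree.visit.eq_2]
  try have : _root_.True := by simp only [_root_.Cfsg.Agent.H859.M24Eleven.wf.eq_1]
  try have : _root_.True := by simp only [_root_.Cfsg.Agent.H831.JM.Tree.vl.eq_4]
  try have : _root_.True := by simp only [_root_.Cfsg.Agent.H831.JM.Tree.visit.eq_3]
  try have : _root_.True := by simp only [_root_.Cfsg.Agent.H859.M24Eleven.f.eq_1]
  try have : _root_.True := by simp only [_root_.Cfsg.Agent.H831.JM.Split.subV.eq_1]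
  try have : _root_.True := by simp only [_root_.Cfsg.Agent.H831.JM.Tree.visit.eq_def]
  try have : _root_.True := by simp only [_root_.Cfsg.Agent.H831.JM.Tree.vl.eq_2]
  try have : _root_.True := by simp only [_root_.Cfsg.Agent.H831.JM.Split.subV.eq_7]
  try have : _root_.True := by simp only [_root_.Cfsg.Agent.H831.JM.Split.subV.eq_def]
  try have : _root_.True := by simp only [_root_.Cfsg.Agent.H831.JM.Split.subV.eq_5]
  exact _root_.True.intro
end

-- part: H763/JM/XZero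
section
prune_inst 0xb00003001420000000000010200000402200000000000001100001000886140080000000c80008000002808400300020020000000000000000000000011800800020020010000000000000002002000000000000000000000000000000041000000000000
set_option linter.all false
open scoped Cfsg.Agent.FastGrp

-- part: H763/JM/Singer
section
/-!
# A 2-subgroup of `SL₅(2)` normalized by an element of order 31 is trivial (helper763)
-/

set_option autoImplicit false

namespace Cfsg.Agent.H763.JM.Singer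

open Matrix MulAction

/-- the group -/
abbrev SL5 := _root_.Matrix.SpecialLinearGroup (Fin 5) (ZMod 2)
/-- the natural module -/
abbrev V5 := Fin 5 → ZMod 2

/-- the natural action -/
@[reducible] def act : MulAction SL5 V5 where
  smul A v := A.1 *ᵥ v
  one_smul v := Matrix.one_mulVec v
  mul_smul A B v := (Matrix.mulVec_mulVec v A.1 B.1).symm

theorem card_V5 : Nat.card V5 = 32 := by
  rw [Nat.card_eq_fintype_card, Fintype.card_fun, ZMod.card, Fintype.card_fin]
  norm_num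

theorem smul_zero' (A : SL5) : act.smul A (0 : V5) = 0 := Matrix.mulVec_zero A.1

theorem eq_one {A : SL5} (h : ∀ v : V5, act.smul A v = v) : A = 1 := by
  apply Subtype.ext
  ext i j
  have h1 := congrFun (h (Pi.single j 1)) i
  have h2 : act.smul A (Pi.single j 1) i = A.1 i j := by
    change (A.1 *ᵥ Pi.single j 1) i = A.1 i j
    rw [Matrix.mulVec_single_one]
    rfl
  rw [h2] at h1
  rw [h1]
  change (Pi.single j 1 : V5) i = (1 : Matrix (Fin 5) (Fin 5) (ZMod 2)) i j
  rw [Matrix.one_apply, Pi.single_apply]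

/-- **no nontrivial 2-subgroup of `SL₅(2)` is normalized by an element of order 31** -/
theorem eq_bot {f : SL5} (hf : orderOf f = 31) {R : Subgroup SL5} (hR : IsPGroup 2 R)
    (hn : f ∈ Subgroup.normalizer (R : Set SL5)) : R = ⊥ := by
  classical
  let _ : MulAction SL5 V5 := act
  have h2 : Fact (Nat.Prime 2) := ⟨Nat.prime_two⟩
  have h31 : Fact (Nat.Prime 31) := ⟨by norm_num⟩
  have hsm : ∀ A : SL5, A • (0 : V5) = 0 := smul_zero'
  -- a nonzero fixed vector of `R`
  have c1 := hR.card_modEq_card_fixedPoints V5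
  rw [card_V5] at c1
  have z1 : (0 : V5) ∈ fixedPoints R V5 := fun r => hsm r
  obtain ⟨v, hv, hv0⟩ : ∃ v ∈ fixedPoints R V5, v ≠ 0 := by
    by_contra hno
    push Not at hno
    have h3 : fixedPoints R V5 = {0} := by
      ext w
      rw [Set.mem_singleton_iff]
      exact ⟨hno w, fun h => h ▸ z1⟩
    rw [h3] at c1
    have h4 : Nat.card ({0} : Set V5) = 1 := by simp
    rw [h4] at c1
    exact absurd c1 (by decide)
  -- the fixed vectors of `f`
  have hF : IsPGroup 31 (Subgroup.zpowers f) := IsPGroup.of_card (n := 1) (by rw [Nat.card_zpowers, hf, pow_one])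
  have c2 := hF.card_modEq_card_fixedPoints V5
  rw [card_V5] at c2
  have z2 : (0 : V5) ∈ fixedPoints (Subgroup.zpowers f) V5 := fun r => hsm r
  have hle : Nat.card (fixedPoints (Subgroup.zpowers f) V5) ≤ 32 := by
    rw [← card_V5]
    exact Nat.card_le_card_of_injective _ Subtype.val_injective
  have hfix : Nat.card (fixedPoints (Subgroup.zpowers f) V5) = 1 := by
    have h3 : Nat.card (fixedPoints (Subgroup.zpowers f) V5) % 31 = 1 := by
      have h4 : 32 % 31 = Nat.card (fixedPoints (Subgroup.zpowers f) V5) % 31 := c2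
      omega
    have h4 : Nat.card (fixedPoints (Subgroup.zpowers f) V5) = 1 ∨
        Nat.card (fixedPoints (Subgroup.zpowers f) V5) = 32 := by omega
    rcases h4 with h4 | h4
    · exact h4
    · exfalso
      have h5 : fixedPoints (Subgroup.zpowers f) V5 = Set.univ := by
        apply Set.eq_of_subset_of_ncard_le (Set.subset_univ _)
        rw [Set.ncard_univ, card_V5, ← Nat.card_coe_set_eq, h4]
      have h6 : f = 1 := by
        apply eq_one
        intro w
        have h7 : w ∈ fixedPoints (Subgroup.zpowers f) V5 := h5 ▸ Set.mem_univ w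
        exact h7 ⟨f, Subgroup.mem_zpowers f⟩
      rw [h6, orderOf_one] at hf
      norm_num at hf
  have hvF : v ∉ fixedPoints (Subgroup.zpowers f) V5 := by
    intro h3
    obtain ⟨w, hw⟩ := Nat.card_eq_one_iff_exists.1 hfix
    have h4 := hw ⟨v, h3⟩
    have h5 := hw ⟨0, z2⟩
    exact hv0 (congrArg Subtype.val (h4.trans h5.symm))
  -- the orbit of `v`
  obtain ⟨n, hn1⟩ := hF.card_orbit v
  have hn0 : n ≠ 0 := by
    rintro rfl
    rw [pow_zero] at hn1
    apply hvF
    intro g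
    obtain ⟨w, hw⟩ := Nat.card_eq_one_iff_exists.1 hn1
    have h4 := hw ⟨g • v, MulAction.mem_orbit v g⟩
    have h5 := hw ⟨v, MulAction.mem_orbit_self v⟩
    exact congrArg Subtype.val (h4.trans h5.symm)
  have h31' : 31 ≤ Nat.card (orbit (Subgroup.zpowers f) v) := by
    rw [hn1]
    calc 31 = 31 ^ 1 := (pow_one _).symm
      _ ≤ 31 ^ n := Nat.pow_le_pow_right (by norm_num) (Nat.pos_of_ne_zero hn0)
  -- the orbit consists of fixed vectors of `R`
  have hsub : orbit (Subgroup.zpowers f) v ⊆ fixedPoints R V5 \ {0} := by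
    rintro _ ⟨g, rfl⟩
    have hgN : (g : SL5) ∈ Subgroup.normalizer (R : Set SL5) := by
      have h3 : Subgroup.zpowers f ≤ Subgroup.normalizer (R : Set SL5) := by
        rw [Subgroup.zpowers_le]; exact hn
      exact h3 g.2
    constructor
    · intro r
      have h3 : (g : SL5)⁻¹ * r * g ∈ R := by
        have h4 := (Subgroup.mem_normalizer_iff.1 ((Subgroup.normalizer (R : Set SL5)).inv_mem hgN) r).1 r.2
        rwa [inv_inv] at h4
      have h4 : ((g : SL5)⁻¹ * r * g) • v = v := hv ⟨_, h3⟩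
      have h5 : (r : SL5) * g = (g : SL5) * ((g : SL5)⁻¹ * r * g) := by group
      change (r : SL5) • ((g : SL5) • v) = (g : SL5) • v
      rw [← mul_smul, h5, mul_smul, h4]
    · intro h3
      rw [Set.mem_singleton_iff] at h3
      apply hv0
      have h4 : v = (g : SL5)⁻¹ • ((g : SL5) • v) := by rw [inv_smul_smul]
      rw [h4]
      change (g : SL5)⁻¹ • ((g : SL5) • v) = 0
      have h5 : (g : SL5) • v = 0 := h3
      rw [h5, hsm]
  have hcard : 32 ≤ (fixedPoints R V5).ncard := by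
    have h3 : (fixedPoints R V5 \ {0}).ncard + 1 = (fixedPoints R V5).ncard :=
      Set.ncard_sdiff_singleton_add_one z1 (Set.toFinite _)
    have h4 := Set.ncard_le_ncard hsub (Set.toFinite _)
    rw [← Nat.card_coe_set_eq] at h4
    omega
  have huniv : fixedPoints R V5 = Set.univ := by
    apply Set.eq_of_subset_of_ncard_le (Set.subset_univ _)
    rw [Set.ncard_univ, card_V5]
    exact hcard
  rw [Subgroup.eq_bot_iff_forall]
  intro r hr
  apply eq_one
  intro w
  have h7 : w ∈ fixedPoints R V5 := huniv ▸ Set.mem_univ w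
  exact h7 ⟨r, hr⟩

end Cfsg.Agent.H763.JM.Singer
end

-- part: H763/JM/Two31
section
/-!
# The 2-subgroups of `J4` normalized by a subgroup of order 31 (helper763)

Every 2-subgroup `Y ≠ 1` normalized by a subgroup `P` of order 31 is contained in a self-centralizing elementary
abelian group `X` of order `2^10` normalized by `P`.
-/

set_option autoImplicit false

namespace Cfsg.Agent.H763.JM

open Subgroup Cfsg Cfsg.Agent.H860.JM

/-- (Part I without maximality) a 2-subgroup containing its centralizer -/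
theorem good_of_self {G : Type*} [Group G] [Finite G] (Γ : Geom G) (h : Facts Γ) {Q : Subgroup G}
    (hQ : IsPGroup 2 Q) (hbot : Q ≠ ⊥) (hself : centralizer (Q : Set G) ≤ Q) :
    Good Γ (normalizer (Q : Set G)) := by
  have hloc : Loc (normalizer (Q : Set G)) Q (H172.JM.om Q) :=
    { pgroup := hQ
      E_ne := H172.JM.om_ne_bot hQ hbot
      E_le := fun x hx => hx.1
      el := ⟨fun a ha => ha.2.1, fun a ha b hb => hb.2.2 a ha.1⟩
      cent := fun x hx e he => he.2.2 x hx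
      self := hself
      mem := by
        intro e he hc
        refine ⟨hself ?_, he, hc⟩
        rw [mem_centralizer_iff]
        exact hc
      normQ := le_rfl
      normE := H172.JM.le_normalizer_om le_rfl }
  by_cases hE : ∀ u ∈ H172.JM.om Q, u ≠ 1 → Γ.A u
  · exact H546.JM.caseA Γ h (H172.JM.ll Γ h) (H172.JM.pt Γ h) _ Q _ hloc hE
  · push Not at hE
    obtain ⟨u, hu, hu1, huA⟩ := hE
    exact H322.JM.caseB Γ h (H172.JM.ll Γ h) (H172.JM.pt Γ h) (l3 Γ h) _ Q _ hloc
      ⟨u, hu, (h.f1.invol u hu1 hu.2.1).resolve_left huA⟩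

/-- a 2-subgroup normalized by `P` is contained in a radical 2-subgroup normalized by `P` -/
theorem exists_radical {G : Type*} [Group G] [Finite G] {P Y : Subgroup G} (hY : IsPGroup 2 Y)
    (hn : P ≤ normalizer (Y : Set G)) : ∃ Q : Subgroup G, IsPGroup 2 Q ∧ Y ≤ Q ∧ P ≤ normalizer (Q : Set G) ∧
      Q = (pCore 2 (normalizer (Q : Set G) : Subgroup G)).map (normalizer (Q : Set G)).subtype := by
  have : Fact (Nat.Prime 2) := ⟨Nat.prime_two⟩
  obtain ⟨Q, hQ⟩ := (Set.toFinite {Q : Subgroup G | IsPGroup 2 Q ∧ Y ≤ Q ∧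
    P ≤ normalizer (Q : Set G)}).exists_maximal ⟨Y, hY, le_rfl, hn⟩
  obtain ⟨h1, h2, h3⟩ := hQ.prop
  refine ⟨Q, h1, h2, h3, ?_⟩
  have h4 : Q ≤ (pCore 2 (normalizer (Q : Set G) : Subgroup G)).map (normalizer (Q : Set G)).subtype :=
    Lib.LocalCore.le_map_pCore le_normalizer h1 le_rfl
  refine le_antisymm h4 (hQ.le_of_ge ⟨Lib.LocalCore.isPGroup_map_pCore 2 _, h2.trans h4, ?_⟩ h4)
  exact h3.trans (Lib.LocalCore.le_normalizer_map_pCore 2 _)

/-- the group `Spor.J4` -/
local notation "𝒢" => Cfsg.Spor.J4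

theorem p31 : Nat.Prime 31 := by norm_num

theorem cent31 {P : Subgroup 𝒢} (hP : Nat.card P = 31) : centralizer (P : Set 𝒢) = P := by
  have := finite_J
  exact Cfsg.Agent.H859.PrimeSub.centralizer_eq p31 hP (Cfsg.Agent.H859.BigNum.data31 hP).1

theorem isPGroup31 {P : Subgroup 𝒢} (hP : Nat.card P = 31) : IsPGroup 31 P :=
  IsPGroup.of_card (n := 1) (by rw [hP, pow_one])

/-- a 2-subgroup meets a subgroup of order 31 trivially -/
theorem inf_eq_bot {P D : Subgroup 𝒢} (hP : Nat.card P = 31) (hD : IsPGroup 2 D) : D ⊓ P = ⊥ := by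
  have := finite_J
  have h2 : Fact (Nat.Prime 2) := ⟨Nat.prime_two⟩
  have h31 : Fact (Nat.Prime 31) := ⟨p31⟩
  rw [← disjoint_iff]
  exact IsPGroup.disjoint_of_ne 2 31 (by norm_num) _ _ hD (isPGroup31 hP)

/-- the order of a 2-subgroup normalized by `P` -/
theorem card_mod31 {P D : Subgroup 𝒢} (hP : Nat.card P = 31) (hD : IsPGroup 2 D)
    (hn : P ≤ normalizer (D : Set 𝒢)) : Nat.card D % 31 = 1 := by
  have := finite_J
  have h31 : Fact (Nat.Prime 31) := ⟨p31⟩
  exact Cfsg.Agent.H866.OddTools.card_mod_one (isPGroup31 hP) hn (by rw [cent31 hP]; exact inf_eq_bot hP hD)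

/-- the 2-subgroups of `N(X)` normalized by `P` -/
theorem le_of_norm {X P Q : Subgroup 𝒢} (hX : geo.Xc X) (hP : Nat.card P = 31)
    (hPX : P ≤ normalizer (X : Set 𝒢)) (hQ : IsPGroup 2 Q) (hQX : Q ≤ normalizer (X : Set 𝒢))
    (hPQ : P ≤ normalizer (Q : Set 𝒢)) : Q ≤ X := by
  have := finite_J
  have := simple_J
  have h2 : Fact (Nat.Prime 2) := ⟨Nat.prime_two⟩
  have h31 : Fact (Nat.Prime 31) := ⟨p31⟩
  obtain ⟨⟨B, hB1, hB2, hB3, ⟨e⟩⟩, -⟩ := (Cfsg.Agent.S5570.result nonab isJ).2.2 X hX.1 hX.2.1 hX.2.2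
  set N := normalizer (X : Set 𝒢) with hN
  have hXN : X ≤ N := le_normalizer
  have hnorm : (X.subgroupOf N).Normal := (normal_subgroupOf_iff_le_normalizer hXN).2 le_rfl
  have hcomp : IsComplement' (B.subgroupOf N) (X.subgroupOf N) := by
    apply isComplement'_of_card_mul_and_disjoint
    · have h1 := Cfsg.Agent.StdL2.G23Coset.card_sup_mul_card_inf hB1
      rw [hB3, hB2, Subgroup.card_bot, mul_one] at h1
      rw [Nat.card_congr (subgroupOfEquivOfLe hB1).toEquiv, Nat.card_congr (subgroupOfEquivOfLe hXN).toEquiv]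
      exact h1.symm
    · rw [disjoint_iff]
      have h1 : B.subgroupOf N ⊓ X.subgroupOf N = (B ⊓ X).subgroupOf N := (comap_inf B X N.subtype).symm
      rw [h1, hB2]
      exact Subgroup.bot_subgroupOf _
  let φ : N →* Singer.SL5 := e.toMonoidHom.comp ((subgroupOfEquivOfLe hB1).toMonoidHom.comp
    (hcomp.QuotientMulEquiv.toMonoidHom.comp (QuotientGroup.mk' (X.subgroupOf N))))
  have hker : ∀ n : N, φ n = 1 → (n : 𝒢) ∈ X := by
    intro n hn
    have h1 : (QuotientGroup.mk' (X.subgroupOf N)) n = 1 := by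
      apply hcomp.QuotientMulEquiv.injective
      apply (subgroupOfEquivOfLe hB1).injective
      apply e.injective
      rw [map_one, map_one, map_one]
      exact hn
    rw [QuotientGroup.mk'_apply, QuotientGroup.eq_one_iff] at h1
    exact h1
  have hX2 : IsPGroup 2 X := IsPGroup.of_card hX.2.1
  obtain ⟨p, hp⟩ := exists_prime_orderOf_dvd_card' (G := P) 31 (by rw [hP])
  have hpN : (p : 𝒢) ∈ N := hPX p.2
  have hf : orderOf (φ ⟨p, hpN⟩) = 31 := by
    apply orderOf_eq_prime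
    · rw [← map_pow]
      have h1 : (⟨p, hpN⟩ : N) ^ 31 = 1 := by
        apply Subtype.ext
        have h3 : p ^ 31 = 1 := by rw [← hp, pow_orderOf_eq_one]
        have h4 : (p : 𝒢) ^ 31 = 1 := by rw [← Subgroup.coe_pow, h3, Subgroup.coe_one]
        exact h4
      rw [h1, map_one]
    · intro h1
      have h3 : (p : 𝒢) ∈ X ⊓ P := ⟨hker _ h1, p.2⟩
      rw [inf_eq_bot hP hX2, mem_bot] at h3
      have h4 : p = 1 := Subtype.ext h3
      rw [h4, orderOf_one] at hp
      norm_num at hp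
  have hR : IsPGroup 2 ((Q.subgroupOf N).map φ) := hQ.comap_subtype.map φ
  have hfn : φ ⟨p, hpN⟩ ∈ normalizer (((Q.subgroupOf N).map φ : Subgroup Singer.SL5) : Set Singer.SL5) := by
    have h1 : (⟨p, hpN⟩ : N) ∈ normalizer ((Q.subgroupOf N : Subgroup N) : Set N) := by
      have h3 := hPQ p.2
      rw [mem_normalizer_iff] at h3 ⊢
      intro x
      exact h3 x
    exact Subgroup.le_normalizer_map φ (mem_map_of_mem φ h1)
  have hbot := Singer.eq_bot hf hR hfn
  intro q hq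
  apply hker ⟨q, hQX hq⟩
  have h1 : φ ⟨q, hQX hq⟩ ∈ (Q.subgroupOf N).map φ := mem_map_of_mem φ (by
    rw [mem_subgroupOf]; exact hq)
  rwa [hbot, mem_bot] at h1

/-- **a nontrivial 2-subgroup normalized by a subgroup `P` of order 31 is contained in a group `X = 2^10`
normalized by `P`** -/
theorem exists_X (hF : Facts geo) {P Y : Subgroup 𝒢} (hP : Nat.card P = 31) (hY : IsPGroup 2 Y) (hY1 : Y ≠ ⊥)
    (hn : P ≤ normalizer (Y : Set 𝒢)) : ∃ X, geo.Xc X ∧ P ≤ normalizer (X : Set 𝒢) ∧ Y ≤ X := by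
  have := finite_J
  obtain ⟨Q, hQ, hYQ, hPQ, hrad⟩ := exists_radical hY hn
  have hbot : Q ≠ ⊥ := fun h => hY1 (le_bot_iff.1 (h ▸ hYQ))
  have hself := H172.JM.centralizer_le_core hF hrad hbot rfl
  rcases good_of_self geo hF hQ hbot hself with ⟨z, hz, h1⟩ | ⟨D, hD, h1⟩ | ⟨D, hD, h1⟩ | ⟨X, hX, h1⟩
  · exfalso
    obtain ⟨hz1, hz2⟩ := hF.f1.A_inv z hz
    have h2 : z ∈ centralizer (P : Set 𝒢) := by
      rw [mem_centralizer_iff]
      intro p hp
      exact mem_centralizer_singleton_iff.1 (h1 (hPQ hp))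
    rw [cent31 hP] at h2
    have h3 : z ^ 31 = 1 := by
      have h4 := pow_card_eq_one' (x := (⟨z, h2⟩ : P))
      rw [hP] at h4
      exact congrArg Subtype.val h4
    apply hz1
    have h5 : z ^ 31 = z * (z * z) ^ 15 := by
      rw [← pow_two, ← pow_mul, ← pow_succ']
    rw [h5, hz2, one_pow, mul_one] at h3
    exact h3
  · exfalso
    have h2 := card_mod31 hP (IsPGroup.of_card (hF.f3.card D hD)) (hPQ.trans h1)
    rw [hF.f3.card D hD] at h2
    norm_num at h2
  · exfalso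
    have h2 := card_mod31 hP (IsPGroup.of_card (n := 3) (hF.f6.card D hD)) (hPQ.trans h1)
    rw [hF.f6.card D hD] at h2
    norm_num at h2
  · refine ⟨X, hX, hPQ.trans h1, hYQ.trans ?_⟩
    exact le_of_norm hX hP (hPQ.trans h1) hQ (le_normalizer.trans h1) hPQ

end Cfsg.Agent.H763.JM
end

-- part: H763/JM/L32Words
section
/-!
# Explicit elements of `J4` for the subgroups `L₂(32)` (helper763)

`f` of order 31, the involution `s` inverting `f`, and two subgroups `A_g`, `A_b` of order 32 normalized by `f`,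
generated by the conjugates of `i0` and `b0` (words found with the toolkit of helper860).
-/

set_option autoImplicit false

open Cfsg

namespace Cfsg.Agent.H763.JM.L32Words

open Cfsg.Agent.Lib Cfsg.Agent.Lib.F2MatGroup
open Cfsg.Agent.J4.Rep112
open Cfsg.Agent.H858.VK

/-- the program; the environment at the end is
`z, b5, b4, b3, b2, b1, b0, gi, g, i5, i4, i3, i2, i1, i0, fi, f, s, ui, u, e, a, x, y, Y, t` -/
def slp : List (List ℕ) := [[0, 1, 3, 1], [0, 0, 0, 0, 0, 0, 0], [2, 3, 2, 5, 3, 5, 3, 5, 3, 5, 3, 2, 4, 2, 5, 4, 5, 3], [5, 6, 4, 6, 3, 4, 3, 5, 6, 5, 6, 5, 6, 5, 6, 3, 5, 3], [0, 4, 1], [3, 3, 0, 3, 3, 3, 0], [1, 0, 1], [5, 5, 5, 2, 5, 5, 5, 5, 2, 5, 2, 5, 5], [2, 0, 1], [3, 0, 2], [4, 0, 3], [5, 0, 4], [6, 0, 5], [13, 15, 16, 15, 13, 14, 16, 14, 16, 15, 16, 13, 15, 13, 15, 16, 15, 13, 14, 13, 15, 13, 15, 16, 15], [15, 17, 15, 14, 15, 14, 16, 14, 15, 17, 15, 14, 15, 14, 17, 15, 17, 16, 17, 16, 14, 15, 17, 15, 14], [1, 15, 0, 6], [10,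 0, 9], [11, 0, 10], [12, 0, 11], [13, 0, 12], [14, 0, 13], [5, 16, 15, 15]]

/-- the equations -/
def es : List (List ℕ × List ℕ) :=
  [(List.replicate 31 16, []),
   ([17, 17], []),
   ([17, 16, 17, 16], []),
   ([14, 14], []),
   ([14, 13], [13, 14]),
   ([14, 12], [12, 14]),
   ([14, 11], [11, 14]),
   ([14, 10], [10, 14]),
   ([14, 12, 11, 10, 9], []),
   ([6, 6], []),
   ([6, 5], [5, 6]),
   ([6, 4], [4, 6]),
   ([6, 3], [3, 6]),
   ([6, 2], [2, 6]),
   ([6, 4, 1], []),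
   ([6, 14], [14, 6]),
   ([6, 13], [13, 6]),
   ([6, 12], [12, 6]),
   ([6, 11], [11, 6]),
   ([6, 10], [10, 6]),
   (List.replicate 43 0, []),
   ([16, 15], []),
   ([13], [16, 14, 15]),
   ([12], [16, 13, 15]),
   ([11], [16, 12, 15]),
   ([10], [16, 11, 15]),
   ([9], [16, 10, 15]),
   ([5], [16, 6, 15]),
   ([4], [16, 5, 15]),
   ([3], [16, 4, 15]),
   ([2], [16, 3, 15]),
   ([1], [16, 2, 15]),
   ([0], [6, 17, 16, 16])]

/-- the inequations -/
def ns : List (List ℕ × List ℕ) := [([16], []), ([17], []), ([14], []), ([6], []), ([0], [])]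
theorem check : run 112 slp codes
    (fun L => cond (eqs 112 es L) (neqs 112 ns L) false) = true := by decide +kernel

/-- the environment -/
noncomputable def LX : List Cfsg.Spor.J4 := runG slp gens

/-- the element of order 31 -/
noncomputable def f : Cfsg.Spor.J4 := getG LX 16
/-- the involution inverting `f` -/
noncomputable def s : Cfsg.Spor.J4 := getG LX 17
/-- the generator of `A_g` -/
noncomputable def i0 : Cfsg.Spor.J4 := getG LX 14
/-- the generator of `A_b` -/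
noncomputable def b0 : Cfsg.Spor.J4 := getG LX 6

theorem map_LX : LX.map rho = runG slp (gens.map rho) := by
  unfold LX
  rw [runG_map]

theorem sound : (∀ p ∈ es, evG LX p.1 = evG LX p.2) ∧ (∀ p ∈ ns, evG LX p.1 ≠ evG LX p.2) := by
  obtain ⟨L', h', hk⟩ := run_sound codes_gens check
  have h'' : List.Forall₂ (Codes 112) (LX.map rho) L' := by rw [map_LX]; exact h'
  rcases hb : eqs 112 es L' with _ | _
  · rw [hb] at hk; exact absurd hk Bool.false_ne_true
  rw [hb] at hk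
  have hc : neqs 112 ns L' = true := hk
  refine ⟨fun p hp => ?_, fun p hp => ?_⟩
  · apply rho_injective
    rw [← evG_map, ← evG_map]
    exact eqs_sound h'' hb p hp
  · intro h0
    have h1 := congrArg rho h0
    rw [← evG_map, ← evG_map] at h1
    exact neqs_sound (by norm_num) h'' hc p hp h1

theorem evG_rep {G : Type*} [Group G] (L : List G) (n i : ℕ) : evG L (List.replicate n i) = (getG L i) ^ n := by
  induction n with
  | zero => rw [List.replicate_zero, evG_nil, pow_zero]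
  | succ n ih => rw [List.replicate_succ, evG_cons, ih, pow_succ']

/-- the conjugate by `f ^ k` -/
noncomputable def cf (k : ℕ) (x : Cfsg.Spor.J4) : Cfsg.Spor.J4 := f ^ k * x * (f ^ k)⁻¹

theorem cf_zero (x : Cfsg.Spor.J4) : cf 0 x = x := by
  rw [cf, pow_zero, one_mul, inv_one, mul_one]

theorem cf_succ (k : ℕ) (x : Cfsg.Spor.J4) : cf (k + 1) x = f * cf k x * f⁻¹ := by
  rw [cf, cf, pow_succ']
  group

theorem eqn (n : ℕ) (hn : n < es.length) : evG LX (es[n]).1 = evG LX (es[n]).2 :=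
  sound.1 _ (List.getElem_mem hn)

theorem nen (n : ℕ) (hn : n < ns.length) : evG LX (ns[n]).1 ≠ evG LX (ns[n]).2 :=
  sound.2 _ (List.getElem_mem hn)

theorem f_pow : f ^ 31 = 1 := by
  have h := eqn 0 (by decide)
  change evG LX (List.replicate 31 16) = evG LX [] at h
  rwa [evG_rep, evG_nil] at h

theorem f_ne : f ≠ 1 := by
  have h := nen 0 (by decide)
  change evG LX [16] ≠ evG LX [] at h
  rwa [evG_cons, evG_nil, mul_one] at h

theorem i0_ne : i0 ≠ 1 := by
  have h := nen 2 (by decide)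
  change evG LX [14] ≠ evG LX [] at h
  rwa [evG_cons, evG_nil, mul_one] at h

theorem b0_ne : b0 ≠ 1 := by
  have h := nen 3 (by decide)
  change evG LX [6] ≠ evG LX [] at h
  rwa [evG_cons, evG_nil, mul_one] at h

theorem s_s : s * s = 1 := by
  have h := eqn 1 (by decide)
  change evG LX [17, 17] = evG LX [] at h
  rwa [evG_cons, evG_cons, evG_nil, mul_one] at h

theorem s_f : s * f * s = f⁻¹ := by
  have h := eqn 2 (by decide)
  change evG LX [17, 16, 17, 16] = evG LX [] at h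
  rw [evG_cons, evG_cons, evG_cons, evG_cons, evG_nil, mul_one] at h
  refine eq_inv_of_mul_eq_one_left ?_
  rw [← h]
  simp only [mul_assoc]
  rfl

theorem fi_eq : getG LX 15 = f⁻¹ := by
  have h := eqn 21 (by decide)
  change evG LX [16, 15] = evG LX [] at h
  rw [evG_cons, evG_cons, evG_nil, mul_one] at h
  exact eq_inv_of_mul_eq_one_right h

theorem step (m j k : ℕ) (x : Cfsg.Spor.J4) (h : evG LX [m] = evG LX [16, j, 15]) (hj : getG LX j = cf k x) :
    getG LX m = cf (k + 1) x := by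
  rw [evG_cons, evG_nil, mul_one, evG_cons, evG_cons, evG_cons, evG_nil, mul_one, hj, fi_eq] at h
  rw [h, cf_succ, mul_assoc]
  rfl

theorem i_0 : getG LX 14 = cf 0 i0 := (cf_zero _).symm
theorem i_1 : getG LX 13 = cf 1 i0 := step 13 14 0 i0 (eqn 22 (by decide)) i_0
theorem i_2 : getG LX 12 = cf 2 i0 := step 12 13 1 i0 (eqn 23 (by decide)) i_1
theorem i_3 : getG LX 11 = cf 3 i0 := step 11 12 2 i0 (eqn 24 (by decide)) i_2
theorem i_4 : getG LX 10 = cf 4 i0 := step 10 11 3 i0 (eqn 25 (by decide)) i_3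
theorem i_5 : getG LX 9 = cf 5 i0 := step 9 10 4 i0 (eqn 26 (by decide)) i_4
theorem b_0 : getG LX 6 = cf 0 b0 := (cf_zero _).symm
theorem b_1 : getG LX 5 = cf 1 b0 := step 5 6 0 b0 (eqn 27 (by decide)) b_0
theorem b_2 : getG LX 4 = cf 2 b0 := step 4 5 1 b0 (eqn 28 (by decide)) b_1
theorem b_3 : getG LX 3 = cf 3 b0 := step 3 4 2 b0 (eqn 29 (by decide)) b_2
theorem b_4 : getG LX 2 = cf 4 b0 := step 2 3 3 b0 (eqn 30 (by decide)) b_3
theorem b_5 : getG LX 1 = cf 5 b0 := step 1 2 4 b0 (eqn 31 (by decide)) b_4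

theorem two {m j m' j' : ℕ} (h : evG LX [m, j] = evG LX [m', j']) :
    getG LX m * getG LX j = getG LX m' * getG LX j' := by
  rwa [evG_cons, evG_cons, evG_nil, mul_one, evG_cons, evG_cons, evG_nil, mul_one] at h

theorem i0_sq : i0 * i0 = 1 := by
  have h := eqn 3 (by decide)
  change evG LX [14, 14] = evG LX [] at h
  rwa [evG_cons, evG_cons, evG_nil, mul_one] at h

theorem b0_sq : b0 * b0 = 1 := by
  have h := eqn 9 (by decide)
  change evG LX [6, 6] = evG LX [] at h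
  rwa [evG_cons, evG_cons, evG_nil, mul_one] at h

theorem i0_comm : ∀ k < 5, i0 * cf k i0 = cf k i0 * i0 := by
  intro k hk
  have h1 := two (eqn 4 (by decide))
  have h2 := two (eqn 5 (by decide))
  have h3 := two (eqn 6 (by decide))
  have h4 := two (eqn 7 (by decide))
  rw [i_1] at h1
  rw [i_2] at h2
  rw [i_3] at h3
  rw [i_4] at h4
  interval_cases k
  · rw [cf_zero]
  · exact h1
  · exact h2
  · exact h3
  · exact h4

theorem b0_comm : ∀ k < 5, b0 * cf k b0 = cf k b0 * b0 := by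
  intro k hk
  have h1 := two (eqn 10 (by decide))
  have h2 := two (eqn 11 (by decide))
  have h3 := two (eqn 12 (by decide))
  have h4 := two (eqn 13 (by decide))
  rw [b_1] at h1
  rw [b_2] at h2
  rw [b_3] at h3
  rw [b_4] at h4
  interval_cases k
  · rw [cf_zero]
  · exact h1
  · exact h2
  · exact h3
  · exact h4

theorem b0_i_comm : ∀ k < 5, b0 * cf k i0 = cf k i0 * b0 := by
  intro k hk
  have h0 := two (eqn 15 (by decide))
  have h1 := two (eqn 16 (by decide))
  have h2 := two (eqn 17 (by decide))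
  have h3 := two (eqn 18 (by decide))
  have h4 := two (eqn 19 (by decide))
  rw [i_0] at h0
  rw [i_1] at h1
  rw [i_2] at h2
  rw [i_3] at h3
  rw [i_4] at h4
  interval_cases k
  · exact h0
  · exact h1
  · exact h2
  · exact h3
  · exact h4

theorem i0_rel : i0 * cf 2 i0 * cf 3 i0 * cf 4 i0 * cf 5 i0 = 1 := by
  have h := eqn 8 (by decide)
  change evG LX [14, 12, 11, 10, 9] = evG LX [] at h
  rw [evG_cons, evG_cons, evG_cons, evG_cons, evG_cons, evG_nil, mul_one, i_2, i_3, i_4, i_5] at h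
  simp only [mul_assoc]
  exact h

theorem b0_rel : b0 * cf 2 b0 * cf 5 b0 = 1 := by
  have h := eqn 14 (by decide)
  change evG LX [6, 4, 1] = evG LX [] at h
  rw [evG_cons, evG_cons, evG_cons, evG_nil, mul_one, b_2, b_5] at h
  simp only [mul_assoc]
  exact h

theorem z_eq : getG LX 0 = b0 * s * f ^ 2 := by
  have h := eqn 32 (by decide)
  change evG LX [0] = evG LX [6, 17, 16, 16] at h
  rw [evG_cons, evG_nil, mul_one, evG_cons, evG_cons, evG_cons, evG_cons, evG_nil, mul_one] at h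
  rw [h, pow_two]
  simp only [mul_assoc]
  rfl

/-- **`b0 * s * f ^ 2` has order 43** -/
theorem order_z : orderOf (b0 * s * f ^ 2) = 43 := by
  have : Fact (Nat.Prime 43) := ⟨by norm_num⟩
  rw [← z_eq]
  refine orderOf_eq_prime ?_ ?_
  · have h := eqn 20 (by decide)
    change evG LX (List.replicate 43 0) = evG LX [] at h
    rwa [evG_rep, evG_nil] at h
  · have h := nen 4 (by decide)
    change evG LX [0] ≠ evG LX [] at h
    rwa [evG_cons, evG_nil, mul_one] at h

theorem order_f : orderOf f = 31 := by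
  have : Fact (Nat.Prime 31) := ⟨by norm_num⟩
  exact orderOf_eq_prime f_pow f_ne

end Cfsg.Agent.H763.JM.L32Words
end

-- part: H763/JM/XZero
section
/-!
# The explicit group `X₀ = 2^10` of `J4` normalized by `f` (helper763)

`X₀ = A_b × A_g`, and `A_b`, `A_g` are the only subgroups of order 32 of `X₀` normalized by `f`.
-/

set_option autoImplicit false

namespace Cfsg.Agent.H763.JM

open Subgroup Cfsg Cfsg.Agent.H860.JM Cfsg.Agent.J4.Beta
open Cfsg.Agent.H763.JM.L32Words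

/-- the group `Spor.J4` -/
local notation "𝒢" => Cfsg.Spor.J4

/-- the products of generators -/
local notation "βt" => Cfsg.Agent.J4.Beta.beta

/-! ### conjugation by powers of `f` -/

theorem cf_mul (k : ℕ) (x y : 𝒢) : cf k (x * y) = cf k x * cf k y := by
  rw [cf, cf, cf]; group

theorem cf_one (k : ℕ) : cf k 1 = 1 := by
  rw [cf]; group

theorem cf_cf (j k : ℕ) (x : 𝒢) : cf j (cf k x) = cf (j + k) x := by
  rw [cf, cf, cf, pow_add]; group

theorem cf_sq {x : 𝒢} (hx : x * x = 1) (k : ℕ) : cf k x * cf k x = 1 := by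
  rw [← cf_mul, hx, cf_one]

/-- the generators -/
noncomputable def lg (x : 𝒢) : List 𝒢 := [cf 0 x, cf 1 x, cf 2 x, cf 3 x, cf 4 x]

theorem mem_lg {x a : 𝒢} : a ∈ lg x ↔ ∃ k < 5, a = cf k x := by
  unfold lg
  constructor
  · intro h
    simp only [List.mem_cons, List.not_mem_nil, or_false] at h
    rcases h with h | h | h | h | h
    · exact ⟨0, by norm_num, h⟩
    · exact ⟨1, by norm_num, h⟩
    · exact ⟨2, by norm_num, h⟩
    · exact ⟨3, by norm_num, h⟩
    · exact ⟨4, by norm_num, h⟩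
  · rintro ⟨k, hk, rfl⟩
    interval_cases k <;> simp

theorem lg_sq {x : 𝒢} (hx : x * x = 1) : ∀ q ∈ lg x, q * q = 1 := by
  intro q hq
  obtain ⟨k, -, rfl⟩ := mem_lg.1 hq
  exact cf_sq hx k

theorem cf_comm_aux {x y : 𝒢} (h : ∀ k < 5, x * cf k y = cf k y * x) {i j : ℕ} (hij : i ≤ j) (hj : j < 5) :
    cf i x * cf j y = cf j y * cf i x := by
  have h1 := congrArg (cf i) (h (j - i) (by omega))
  rw [cf_mul, cf_mul, cf_cf, show i + (j - i) = j by omega] at h1
  exact h1

theorem lg_comm {x : 𝒢} (h : ∀ k < 5, x * cf k x = cf k x * x) : ∀ a ∈ lg x, ∀ b ∈ lg x, a * b = b * a := by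
  intro a ha b hb
  obtain ⟨i, hi, rfl⟩ := mem_lg.1 ha
  obtain ⟨j, hj, rfl⟩ := mem_lg.1 hb
  rcases le_total i j with hij | hij
  · exact cf_comm_aux h hij hj
  · exact (cf_comm_aux h hij hi).symm

/-- `f` normalizes a subgroup -/
theorem f_norm {A : Subgroup 𝒢} (h : ∀ a ∈ A, f * a * f⁻¹ ∈ A) : f ∈ normalizer (A : Set 𝒢) := by
  have := finite_J
  rw [← cj_eq_iff]
  apply Subgroup.eq_of_le_of_card_ge
  · intro x hx
    rw [mem_cj] at hx
    have h1 := h _ hx
    have h2 : f * (f⁻¹ * x * f) * f⁻¹ = x := by group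
    rwa [h2] at h1
  · rw [card_cj]

theorem f_norm_closure {l : List 𝒢} (h : ∀ a ∈ l, f * a * f⁻¹ ∈ _root_.Subgroup.closure {q | q ∈ l}) :
    f ∈ normalizer ((closure {q | q ∈ l} : Subgroup 𝒢) : Set 𝒢) := by
  apply f_norm
  intro a ha
  have h1 : _root_.Subgroup.closure {q | q ∈ l} ≤ (closure {q | q ∈ l}).comap (MulAut.conj f).toMonoidHom := by
    rw [closure_le]
    intro q hq
    exact h q hq
  exact h1 ha

/-- the group of order 31 -/
noncomputable def P0 : Subgroup 𝒢 := zpowers f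

theorem card_P0 : Nat.card P0 = 31 := by
  rw [P0, Nat.card_zpowers, order_f]

theorem P0_le {A : Subgroup 𝒢} (h : f ∈ normalizer (A : Set 𝒢)) : P0 ≤ normalizer (A : Set 𝒢) := by
  rw [P0, zpowers_le]; exact h

/-- the subgroup generated by the conjugates of `x` -/
noncomputable def Ax (x : 𝒢) : Subgroup 𝒢 := _root_.Subgroup.closure {q | q ∈ lg x}

theorem cf_mem_Ax {x : 𝒢} {k : ℕ} (hk : k < 5) : cf k x ∈ Ax x := _root_.Subgroup.subset_closure (mem_lg.2 ⟨k, hk, rfl⟩)

theorem Ax_norm {x : 𝒢} (h5 : cf 5 x ∈ Ax x) : f ∈ normalizer (Ax x : Set 𝒢) := by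
  apply f_norm_closure
  intro a ha
  obtain ⟨k, hk, rfl⟩ := mem_lg.1 ha
  rw [← cf_succ]
  rcases Nat.lt_or_ge k 4 with h | h
  · exact cf_mem_Ax (by omega)
  · have : k = 4 := by omega
    subst this
    exact h5

theorem Ax_cf {x : 𝒢} (h5 : cf 5 x ∈ Ax x) {y : 𝒢} (hy : y ∈ Ax x) (k : ℕ) : cf k y ∈ Ax x := by
  have h1 := pow_mem (Ax_norm h5) k
  exact (mem_normalizer_iff.1 h1 y).1 hy

theorem g5_mem : cf 5 i0 ∈ Ax i0 := by
  have h := i0_rel
  have h1 : cf 5 i0 = (i0 * cf 2 i0 * cf 3 i0 * cf 4 i0)⁻¹ := eq_inv_of_mul_eq_one_right h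
  rw [h1]
  have h0 : i0 ∈ Ax i0 := by
    have := cf_mem_Ax (x := i0) (k := 0) (by norm_num)
    rwa [cf_zero] at this
  exact inv_mem (mul_mem (mul_mem (mul_mem h0 (cf_mem_Ax (by norm_num))) (cf_mem_Ax (by norm_num)))
    (cf_mem_Ax (by norm_num)))

theorem b5_mem : cf 5 b0 ∈ Ax b0 := by
  have h := b0_rel
  have h1 : cf 5 b0 = (b0 * cf 2 b0)⁻¹ := eq_inv_of_mul_eq_one_right h
  rw [h1]
  have h0 : b0 ∈ Ax b0 := by
    have := cf_mem_Ax (x := b0) (k := 0) (by norm_num)
    rwa [cf_zero] at this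
  exact inv_mem (mul_mem h0 (cf_mem_Ax (by norm_num)))

/-- the good and the bad subgroup -/
noncomputable def Ag : Subgroup 𝒢 := Ax i0
noncomputable def Ab : Subgroup 𝒢 := Ax b0

theorem b0_comm_Ag {y : 𝒢} (hy : y ∈ Ag) : b0 * y = y * b0 := by
  have h1 : Ag ≤ centralizer {b0} := by
    rw [Ag, Ax, closure_le]
    intro q hq
    obtain ⟨k, hk, rfl⟩ := mem_lg.1 hq
    rw [SetLike.mem_coe, mem_centralizer_singleton_iff]
    exact (b0_i_comm k hk).symm
  exact (mem_centralizer_singleton_iff.1 (h1 hy)).symm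

theorem lb_lg_comm : ∀ a ∈ lg b0, ∀ b ∈ lg i0, a * b = b * a := by
  intro a ha b hb
  obtain ⟨i, hi, rfl⟩ := mem_lg.1 ha
  obtain ⟨j, hj, rfl⟩ := mem_lg.1 hb
  have h1 : cf (31 - i + j) i0 ∈ Ag := by
    rw [← cf_cf]
    exact Ax_cf g5_mem (cf_mem_Ax hj) _
  have h2 := congrArg (cf i) (b0_comm_Ag h1)
  rw [cf_mul, cf_mul, cf_cf] at h2
  have h3 : cf (i + (31 - i + j)) i0 = cf j i0 := by
    rw [show i + (31 - i + j) = 31 + j by omega, cf, cf, pow_add, f_pow, one_mul]
  rw [h3] at h2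
  exact h2

/-- the ten generators of `X₀` -/
noncomputable def LL10 : List 𝒢 := lg b0 ++ lg i0

theorem LL_sq : ∀ q ∈ LL10, q * q = 1 := by
  intro q hq
  rcases List.mem_append.1 hq with h | h
  · exact lg_sq b0_sq q h
  · exact lg_sq i0_sq q h

theorem LL_comm : ∀ a ∈ LL10, ∀ b ∈ LL10, a * b = b * a := by
  intro a ha b hb
  rcases List.mem_append.1 ha with h | h <;> rcases List.mem_append.1 hb with h' | h'
  · exact lg_comm b0_comm a h b h'
  · exact lb_lg_comm a h b h'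
  · exact (lb_lg_comm b h' a h).symm
  · exact lg_comm i0_comm a h b h'

/-- the group `X₀` -/
noncomputable def X0 : Subgroup 𝒢 := _root_.Subgroup.closure {q | q ∈ LL10}

theorem Ab_le : Ab ≤ X0 := by
  rw [Ab, Ax, X0]
  exact _root_.Subgroup.closure_mono fun q hq => List.mem_append.2 (Or.inl hq)

theorem Ag_le : Ag ≤ X0 := by
  rw [Ag, Ax, X0]
  exact _root_.Subgroup.closure_mono fun q hq => List.mem_append.2 (Or.inr hq)

theorem X0_norm : f ∈ normalizer (X0 : Set 𝒢) := by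
  apply f_norm_closure
  intro a ha
  rcases List.mem_append.1 ha with h | h
  · apply Ab_le
    exact (mem_normalizer_iff.1 (Ax_norm b5_mem) a).1 (_root_.Subgroup.subset_closure h)
  · apply Ag_le
    exact (mem_normalizer_iff.1 (Ax_norm g5_mem) a).1 (subset_closure h)

/-! ### orders -/

theorem card_le_of {l : List 𝒢} (hsq : ∀ q ∈ l, q * q = 1) (hcomm : ∀ a ∈ l, ∀ b ∈ l, a * b = b * a) :
    Nat.card (closure {q | q ∈ l}) ≤ 2 ^ l.length := by
  have hm : ∀ v : Fin (2 ^ l.length), βt l v ∈ _root_.Subgroup.closure {q | q ∈ l} := fun v =>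
    beta_mem _ l (fun a ha => _root_.Subgroup.subset_closure ha) v
  have hs : Function.Surjective (fun v : Fin (2 ^ l.length) => (⟨βt l v, hm v⟩ : closure {q | q ∈ l})) := by
    rintro ⟨y, hy⟩
    obtain ⟨v, hv, rfl⟩ := exists_beta hsq hcomm hy
    exact ⟨⟨v, hv⟩, rfl⟩
  have h1 := Nat.card_le_card_of_surjective _ hs
  rwa [Nat.card_fin] at h1

theorem isPGroup_of {l : List 𝒢} (hsq : ∀ q ∈ l, q * q = 1) (hcomm : ∀ a ∈ l, ∀ b ∈ l, a * b = b * a) :
    IsPGroup 2 (_root_.Subgroup.closure {q | q ∈ l} : Subgroup 𝒢) := by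
  rintro ⟨y, hy⟩
  obtain ⟨v, -, rfl⟩ := exists_beta hsq hcomm hy
  exact ⟨1, Subtype.ext (by rw [pow_one, pow_two]; exact beta_sq l hsq hcomm v)⟩

/-- a nontrivial subgroup of order at most 32 normalized by `f` -/
theorem card_32 {D : Subgroup 𝒢} (hD : IsPGroup 2 D) (hn : f ∈ normalizer (D : Set 𝒢)) (h1 : D ≠ ⊥)
    (hle : Nat.card D ≤ 32) : Nat.card D = 32 := by
  have := finite_J
  have h2 := card_mod31 card_P0 hD (P0_le hn)
  have h3 : Nat.card D ≠ 1 := fun h => h1 (Subgroup.card_eq_one.1 h)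
  omega

theorem Ax_ne {x : 𝒢} (hx : x ≠ 1) : Ax x ≠ ⊥ := by
  intro h
  have h1 := cf_mem_Ax (x := x) (k := 0) (by norm_num)
  rw [h, cf_zero, mem_bot] at h1
  exact hx h1

theorem Ag_2 : IsPGroup 2 Ag := isPGroup_of (lg_sq i0_sq) (lg_comm i0_comm)
theorem Ab_2 : IsPGroup 2 Ab := isPGroup_of (lg_sq b0_sq) (lg_comm b0_comm)
theorem X0_2 : IsPGroup 2 X0 := isPGroup_of LL_sq LL_comm

theorem card_Ag : Nat.card Ag = 32 :=
  card_32 Ag_2 (Ax_norm g5_mem) (Ax_ne i0_ne) (card_le_of (lg_sq i0_sq) (lg_comm i0_comm))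

theorem card_Ab : Nat.card Ab = 32 :=
  card_32 Ab_2 (Ax_norm b5_mem) (Ax_ne b0_ne) (card_le_of (lg_sq b0_sq) (lg_comm b0_comm))

/-- the products of the generators of `A_b` are distinct -/
theorem beta_b_ne {w : ℕ} (hw : w < 32) (h : βt (lg b0) w = 1) : w = 0 := by
  have hm : ∀ v : Fin 32, βt (lg b0) v ∈ Ab := fun v =>
    beta_mem _ _ (fun a ha => _root_.Subgroup.subset_closure ha) v
  have hs : Function.Surjective (fun v : Fin 32 => (⟨βt (lg b0) v, hm v⟩ : Ab)) := by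
    rintro ⟨y, hy⟩
    obtain ⟨v, hv, rfl⟩ := exists_beta (lg_sq b0_sq) (lg_comm b0_comm) hy
    exact ⟨⟨v, hv⟩, rfl⟩
  have hb : Function.Bijective (fun v : Fin 32 => (⟨βt (lg b0) v, hm v⟩ : Ab)) := by
    have : Finite Ab := Nat.finite_of_card_ne_zero (by rw [card_Ab]; norm_num)
    rw [Nat.bijective_iff_surjective_and_card]
    exact ⟨hs, by rw [Nat.card_eq_fintype_card, Fintype.card_fin, card_Ab]⟩
  have h1 := @hb.1 ⟨w, hw⟩ ⟨0, by norm_num⟩ (Subtype.ext (by
    change βt (lg b0) w = βt (lg b0) 0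
    rw [h, beta_zero]))
  exact congrArg Fin.val h1

/-! ### the action of `f` on `X₀` in coordinates -/

/-- the matrix of `f` -/
def MF : List ℕ := [2, 4, 8, 16, 5, 64, 128, 256, 512, 928]

/-- the polynomial of `A_g` in `f` -/
def ng (v : ℕ) : ℕ :=
  let a := lin MF (lin MF v)
  let b := lin MF a
  let c := lin MF b
  let d := lin MF c
  v ^^^ a ^^^ b ^^^ c ^^^ d

theorem ng_spec : ∀ v < 1024, (v % 32 ≠ 0 → ng v ≠ 0 ∧ ng v < 32) ∧ (v % 32 = 0 → ng v = 0) := by
  decide +kernel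

theorem beta_LL {v w : ℕ} : βt LL10 (v ^^^ w) = βt LL10 v * βt LL10 w := beta_xor _ LL_sq LL_comm v w

theorem beta_pow_b {k : ℕ} (hk : k < 5) : βt LL10 (2 ^ k) = cf k b0 := by
  interval_cases k <;> simp only [LL10, lg, beta_cons, beta_nil, _root_.List.cons_append, _root_.List.nil_append, _root_.pow_zero, _root_.Nat.mod_succ, ↓ _root_.reduceIte, _root_.Nat.reduceDiv, _root_.Nat.zero_mod, _root_.zero_ne_one, _root_.Nat.zero_div, _root_.mul_one, _root_.pow_one, _root_.Nat.mod_self, _root_.Order.lt_two_iff, _root_.zero_le, _root_.Nat.div_self, _root_.one_mul, _root_.Nat.reducePow, _root_.Nat.reduceMod]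

theorem beta_pow_g {k : ℕ} (hk : k < 5) : βt LL10 (2 ^ (5 + k)) = cf k i0 := by
  interval_cases k <;> simp only [LL10, lg, beta_cons, beta_nil, _root_.List.cons_append, _root_.List.nil_append, _root_.add_zero, _root_.Nat.reducePow, _root_.Nat.reduceMod, _root_.zero_ne_one, ↓ _root_.reduceIte, _root_.Nat.reduceDiv, _root_.Nat.mod_self, _root_.Order.lt_two_iff, _root_.zero_le, _root_.Nat.div_self, _root_.Nat.mod_succ, _root_.Nat.zero_mod, _root_.Nat.zero_div, _root_.mul_one, _root_.one_mul, _root_.Nat.reduceAdd]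

theorem cf5b : cf 5 b0 = βt LL10 5 := by
  have h := b0_rel
  have h1 : cf 5 b0 = (b0 * cf 2 b0)⁻¹ := eq_inv_of_mul_eq_one_right h
  have h2 : (b0 * cf 2 b0) * (b0 * cf 2 b0) = 1 := by
    have h3 := b0_comm 2 (by norm_num)
    calc b0 * cf 2 b0 * (b0 * cf 2 b0) = b0 * (cf 2 b0 * b0) * cf 2 b0 := by group
      _ = b0 * (b0 * cf 2 b0) * cf 2 b0 := by rw [h3]
      _ = (b0 * b0) * (cf 2 b0 * cf 2 b0) := by group
      _ = 1 := by rw [b0_sq, cf_sq b0_sq, one_mul]
  rw [h1, inv_eq_of_mul_eq_one_left h2]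
  have h4 : βt LL10 (2 ^ 0 ^^^ 2 ^ 2) = cf 0 b0 * cf 2 b0 := by
    rw [beta_LL, beta_pow_b (by norm_num), beta_pow_b (by norm_num)]
  rw [cf_zero] at h4
  exact h4.symm

theorem cf5g : cf 5 i0 = βt LL10 928 := by
  have h := i0_rel
  have h1 : cf 5 i0 = (i0 * cf 2 i0 * cf 3 i0 * cf 4 i0)⁻¹ := eq_inv_of_mul_eq_one_right h
  have h4 : βt LL10 (2 ^ (5 + 0) ^^^ 2 ^ (5 + 2) ^^^ 2 ^ (5 + 3) ^^^ 2 ^ (5 + 4)) =
      i0 * cf 2 i0 * cf 3 i0 * cf 4 i0 := by
    rw [beta_LL, beta_LL, beta_LL, beta_pow_g (by norm_num), beta_pow_g (by norm_num), beta_pow_g (by norm_num),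
      beta_pow_g (by norm_num), cf_zero]
  rw [h1, ← h4]
  exact inv_eq_of_mul_eq_one_left (beta_sq _ LL_sq LL_comm _)

theorem forall_MF : List.Forall₂ (fun a c => f * a * f⁻¹ = βt LL10 c) LL10 MF := by
  have hb : ∀ k < 4, f * cf k b0 * f⁻¹ = βt LL10 (2 ^ (k + 1)) := by
    intro k hk
    rw [← cf_succ, beta_pow_b (by omega)]
  have hg : ∀ k < 4, f * cf k i0 * f⁻¹ = βt LL10 (2 ^ (5 + (k + 1))) := by
    intro k hk
    rw [← cf_succ, beta_pow_g (by omega)]
  refine List.Forall₂.cons (hb 0 (by norm_num)) (List.Forall₂.cons (hb 1 (by norm_num))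
    (List.Forall₂.cons (hb 2 (by norm_num)) (List.Forall₂.cons (hb 3 (by norm_num))
    (List.Forall₂.cons ?_ (List.Forall₂.cons (hg 0 (by norm_num)) (List.Forall₂.cons (hg 1 (by norm_num))
    (List.Forall₂.cons (hg 2 (by norm_num)) (List.Forall₂.cons (hg 3 (by norm_num))
    (List.Forall₂.cons ?_ List.Forall₂.nil)))))))))
  · rw [← cf_succ]; exact cf5b
  · rw [← cf_succ]; exact cf5g

theorem conj_f (v : ℕ) : f * βt LL10 v * f⁻¹ = βt LL10 (lin MF v) :=
  conj_beta LL10 LL_sq LL_comm f forall_MF v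

theorem cf_beta (k v : ℕ) : cf k (βt LL10 v) = βt LL10 ((lin MF)^[k] v) := by
  induction k with
  | zero => rw [cf_zero]; rfl
  | succ k ih => rw [cf_succ, ih, conj_f, Function.iterate_succ_apply']

/-- the polynomial of `A_g` in `f` -/
noncomputable def NG (u : 𝒢) : 𝒢 := u * cf 2 u * cf 3 u * cf 4 u * cf 5 u

theorem NG_beta (v : ℕ) : NG (βt LL10 v) = βt LL10 (ng v) := by
  rw [NG, cf_beta, cf_beta, cf_beta, cf_beta]
  have h : ng v = v ^^^ (lin MF)^[2] v ^^^ (lin MF)^[3] v ^^^ (lin MF)^[4] v ^^^ (lin MF)^[5] v := rfl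
  rw [h, beta_LL, beta_LL, beta_LL, beta_LL]

theorem NG_mem {U : Subgroup 𝒢} (hn : f ∈ normalizer (U : Set 𝒢)) {u : 𝒢} (hu : u ∈ U) : NG u ∈ U := by
  have h : ∀ k, cf k u ∈ U := fun k => (mem_normalizer_iff.1 (pow_mem hn k) u).1 hu
  exact mul_mem (mul_mem (mul_mem (mul_mem hu (h 2)) (h 3)) (h 4)) (h 5)

theorem beta_append {G : Type*} [Group G] (l m : List G) (v : ℕ) :
    βt (l ++ m) v = βt l (v % 2 ^ l.length) * βt m (v / 2 ^ l.length) := by
  induction l generalizing v with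
  | nil => simp [beta_nil]
  | cons a l ih =>
    rw [List.cons_append, beta_cons, ih, beta_cons, List.length_cons, pow_succ, mul_assoc]
    have h1 : v % (2 ^ l.length * 2) % 2 = v % 2 := by
      rw [Nat.mod_mod_of_dvd _ (Dvd.intro_left _ rfl)]
    have h2 : v % (2 ^ l.length * 2) / 2 = v / 2 % 2 ^ l.length := by
      rw [mul_comm (2 ^ l.length) 2, Nat.mod_mul_right_div_self]
    have h3 : v / (2 ^ l.length * 2) = v / 2 / 2 ^ l.length := by
      rw [mul_comm (2 ^ l.length) 2, Nat.div_div_eq_div_mul]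
    rw [h1, h2, h3]

theorem beta_split (v : ℕ) : βt LL10 v = βt (lg b0) (v % 32) * βt (lg i0) (v / 32) :=
  beta_append _ _ v

theorem beta_low {w : ℕ} (hw : w < 32) : βt LL10 w = βt (lg b0) w := by
  rw [beta_split, Nat.mod_eq_of_lt hw, Nat.div_eq_of_lt hw, beta_zero, mul_one]

/-- **the subgroups of order 32 of `X₀` normalized by `f`** -/
theorem eq_Ag_or_Ab {U : Subgroup 𝒢} (hU : U ≤ X0) (hc : Nat.card U = 32) (hn : f ∈ normalizer (U : Set 𝒢)) :
    U = Ag ∨ U = Ab := by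
  have := finite_J
  have hex : ∀ u ∈ U, ∃ v < 1024, u = βt LL10 v := fun u hu => exists_beta LL_sq LL_comm (hU hu)
  by_cases h : ∀ u ∈ U, ∃ v < 1024, v % 32 = 0 ∧ u = βt LL10 v
  · left
    apply Subgroup.eq_of_le_of_card_ge
    · intro u hu
      obtain ⟨v, -, hv, rfl⟩ := h u hu
      rw [beta_split, hv, beta_zero, one_mul]
      exact beta_mem _ _ (fun a ha => _root_.Subgroup.subset_closure ha) _
    · rw [hc, card_Ag]
  · right
    push Not at h
    obtain ⟨u, hu, h⟩ := h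
    obtain ⟨v, hv, huv⟩ := hex u hu
    have h1 : v % 32 ≠ 0 := fun h0 => h v hv h0 huv
    obtain ⟨h2, h3⟩ := (ng_spec v hv).1 h1
    have h4 : NG u ∈ U := NG_mem hn hu
    rw [huv, NG_beta, beta_low h3] at h4
    have h5 : βt (lg b0) (ng v) ∈ Ab := beta_mem _ _ (fun a ha => _root_.Subgroup.subset_closure ha) _
    have h6 : U ⊓ Ab ≠ ⊥ := by
      intro h0
      have h7 : βt (lg b0) (ng v) ∈ U ⊓ Ab := ⟨h4, h5⟩
      rw [h0, mem_bot] at h7
      exact h2 (beta_b_ne h3 h7)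
    have hn2 : f ∈ normalizer ((U ⊓ Ab : Subgroup 𝒢) : Set 𝒢) := by
      apply f_norm
      intro a ha
      exact ⟨(mem_normalizer_iff.1 hn a).1 ha.1, (mem_normalizer_iff.1 (Ax_norm b5_mem) a).1 ha.2⟩
    have h8 := card_32 (Ab_2.to_le inf_le_right) hn2 h6
      ((Subgroup.card_le_of_le inf_le_right).trans_eq card_Ab)
    have h9 : U ⊓ Ab = U := Subgroup.eq_of_le_of_card_ge inf_le_left (by rw [h8, hc])
    have h10 : U ⊓ Ab = Ab := Subgroup.eq_of_le_of_card_ge inf_le_right (by rw [h8, card_Ab])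
    exact h9.symm.trans h10

theorem card_X0 : Nat.card X0 = 2 ^ 10 := by
  have := finite_J
  obtain ⟨n, hn⟩ := IsPGroup.iff_card.1 X0_2
  have h1 := card_mod31 card_P0 X0_2 (P0_le X0_norm)
  have h2 : Nat.card X0 ≤ 2 ^ 10 := card_le_of LL_sq LL_comm
  have h3 : Nat.card Ab ≤ Nat.card X0 := Subgroup.card_le_of_le Ab_le
  rw [card_Ab] at h3
  rw [hn] at h1 h2 h3 ⊢
  have h4 : n ≤ 10 := (Nat.pow_le_pow_iff_right (by norm_num)).1 h2
  have h5 : 5 ≤ n := by
    have : 2 ^ 5 ≤ 2 ^ n := h3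
    exact (Nat.pow_le_pow_iff_right (by norm_num)).1 this
  have h6 : n = 5 ∨ n = 10 := by
    interval_cases n <;> simp_all only [_root_.Nat.reducePow, _root_.Nat.reduceMod, _root_.Nat.reduceLeDiff, _root_.Std.le_refl, _root_.Nat.reduceEqDiff, _root_.or_false, _root_.OfNat.ofNat_ne_one, _root_.or_true]
  rcases h6 with rfl | rfl
  · exfalso
    have e1 : Ab = X0 := Subgroup.eq_of_le_of_card_ge Ab_le (by rw [hn, card_Ab]; norm_num)
    have e2 : Ag = X0 := Subgroup.eq_of_le_of_card_ge Ag_le (by rw [hn, card_Ag]; norm_num)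
    have h7 : b0 ∈ Ag := by
      rw [e2, ← e1]
      have := cf_mem_Ax (x := b0) (k := 0) (by norm_num)
      rwa [cf_zero] at this
    obtain ⟨w, hw, h8⟩ := exists_beta (lg_sq i0_sq) (lg_comm i0_comm) h7
    have hw' : w < 32 := hw
    have h9 : b0 = βt LL10 (32 * w) := by
      rw [beta_split, Nat.mul_mod_right, beta_zero, one_mul, Nat.mul_div_cancel_left _ (by norm_num)]
      exact h8
    have h10 : NG b0 = 1 := by
      rw [h9, NG_beta, (ng_spec (32 * w) (by omega)).2 (Nat.mul_mod_right _ _), beta_zero]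
    have h11 : b0 = βt LL10 1 := by
      have := beta_pow_b (k := 0) (by norm_num)
      rw [cf_zero] at this
      exact this.symm
    obtain ⟨h12, h13⟩ := (ng_spec 1 (by norm_num)).1 (by norm_num)
    apply h12
    apply beta_b_ne h13
    rw [← beta_low h13, ← NG_beta, ← h11]
    exact h10
  · rfl

/-- **`X₀` is self-centralizing** -/
theorem xc_X0 (hF : Facts geo) : geo.Xc X0 := by
  have := finite_J
  obtain ⟨X, hX, -, hle⟩ := exists_X hF card_P0 X0_2 (fun h => by
    have h1 := card_X0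
    rw [h, Subgroup.card_bot] at h1
    norm_num at h1) (P0_le X0_norm)
  have h1 : X0 = X := Subgroup.eq_of_le_of_card_ge hle (by rw [card_X0, hX.2.1])
  rw [h1]
  exact hX

end Cfsg.Agent.H763.JM
end

private theorem dce_e27a6ab5408a : _root_.True := by
  try have : _root_.True := by simp only [_root_.Cfsg.Agent.H763.JM.X0.eq_1]
  try have : _root_.True := by simp only [_root_.Cfsg.Agent.H763.JM.LL10.eq_1]
  try have : _root_.True := by simp only [_root_.Cfsg.Agent.H763.JM.L32Words.cf.eq_1]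
  try have : _root_.True := by simp only [_root_.Cfsg.Agent.H763.JM.P0.eq_1]
  try have : _root_.True := by simp only [_root_.Cfsg.Agent.H763.JM.NG.eq_1]
  try have : _root_.True := by simp only [_root_.Cfsg.Agent.H763.JM.Ab.eq_1]
  try have : _root_.True := by simp only [_root_.Cfsg.Agent.H763.JM.Ag.eq_1]
  try have : _root_.True := by simp only [_root_.Cfsg.Agent.H763.JM.Ax.eq_1]
  try have : _root_.True := by simp only [_root_.Cfsg.Agent.H763.JM.lg.eq_1]
  exact _root_.True.intro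
end

-- part: H382/JM/L52_mg
section
prune_inst 0x801002000000000000000000000000000000000000200000000008000000010000000900008000020022000000000040000000000000000000000000000400000000000000000000000000000000000000000000000000000000000000000000000000000
set_option linter.all false
open scoped Cfsg.Agent.FastGrp

-- part: H382/JM/L52Data
section
/-!
# S5580, row `L₅(2)`: words and kernel computation in `J4` (helper382)

The program `slp` (continuing the environment `LX` of `H858.Data`) computes an element `U` of order 31 normalised by the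
element `f` of order 5, the involution `j0` inverting `U` and commuting with `f`, the 224 elements of order 3 commuting with
`f`, and a basis of an elementary abelian group `X` of order 1024 normalised by `U` and `f`.
-/

set_option autoImplicit false

open Cfsg

namespace Cfsg.Agent.H382.JM.L52Data

open Cfsg.Agent.Lib Cfsg.Agent.Lib.F2MatGroup
open Cfsg.Agent.J4.Rep112 Cfsg.Agent.J4.LowerData Cfsg.Agent.J4.Lower
open Cfsg.Agent.H858.VK Cfsg.Agent.H858.Data

/-- the program -/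
def slp : List (List ℕ) := [[27, 26, 26, 26, 29, 28],
  [1, 1, 1, 10, 10, 10],
  [29, 31, 28, 28, 28, 30],
  [1, 0, 1, 2],
  [0, 0],
  [0, 0],
  [0, 0],
  [0, 0],
  [7, 0],
  [18, 18, 18, 18, 18, 18],
  [10, 10, 10, 10, 10, 10, 10],
  [1, 1, 1, 0, 0, 0],
  [9, 0, 11, 0],
  [0, 0],
  [0, 0],
  [0, 0],
  [0, 0],
  [0, 14],
  [45, 46, 46, 44, 46, 47],
  [48, 46, 45, 46, 46, 47],
  [1, 8, 0, 8],
  [0, 0],
  [0, 3],
  [49, 50, 50, 52, 50],
  [52, 53, 52, 52, 50],
  [23, 0, 23, 1],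
  [0, 0],
  [0, 0],
  [2, 0],
  [1, 1],
  [0, 0],
  [2, 0],
  [8, 0],
  [59, 60, 59, 61, 62],
  [63, 61, 60, 62, 60],
  [33, 0, 33, 1],
  [2, 0],
  [35, 18, 35, 17],
  [0, 0],
  [19, 0],
  [31, 22, 31, 17, 7, 3, 0, 7, 17],
  [16, 29, 17, 29],
  [0, 0],
  [0, 0],
  [0, 0],
  [0, 0],
  [2, 4],
  [1, 0],
  [0, 23],
  [14, 37, 15, 37],
  [0, 15],
  [28, 42, 2, 14, 42, 0, 11, 33, 0],
  [80, 81],
  [80, 79],
  [0, 82],
  [0, 81],
  [82, 84],
  [84, 0],
  [84, 0],
  [3, 87, 0],
  [82, 77],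
  [90, 0, 90],
  [52, 0, 71],
  [7, 90, 4],
  [4, 1, 0],
  [8, 91],
  [0, 93],
  [0, 93],
  [0, 96],
  [95, 15],
  [98, 0],
  [97, 0],
  [99, 0],
  [4, 99, 0],
  [0, 13, 0],
  [10, 0, 14],
  [105, 103],
  [24, 1, 0],
  [66, 0],
  [0, 0],
  [0, 27],
  [40, 29, 0],
  [18, 91, 100, 111],
  [100, 105],
  [10, 0, 10],
  [114, 1, 114],
  [76, 0, 95],
  [27, 0, 23],
  [4, 3, 0],
  [36, 0, 12],
  [0, 88],
  [0, 0],
  [15, 0],
  [56, 84, 70, 56, 75, 42, 60, 75, 53],
  [54, 45, 71, 43, 45, 54, 76, 85, 76],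
  [2, 1, 0],
  [14, 13, 0],
  [106, 106, 106, 106, 106, 106],
  [98, 98, 98, 98, 98, 98, 98],
  [99, 108, 108, 108, 99, 108, 108, 99, 108],
  [100, 109, 109, 100, 109, 100, 109, 100, 109, 109],
  [110, 0, 3],
  [102, 1, 3],
  [112, 1, 5],
  [104, 2, 5],
  [114, 2, 7],
  [106, 3, 7],
  [116, 3, 9],
  [108, 4, 9],
  [118, 4, 11],
  [110, 5, 11],
  [120, 5, 13],
  [112, 6, 13],
  [122, 6, 15],
  [114, 7, 15],
  [124, 7, 17],
  [116, 8, 17],
  [126, 8, 19],
  [118, 9, 19],
  [128, 9, 21],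
  [120, 10, 21],
  [130, 10, 23],
  [122, 11, 23],
  [132, 11, 25],
  [124, 12, 25],
  [125, 12, 26],
  [135, 12, 28],
  [127, 13, 28],
  [137, 13, 30],
  [129, 14, 30],
  [139, 14, 32],
  [140, 14, 33],
  [132, 15, 33],
  [142, 15, 35],
  [134, 16, 35],
  [144, 16, 37],
  [136, 17, 37],
  [146, 17, 39],
  [138, 18, 39],
  [139, 18, 40],
  [140, 18, 41],
  [150, 18, 43],
  [142, 19, 43],
  [152, 19, 45],
  [144, 20, 45],
  [154, 20, 47],
  [146, 21, 47],
  [156, 21, 49],
  [148, 22, 49],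
  [158, 22, 51],
  [150, 23, 51],
  [160, 23, 53],
  [152, 24, 53],
  [162, 24, 55],
  [154, 25, 55],
  [164, 25, 57],
  [156, 26, 57],
  [166, 26, 59],
  [158, 26, 59],
  [168, 26, 61],
  [160, 27, 61],
  [170, 27, 63],
  [162, 28, 63],
  [172, 27, 65],
  [164, 28, 65],
  [174, 28, 67],
  [175, 28, 68],
  [167, 29, 68],
  [177, 29, 70],
  [169, 30, 70],
  [179, 30, 72],
  [171, 31, 72],
  [172, 31, 73],
  [182, 31, 75],
  [174, 32, 75],
  [184, 32, 77],
  [185, 32, 78],
  [186, 32, 79],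
  [178, 33, 79],
  [188, 33, 81],
  [189, 33, 82],
  [181, 34, 82],
  [191, 34, 84],
  [192, 34, 85],
  [184, 35, 85],
  [185, 35, 86],
  [195, 35, 88],
  [187, 36, 88],
  [197, 36, 90],
  [189, 37, 90],
  [199, 37, 92],
  [191, 38, 92],
  [192, 38, 93],
  [202, 38, 95],
  [194, 39, 95],
  [204, 39, 97],
  [196, 40, 97],
  [206, 40, 99],
  [198, 41, 99],
  [199, 41, 100],
  [209, 41, 102],
  [201, 42, 102],
  [211, 41, 104],
  [203, 42, 104],
  [213, 42, 106],
  [205, 43, 106],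
  [215, 43, 108],
  [216, 43, 109],
  [208, 44, 109],
  [218, 44, 111],
  [210, 45, 111],
  [220, 45, 113],
  [212, 46, 113],
  [222, 46, 115],
  [214, 47, 115],
  [224, 47, 117],
  [225, 47, 118],
  [217, 48, 118],
  [227, 48, 120],
  [219, 49, 120],
  [229, 49, 122],
  [221, 50, 122],
  [231, 50, 124],
  [223, 50, 124],
  [224, 50, 125],
  [234, 50, 127],
  [226, 51, 127],
  [236, 51, 129],
  [228, 52, 129],
  [238, 52, 131],
  [230, 53, 131],
  [231, 53, 132],
  [232, 53, 133],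
  [233, 53, 134],
  [234, 53, 135],
  [244, 53, 137],
  [236, 54, 137],
  [246, 53, 139],
  [247, 52, 140],
  [239, 52, 140],
  [249, 52, 142],
  [241, 53, 142],
  [251, 53, 144],
  [243, 54, 144],
  [253, 53, 146],
  [245, 54, 146],
  [246, 54, 147],
  [256, 54, 149],
  [257, 54, 150],
  [249, 55, 150],
  [259, 55, 152],
  [251, 56, 152],
  [261, 54, 154],
  [253, 55, 154],
  [263, 55, 156],
  [255, 56, 156],
  [265, 56, 158],
  [257, 57, 158],
  [258, 57, 159],
  [259, 56, 160],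
  [269, 54, 162],
  [261, 55, 162],
  [271, 55, 164],
  [263, 56, 164],
  [273, 56, 166],
  [265, 57, 166],
  [275, 56, 168],
  [276, 56, 169],
  [268, 57, 169],
  [269, 57, 170],
  [270, 57, 171],
  [280, 57, 173],
  [272, 58, 173],
  [282, 57, 175],
  [283, 56, 176],
  [284, 56, 177],
  [285, 56, 178],
  [277, 57, 178],
  [287, 56, 180],
  [288, 56, 181],
  [280, 57, 181],
  [290, 57, 183],
  [291, 56, 184],
  [283, 57, 184],
  [284, 57, 185],
  [294, 57, 187],
  [295, 54, 188],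
  [287, 55, 188],
  [297, 55, 190],
  [298, 55, 191],
  [299, 51, 192],
  [291, 51, 192],
  [292, 50, 193],
  [293, 50, 194],
  [303, 50, 196],
  [304, 50, 197],
  [305, 50, 198],
  [297, 50, 198],
  [298, 50, 199],
  [308, 50, 201],
  [309, 49, 202],
  [310, 47, 203],
  [302, 48, 203],
  [312, 46, 205],
  [304, 47, 205],
  [305, 47, 206],
  [315, 47, 208],
  [307, 47, 208],
  [317, 47, 210],
  [309, 46, 210],
  [319, 46, 212],
  [311, 47, 212],
  [312, 47, 213],
  [313, 45, 214],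
  [323, 43, 216],
  [324, 36, 217],
  [325, 34, 218],
  [317, 34, 218],
  [327, 33, 220],
  [319, 29, 220],
  [320, 27, 221],
  [321, 27, 222],
  [322, 23, 223],
  [332, 20, 225],
  [227, 227],
  [0, 228],
  [0, 1],
  [0, 2],
  [0, 2, 231],
  [0, 3, 232],
  [0, 0],
  [340, 331, 331, 340, 331, 340, 340, 340],
  [235, 0, 1],
  [236, 0, 2],
  [237, 0, 3],
  [238, 0, 4],
  [345, 336, 336, 345, 336, 336, 336, 336, 336, 336],
  [240, 0, 6],
  [241, 0, 7],
  [242, 0, 8],
  [243, 0, 9]]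

/-- index of the `i`-th element of order 3 -/
def ic (i : ℕ) : ℕ := 240 - i
/-- index of the `i`-th element of `X` -/
def iz (i : ℕ) : ℕ := 9 - i
/-- indices of `U, U^3, U^5, U^7, U^11, U^15` -/
def iu (r : ℕ) : ℕ := [244, 15, 14, 13, 12, 11].getD r 0
/-- the exponents -/
def er (r : ℕ) : ℕ := [1, 3, 5, 7, 11, 15].getD r 0

/-- conjugation by `s` -/
def ps : List ℕ := [1, 3, 5, 7, 9, 11, 13, 15, 17, 19, 21, 23, 18, 26, 28, 30, 31, 33, 35, 37, 10, 27, 41, 43, 45, 47, 49, 51, 53, 55, 57, 48, 59, 61, 60, 63, 65, 66, 68, 70, 56, 73, 75, 76, 77, 79, 80, 82, 83, 39, 86, 88, 90, 42, 93, 95, 97, 0, 100, 69, 102, 104, 106, 107, 109, 111, 113, 115, 116, 118, 120, 122, 58, 74, 125, 127, 129, 78, 89, 119, 32, 135, 94, 137, 136, 138, 52, 140, 142, 133, 144, 64, 147, 148, 150, 103, 44, 152, 154, 156, 91, 139, 40, 114, 146, 160, 162, 164, 163, 166, 167, 54, 29, 171, 155, 173, 108, 174, 175, 176, 6, 178, 179, 181, 16, 182, 84, 185, 132, 2, 170, 186, 188,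 189, 123, 62, 71, 141, 190, 153, 92, 124, 20, 194, 195, 196, 169, 110, 199, 101, 200, 130, 34, 201, 192, 112, 203, 121, 206, 99, 208, 25, 202, 210, 187, 87, 72, 165, 134, 8, 214, 4, 126, 184, 157, 46, 193, 143, 215, 172, 22, 216, 180, 213, 218, 14, 168, 12, 212, 96, 204, 50, 128, 219, 211, 191, 149, 183, 85, 36, 161, 145, 223, 158, 209, 159, 205, 217, 151, 221, 220, 197, 98, 177, 105, 222, 131, 67, 207, 24, 38, 198, 117, 81]
/-- conjugation by `j` -/
def pj : List ℕ := [2, 4, 6, 8, 10, 12, 14, 16, 18, 20, 22, 24, 25, 27, 29, 1, 32, 34, 36, 38, 39, 40, 42, 44, 46, 48, 50, 52, 54, 56, 53, 58, 60, 62, 9, 64, 3, 67, 69, 71, 72, 74, 51, 7, 78, 70, 81, 13, 84, 85, 87, 89, 91, 92, 94, 96, 98, 99, 101, 61, 103, 105, 80, 108, 110, 112, 114, 23, 117, 119, 121, 88, 123, 124, 126, 128, 130, 131, 132, 133, 134, 136, 11, 95, 118, 83, 139, 141, 143, 15, 145, 146, 104, 149, 151, 49, 66, 153, 155, 157, 158, 120, 159, 156, 41, 161, 163, 165, 115, 137, 168, 169,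 170, 172, 125, 166, 35, 154, 100, 177, 148, 63, 180, 21, 135, 183, 184, 93, 175, 106, 26, 187, 167, 140, 188, 65, 90, 73, 174, 191, 178, 192, 193, 17, 33, 82, 197, 198, 162, 122, 190, 57, 116, 202, 189, 0, 204, 205, 5, 207, 97, 164, 209, 211, 212, 127, 196, 213, 138, 176, 109, 68, 200, 31, 152, 206, 102, 86, 79, 111, 214, 77, 217, 194, 30, 55, 47, 210, 150, 219, 144, 19, 220, 221, 185, 113, 45, 186, 222, 147, 195, 208, 199, 215, 43, 28, 75, 216, 182, 173, 142, 129, 203, 37, 107, 59, 179, 201, 171, 223, 76, 181, 160, 218]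

/-- conjugates of the basis of `X` -/
def tU : List (List ℕ) := [[8],
  [7],
  [6],
  [5],
  [9, 7],
  [3],
  [2],
  [1],
  [0],
  [4, 3, 1, 0]]
/-- conjugates of the basis of `X` -/
def tF : List (List ℕ) := [[9],
  [9, 8, 6, 5],
  [8],
  [9, 8, 5],
  [7],
  [4],
  [1, 0],
  [3],
  [4, 3, 1],
  [2]]
/-- conjugates of the basis of `X` -/
def tA : List (List ℕ) := [[4],
  [9, 7, 6, 5, 4, 0],
  [8, 7, 5, 3, 2, 1],
  [5, 2, 1],
  [9, 6, 5, 4, 1, 0],
  [9, 4],
  [8, 6, 4],
  [8, 7, 6, 4],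
  [8, 7, 5],
  [8, 7, 6, 5, 4]]
/-- conjugates of the basis of `X` -/
def tB : List (List ℕ) := [[4],
  [9, 7, 6, 5, 4, 0],
  [8, 7, 5, 3, 2, 1],
  [5, 2, 1],
  [9, 6, 5, 4, 1, 0],
  [9, 4],
  [8, 6, 4],
  [8, 7, 6, 4],
  [8, 7, 5],
  [8, 7, 6, 5, 4]]

/-- relations for the conjugates of `X` -/
def rX (g : ℕ) (t : List (List ℕ)) : List (List ℕ × List ℕ) :=
  (List.range 10).map fun i => ([g, iz i], t.getD i [] ++ [g])

/-- the relations -/
def rel0 : List (List ℕ × List ℕ) := [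
  ([11, 11, 244], []),
  ([244, 344], [344, 244, 244]),
  ([241, 241], []),
  ([241, 244, 241, 244], []),
  ([241, 344], [344, 241]),
  ([ic 0, 344], [344, ic 0]),
  ([ic 0, ic 0, ic 0], []),
  ([ic 143, ic 0], []),
  ([ic 13, ic 60], []),
  ([ic 115], [241, ic 0, 241]),
  ([ic 147], [241, ic 143, 241]),
  ([ic 222], [241, ic 60, 241]),
  ([ic 196], [241, ic 13, 241])]

/-- the powers of `U` -/
def relU : List (List ℕ × List ℕ) := (List.range 6).map fun r => ([iu r], List.replicate (er r) 244)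

/-- the conjugates by `s` -/
def relS : List (List ℕ × List ℕ) := (List.range 224).map fun i => ([350, ic i], [ic (ps.getD i 0), 350])

/-- the conjugates by `j` -/
def relJ : List (List ℕ × List ℕ) := (List.range 224).map fun i => ([341, ic i], [ic (pj.getD i 0), 341])

/-- commuting elements -/
def relZ : List (List ℕ × List ℕ) :=
  (List.range 10).flatMap fun i => (List.range 10).map fun k => ([iz i, iz k], [iz k, iz i])

/-- the relations, first part -/
def rels1 : List (List ℕ × List ℕ) := rel0 ++ (relU ++ relS)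

/-- the relations, second part -/
def rels2 : List (List ℕ × List ℕ) := relJ ++ (rX 244 tU ++ (rX 344 tF ++ (rX (ic 0) tA ++ (rX (ic 60) tB ++ relZ))))

/-- the non-relations -/
def nrels : List (List ℕ × List ℕ) := [
  ([244], []), ([iz 0], []), ([ic 0], []),
  ([241, ic 0, 241, iz 0, 241, ic 143, 241, iz 0], [iz 0, 241, ic 0, 241, iz 0, 241, ic 143, 241]),
  ([241, ic 60, 241, iz 0, 241, ic 13, 241, iz 0], [iz 0, 241, ic 60, 241, iz 0, 241, ic 13, 241])]

/-- the exceptional pairs -/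
def exc : List (ℕ × ℕ) := [(0, 1), (13, 3), (60, 1), (115, 3), (143, 3), (147, 1), (196, 1), (222, 3)]

/-- the test vector -/
def v0 : ℕ := 1

/-- the image of the test vector under the fourth power of the product -/
def V8 (A C : ℕ) : ℕ :=
  F2Mat.force (F2Mat.vmul 112 v0 A) fun v => F2Mat.force (F2Mat.vmul 112 v C) fun v =>
  F2Mat.force (F2Mat.vmul 112 v A) fun v => F2Mat.force (F2Mat.vmul 112 v C) fun v =>
  F2Mat.force (F2Mat.vmul 112 v A) fun v => F2Mat.force (F2Mat.vmul 112 v C) fun v =>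
  F2Mat.force (F2Mat.vmul 112 v A) fun v => F2Mat.vmul 112 v C

/-- the tests for two of the powers of `U` -/
def vchk (r0 : ℕ) (L : List ℕ) : Bool := (List.range 224).all fun i => F2Mat.force (get (F2Mat.one 112) L (ic i)) fun C =>
  (List.range 2).all fun r => (exc.contains (i, r0 + r)) || F2Mat.force (get (F2Mat.one 112) L (iu (r0 + r))) fun A =>
    !(Nat.beq (V8 A C) v0)

set_option Elab.async false

theorem check0 : run 112 (slpQ ++ (slpX ++ slp)) codes (fun L => cond (eqs 112 rels1 L) (cond (eqs 112 rels2 L)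
    (cond (neqs 112 nrels L) (cond (vchk 0 L) (cond (vchk 2 L) (vchk 4 L) false) false) false) false) false) = true := by
  delta vchk V8 rels1 rels2 relS relJ
  rw [Lib.F112.run_eq, Lib.F112.eqs_eq, Lib.F112.neqs_eq, Lib.F112.vm_eq, Lib.F112.getD_eq]
  decide +kernel

theorem check1 : run 112 (slpQ ++ (slpX ++ slp)) codes (fun L => eqs 112 rels1 L) = true :=
  Lib.F112.run_mono (fun _ h => (Lib.F112.cnd h).1) check0

theorem check2 : run 112 (slpQ ++ (slpX ++ slp)) codes (fun L => eqs 112 rels2 L) = true :=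
  Lib.F112.run_mono (fun _ h => (Lib.F112.cnd (Lib.F112.cnd h).2).1) check0

theorem check3 : run 112 (slpQ ++ (slpX ++ slp)) codes (fun L => neqs 112 nrels L) = true :=
  Lib.F112.run_mono (fun _ h => (Lib.F112.cnd (Lib.F112.cnd (Lib.F112.cnd h).2).2).1) check0

theorem check4 : run 112 (slpQ ++ (slpX ++ slp)) codes (fun L => vchk 0 L) = true :=
  Lib.F112.run_mono (fun _ h => (Lib.F112.cnd (Lib.F112.cnd (Lib.F112.cnd (Lib.F112.cnd h).2).2).2).1) check0

theorem check5 : run 112 (slpQ ++ (slpX ++ slp)) codes (fun L => vchk 2 L) = true :=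
  Lib.F112.run_mono (fun _ h => (Lib.F112.cnd (Lib.F112.cnd (Lib.F112.cnd (Lib.F112.cnd (Lib.F112.cnd h).2).2).2).2).1) check0

theorem check6 : run 112 (slpQ ++ (slpX ++ slp)) codes (fun L => vchk 4 L) = true :=
  Lib.F112.run_mono (fun _ h => (Lib.F112.cnd (Lib.F112.cnd (Lib.F112.cnd (Lib.F112.cnd (Lib.F112.cnd h).2).2).2).2).2) check0

end Cfsg.Agent.H382.JM.L52Data
end

-- part: H382/JM/L52Rel
section
/-!
# S5580, row `L₅(2)`: soundness of the computation (helper382)
-/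

set_option autoImplicit false

open Cfsg

namespace Cfsg.Agent.H382.JM.L52

open Cfsg.Agent.Lib Cfsg.Agent.Lib.F2MatGroup
open Cfsg.Agent.J4.Rep112 Cfsg.Agent.J4.Lower
open Cfsg.Agent.J4.LowerData (slpQ)
open Cfsg.Agent.J4.Classes (runG_append getG_runG)
open Cfsg.Agent.J4.Beta (evG_append)
open Cfsg.Agent.H858.VK Cfsg.Agent.H858.Data
open Cfsg.Agent.H382.JM.L52Data

local notation "𝒢" => Cfsg.Spor.J4

/-- the values of the program -/
noncomputable def L : List 𝒢 := runG slp LX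

theorem map_L : L.map rho = runG (slpQ ++ (slpX ++ slp)) mgens := by
  unfold L
  rw [← List.append_assoc, runG_append, ← map_LX, runG_map]

theorem V8_eq (A C : ℕ) : V8 A C = F2Mat.vmul 112 (F2Mat.vmul 112 (F2Mat.vmul 112 (F2Mat.vmul 112 (F2Mat.vmul 112
    (F2Mat.vmul 112 (F2Mat.vmul 112 (F2Mat.vmul 112 v0 A) C) A) C) A) C) A) C := by
  unfold V8
  simp only [F2Mat.force_eq]

/-- soundness of the program -/
theorem sound_of {k : List ℕ → Bool} (h : run 112 (slpQ ++ (slpX ++ slp)) codes k = true) :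
    ∃ L', List.Forall₂ (Codes 112) (L.map rho) L' ∧ k L' = true := by
  rw [map_L]
  exact run_sound codes_gens h

theorem sound_eq {rels : List (List ℕ × List ℕ)}
    (h : run 112 (slpQ ++ (slpX ++ slp)) codes (fun L => eqs 112 rels L) = true) :
    ∀ p ∈ rels, evG L p.1 = evG L p.2 := by
  obtain ⟨L', h', hk⟩ := sound_of h
  intro p hp
  apply rho_injective
  rw [← evG_map, ← evG_map]
  exact eqs_sound h' hk p hp

theorem sound_ne : ∀ p ∈ nrels, evG L p.1 ≠ evG L p.2 := by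
  obtain ⟨L', h', hk⟩ := sound_of check3
  intro p hp h
  exact neqs_sound (by norm_num) h' hk p hp (by rw [evG_map, evG_map, h])

theorem sound_v {r0 : ℕ} (h : run 112 (slpQ ++ (slpX ++ slp)) codes (fun L => vchk r0 L) = true) :
    ∀ i < 224, ∀ r < 2, (i, r0 + r) ∉ exc → (getG L (iu (r0 + r)) * getG L (ic i)) ^ 4 ≠ 1 := by
  obtain ⟨L', h'', hk2⟩ := sound_of h
  intro i hi r hr hx h4
  have hk2 : vchk r0 L' = true := hk2
  unfold vchk at hk2
  rw [List.all_eq_true] at hk2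
  have h1 := hk2 i (List.mem_range.2 hi)
  rw [F2Mat.force_eq, List.all_eq_true] at h1
  have h2 := h1 r (List.mem_range.2 hr)
  rw [Bool.or_eq_true] at h2
  rcases h2 with h2 | h2
  · exact hx (List.contains_iff_mem.1 h2)
  rw [F2Mat.force_eq, Bool.not_eq_true'] at h2
  set A := get (F2Mat.one 112) L' (iu (r0 + r)) with hA
  set C := get (F2Mat.one 112) L' (ic i) with hC
  have cA : Codes 112 (rho (getG L (iu (r0 + r)))) A := by
    rw [← getG_map]; exact codes_get h'' _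
  have cC : Codes 112 (rho (getG L (ic i))) C := by
    rw [← getG_map]; exact codes_get h'' _
  have h5 : V8 A C = v0 := by
    apply F2Mat.toVec_inj (n := 112)
    · rw [V8_eq]; exact F2Mat.vmul_lt _ _
    · unfold v0; norm_num
    · unfold Codes at cA cC
      rw [V8_eq]
      simp only [F2Mat.toVec_vmul, Matrix.vecMul_vecMul]
      rw [← cA, ← cC]
      have h6 : (rho (getG L (iu (r0 + r))) * rho (getG L (ic i))) ^ 4 = 1 := by
        rw [← map_mul, ← map_pow, h4, map_one]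
      have h7 := congrArg (fun g : GL (Fin 112) (ZMod 2) => (g : Matrix (Fin 112) (Fin 112) (ZMod 2))) h6
      simp only [pow_succ, pow_zero, one_mul, Units.val_mul, Units.val_one, ← mul_assoc] at h7
      rw [h7, Matrix.vecMul_one]
  rw [h5, Nat.beq_refl] at h2
  exact absurd h2 (by decide)

theorem sound_v' {i r : ℕ} (hi : i < 224) (hr : r < 6) (hx : (i, r) ∉ exc) :
    (getG L (iu r) * getG L (ic i)) ^ 4 ≠ 1 := by
  rcases (show r < 2 ∨ (2 ≤ r ∧ r < 4) ∨ (4 ≤ r ∧ r < 6) by omega) with h | h | h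
  · have := sound_v check4 i hi r h
    rw [Nat.zero_add] at this
    exact this hx
  · have := sound_v check5 i hi (r - 2) (by omega)
    rw [Nat.add_sub_cancel' h.1] at this
    exact this hx
  · have := sound_v check6 i hi (r - 4) (by omega)
    rw [Nat.add_sub_cancel' h.1] at this
    exact this hx

theorem eq_of {a b : List ℕ} (hh : (a, b) ∈ rel0) : evG L a = evG L b :=
  sound_eq check1 _ (List.mem_append_left _ hh)
theorem ne_of {a b : List ℕ} (hh : (a, b) ∈ nrels) : evG L a ≠ evG L b := sound_ne _ hh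

theorem ev_pow (i n : ℕ) : evG L (List.replicate n i) = getG L i ^ n :=
  Cfsg.Agent.J4.Lower.evG_replicate L i n

/-! ### named elements -/

/-- order 31 -/
noncomputable def U : 𝒢 := getG L 244
/-- the involution -/
noncomputable def j0 : 𝒢 := getG L 241
/-- order 5 -/
noncomputable def f : 𝒢 := getG L 344
/-- generator of the centralizer of `f` -/
noncomputable def s : 𝒢 := getG L 350
/-- generator of the centralizer of `f` -/
noncomputable def j : 𝒢 := getG L 341
/-- the elements of order 3 commuting with `f` -/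
noncomputable def c (i : ℕ) : 𝒢 := getG L (ic i)
/-- the basis of `X` -/
noncomputable def z (i : ℕ) : 𝒢 := getG L (iz i)

theorem slp_length : slp.length = 341 := by decide +kernel

theorem getG_L (k : ℕ) : getG L (341 + k) = getG LX k := by
  rw [← slp_length]
  exact getG_runG slp LX k

theorem f_eq : f = H858.Elem.f := (getG_L 3).trans H858.Elem.f_eq.symm
theorem s_eq : s = H858.Elem.s := (getG_L 9).trans H858.Elem.sg_eq.symm
theorem j_eq : j = H858.Elem.j := (getG_L 0).trans H858.Elem.j_eq.symm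

/-! ### relations -/

theorem Upow (r : ℕ) (hr : r < 6) : getG L (iu r) = U ^ er r := by
  have hm : ([iu r], List.replicate (er r) 244) ∈ relU := List.mem_map.2 ⟨r, List.mem_range.2 hr, rfl⟩
  have := sound_eq check1 _ (List.mem_append_right _ (List.mem_append_left _ hm))
  rw [ev_pow, evG_cons, evG_nil, mul_one] at this
  exact this

theorem c_mem {i : ℕ} (hi : i < 224) (r : ℕ) (hr : r < 6) (hx : (i, r) ∉ exc) : (U ^ er r * c i) ^ 4 ≠ 1 := by
  rw [← Upow r hr]
  exact sound_v' hi hr hx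

theorem U_pow : U ^ 31 = 1 := by
  have := eq_of (a := [11, 11, 244]) (b := []) (by decide +kernel)
  simp only [evG_cons, evG_nil, mul_one] at this
  have h1 : getG L 11 = U ^ 15 := Upow 5 (by norm_num)
  rw [h1] at this
  calc U ^ 31 = U ^ 15 * (U ^ 15 * U) := by rw [← pow_succ, ← pow_add]
    _ = 1 := this

theorem U_f : U * f = f * U ^ 2 := by
  have := eq_of (a := [244, 344]) (b := [344, 244, 244]) (by decide +kernel)
  simp only [evG_cons, evG_nil, mul_one] at this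
  rw [pow_two]
  exact this

theorem j0_j0 : j0 * j0 = 1 := by
  have := eq_of (a := [241, 241]) (b := []) (by decide +kernel)
  simp only [evG_cons, evG_nil, mul_one] at this
  exact this

theorem j0_U : j0 * U * j0 * U = 1 := by
  have := eq_of (a := [241, 244, 241, 244]) (b := []) (by decide +kernel)
  simp only [evG_cons, evG_nil, mul_one, ← mul_assoc] at this
  exact this

theorem j0_f : j0 * f = f * j0 := by
  have := eq_of (a := [241, 344]) (b := [344, 241]) (by decide +kernel)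
  simp only [evG_cons, evG_nil, mul_one] at this
  exact this

theorem c0_f : c 0 * f = f * c 0 := by
  have := eq_of (a := [ic 0, 344]) (b := [344, ic 0]) (by decide +kernel)
  simp only [evG_cons, evG_nil, mul_one] at this
  exact this

theorem c0_pow : c 0 * c 0 * c 0 = 1 := by
  have := eq_of (a := [ic 0, ic 0, ic 0]) (b := []) (by decide +kernel)
  simp only [evG_cons, evG_nil, mul_one, ← mul_assoc] at this
  exact this

theorem c143 : c 143 * c 0 = 1 := by
  have := eq_of (a := [ic 143, ic 0]) (b := []) (by decide +kernel)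
  simp only [evG_cons, evG_nil, mul_one] at this
  exact this

theorem c13 : c 13 * c 60 = 1 := by
  have := eq_of (a := [ic 13, ic 60]) (b := []) (by decide +kernel)
  simp only [evG_cons, evG_nil, mul_one] at this
  exact this

theorem c115 : c 115 = j0 * c 0 * j0 := by
  have := eq_of (a := [ic 115]) (b := [241, ic 0, 241]) (by decide +kernel)
  simp only [evG_cons, evG_nil, mul_one, ← mul_assoc] at this
  exact this

theorem c147 : c 147 = j0 * c 143 * j0 := by
  have := eq_of (a := [ic 147]) (b := [241, ic 143, 241]) (by decide +kernel)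
  simp only [evG_cons, evG_nil, mul_one, ← mul_assoc] at this
  exact this

theorem c222 : c 222 = j0 * c 60 * j0 := by
  have := eq_of (a := [ic 222]) (b := [241, ic 60, 241]) (by decide +kernel)
  simp only [evG_cons, evG_nil, mul_one, ← mul_assoc] at this
  exact this

theorem c196 : c 196 = j0 * c 13 * j0 := by
  have := eq_of (a := [ic 196]) (b := [241, ic 13, 241]) (by decide +kernel)
  simp only [evG_cons, evG_nil, mul_one, ← mul_assoc] at this
  exact this

theorem s_c {i : ℕ} (hi : i < 224) : s * c i = c (ps.getD i 0) * s := by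
  have hm : ([350, ic i], [ic (ps.getD i 0), 350]) ∈ relS := List.mem_map.2 ⟨i, List.mem_range.2 hi, rfl⟩
  have := sound_eq check1 _ (List.mem_append_right _ (List.mem_append_right _ hm))
  simp only [evG_cons, evG_nil, mul_one] at this
  exact this

theorem j_c {i : ℕ} (hi : i < 224) : j * c i = c (pj.getD i 0) * j := by
  have hm : ([341, ic i], [ic (pj.getD i 0), 341]) ∈ relJ := List.mem_map.2 ⟨i, List.mem_range.2 hi, rfl⟩
  have := sound_eq check2 _ (List.mem_append_left _ hm)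
  simp only [evG_cons, evG_nil, mul_one] at this
  exact this

theorem z_comm {i k : ℕ} (hi : i < 10) (hk : k < 10) : z i * z k = z k * z i := by
  have hm : ([iz i, iz k], [iz k, iz i]) ∈ relZ :=
    List.mem_flatMap.2 ⟨i, List.mem_range.2 hi, List.mem_map.2 ⟨k, List.mem_range.2 hk, rfl⟩⟩
  have := sound_eq check2 _ (List.mem_append_right _ (List.mem_append_right _ (List.mem_append_right _
    (List.mem_append_right _ (List.mem_append_right _ hm)))))
  simp only [evG_cons, evG_nil, mul_one] at this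
  exact this

theorem U_z {i : ℕ} (hi : i < 10) : U * z i = evG L (tU.getD i []) * U := by
  have hm : ([244, iz i], tU.getD i [] ++ [244]) ∈ rX 244 tU := List.mem_map.2 ⟨i, List.mem_range.2 hi, rfl⟩
  have := sound_eq check2 _ (List.mem_append_right _ (List.mem_append_left _ hm))
  rw [evG_append] at this
  simp only [evG_cons, evG_nil, mul_one] at this
  exact this

theorem f_z {i : ℕ} (hi : i < 10) : f * z i = evG L (tF.getD i []) * f := by
  have hm : ([344, iz i], tF.getD i [] ++ [344]) ∈ rX 344 tF := List.mem_map.2 ⟨i, List.mem_range.2 hi, rfl⟩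
  have := sound_eq check2 _ (List.mem_append_right _ (List.mem_append_right _ (List.mem_append_left _ hm)))
  rw [evG_append] at this
  simp only [evG_cons, evG_nil, mul_one] at this
  exact this

theorem c0_z {i : ℕ} (hi : i < 10) : c 0 * z i = evG L (tA.getD i []) * c 0 := by
  have hm : ([ic 0, iz i], tA.getD i [] ++ [ic 0]) ∈ rX (ic 0) tA := List.mem_map.2 ⟨i, List.mem_range.2 hi, rfl⟩
  have := sound_eq check2 _ (List.mem_append_right _ (List.mem_append_right _ (List.mem_append_right _ (List.mem_append_left _ hm))))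
  rw [evG_append] at this
  simp only [evG_cons, evG_nil, mul_one] at this
  exact this

theorem c60_z {i : ℕ} (hi : i < 10) : c 60 * z i = evG L (tB.getD i []) * c 60 := by
  have hm : ([ic 60, iz i], tB.getD i [] ++ [ic 60]) ∈ rX (ic 60) tB := List.mem_map.2 ⟨i, List.mem_range.2 hi, rfl⟩
  have := sound_eq check2 _ (List.mem_append_right _ (List.mem_append_right _ (List.mem_append_right _ (List.mem_append_right _ (List.mem_append_left _ hm)))))
  rw [evG_append] at this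
  simp only [evG_cons, evG_nil, mul_one] at this
  exact this

theorem U_ne : U ≠ 1 := by
  have := ne_of (a := [244]) (b := []) (by decide +kernel)
  simp only [evG_cons, evG_nil, mul_one] at this
  exact this

theorem z0_ne : z 0 ≠ 1 := by
  have := ne_of (a := [iz 0]) (b := []) (by decide +kernel)
  simp only [evG_cons, evG_nil, mul_one] at this
  exact this

theorem c0_ne : c 0 ≠ 1 := by
  have := ne_of (a := [ic 0]) (b := []) (by decide +kernel)
  simp only [evG_cons, evG_nil, mul_one] at this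
  exact this

theorem nc0 : (j0 * c 0 * j0) * z 0 * (j0 * c 143 * j0) * z 0 ≠ z 0 * ((j0 * c 0 * j0) * z 0 * (j0 * c 143 * j0)) := by
  have := ne_of (a := [241, ic 0, 241, iz 0, 241, ic 143, 241, iz 0])
    (b := [iz 0, 241, ic 0, 241, iz 0, 241, ic 143, 241]) (by decide +kernel)
  simp only [evG_cons, evG_nil, mul_one, ← mul_assoc] at this
  simp only [← mul_assoc]
  exact this

theorem nc60 : (j0 * c 60 * j0) * z 0 * (j0 * c 13 * j0) * z 0 ≠ z 0 * ((j0 * c 60 * j0) * z 0 * (j0 * c 13 * j0)) := by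
  have := ne_of (a := [241, ic 60, 241, iz 0, 241, ic 13, 241, iz 0])
    (b := [iz 0, 241, ic 60, 241, iz 0, 241, ic 13, 241]) (by decide +kernel)
  simp only [evG_cons, evG_nil, mul_one, ← mul_assoc] at this
  simp only [← mul_assoc]
  exact this

end Cfsg.Agent.H382.JM.L52
end

-- part: H382/JM/L52Cent
section
/-!
# S5580, row `L₅(2)`: the elements of order 3 commuting with `f` (helper382)
-/

set_option autoImplicit false

open Cfsg

namespace Cfsg.Agent.H382.JM.L52

open Subgroup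
open Cfsg.Agent.H382.JM.L52Data

local notation "𝒢" => Cfsg.Spor.J4

instance finite_J4 : Finite 𝒢 := Cfsg.Agent.H858.FixJ4.facts.1

/-- the elements `c i` commuting with `f` -/
def T : Set 𝒢 := {x | (∃ i < 224, x = c i) ∧ x * f = f * x}

/-- the stabilizer of `T` -/
def N : Subgroup 𝒢 where
  carrier := {g | ∀ x ∈ T, g * x * g⁻¹ ∈ T}
  one_mem' := fun x hx => by
    have : (1 : 𝒢) * x * 1⁻¹ = x := by group
    rw [this]; exact hx
  mul_mem' := fun {g h} hg hh x hx => by
    have : g * h * x * (g * h)⁻¹ = g * (h * x * h⁻¹) * g⁻¹ := by group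
    rw [this]
    exact hg _ (hh x hx)
  inv_mem' := fun {g} hg x hx => by
    have hp : ∀ n : ℕ, ∀ x ∈ T, g ^ n * x * (g ^ n)⁻¹ ∈ T := by
      intro n
      induction n with
      | zero =>
        intro x hx
        have : g ^ 0 * x * (g ^ 0)⁻¹ = x := by group
        rw [this]; exact hx
      | succ n ih =>
        intro x hx
        have : g ^ (n + 1) * x * (g ^ (n + 1))⁻¹ = g * (g ^ n * x * (g ^ n)⁻¹) * g⁻¹ := by
          rw [pow_succ']; group
        rw [this]
        exact hg _ (ih x hx)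
    have h1 : g⁻¹ ∈ Subgroup.zpowers g := inv_mem (mem_zpowers g)
    rw [← mem_powers_iff_mem_zpowers] at h1
    obtain ⟨n, hn⟩ := h1
    have hn' : g ^ n = g⁻¹ := hn
    rw [← hn']
    exact hp n x hx

theorem conj_comm {g x : 𝒢} (hg : g * f = f * g) (hx : x * f = f * x) : g * x * g⁻¹ * f = f * (g * x * g⁻¹) := by
  have h1 : Commute (g * x * g⁻¹) f :=
    ((show Commute g f from hg).mul_left (show Commute x f from hx)).mul_left (show Commute g f from hg).inv_left
  exact h1.eq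

theorem s_f : s * f = f * s := by
  rw [s_eq, f_eq]; exact H858.Elem.f_mul_s.symm

theorem j_f : j * f = f * j := by
  rw [j_eq, f_eq]; exact H858.Elem.j_mul_f

theorem ps_lt : ∀ i < 224, ps.getD i 0 < 224 := by
  rw [Lib.F112.getD_eq]
  decide +kernel
theorem pj_lt : ∀ i < 224, pj.getD i 0 < 224 := by
  rw [Lib.F112.getD_eq]
  decide +kernel

theorem s_mem : s ∈ N := by
  rintro x ⟨⟨i, hi, rfl⟩, hx⟩
  refine ⟨⟨_, ps_lt i hi, ?_⟩, conj_comm s_f hx⟩
  rw [s_c hi, mul_inv_cancel_right]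

theorem j_mem : j ∈ N := by
  rintro x ⟨⟨i, hi, rfl⟩, hx⟩
  refine ⟨⟨_, pj_lt i hi, ?_⟩, conj_comm j_f hx⟩
  rw [j_c hi, mul_inv_cancel_right]

theorem f_mem : f ∈ N := by
  rintro x ⟨hi, hx⟩
  have : f * x * f⁻¹ = x := by rw [← hx, mul_inv_cancel_right]
  rw [this]
  exact ⟨hi, hx⟩

/-- the centralizer of `f` -/
noncomputable abbrev C : Subgroup 𝒢 := centralizer (H858.Loc5.F5 : Set 𝒢)

theorem mem_C {x : 𝒢} : x ∈ C ↔ x * f = f * x := by
  rw [C, H858.Loc5.F5, H858.NormC.centralizer_zpowers, mem_centralizer_iff, f_eq]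
  constructor
  · intro h
    exact (h _ rfl).symm
  · rintro h _ rfl
    exact h.symm

theorem C_le : C ≤ N := by
  have h1 := H858.Loc5.directProduct.2.2.2.2
  rw [C, ← h1]
  refine sup_le ?_ ?_
  · rw [H858.Loc5.F5, zpowers_le, ← f_eq]
    exact f_mem
  · rw [H858.Loc5.J, closure_le]
    rintro _ (rfl | rfl)
    · rw [← s_eq]; exact s_mem
    · rw [← j_eq]; exact j_mem

theorem c0_T : c 0 ∈ T := ⟨⟨0, by norm_num, rfl⟩, c0_f⟩

theorem c143_eq : c 143 = (c 0)⁻¹ := eq_inv_of_mul_eq_one_left c143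
theorem c13_eq : c 13 = (c 60)⁻¹ := eq_inv_of_mul_eq_one_left c13

theorem c143_T : c 143 ∈ T := by
  refine ⟨⟨143, by norm_num, rfl⟩, ?_⟩
  rw [c143_eq]
  exact (show Commute (c 0) f from c0_f).inv_left.eq

/-- **the elements of order 3 commuting with `f`** -/
theorem ord3 {x : 𝒢} (h3 : x ^ 3 = 1) (h1 : x ≠ 1) (hx : x * f = f * x) : ∃ i < 224, x = c i := by
  have h3' : Fact (Nat.Prime 3) := ⟨by norm_num⟩
  have hxC : x ∈ C := mem_C.2 hx
  have hcC : c 0 ∈ C := mem_C.2 c0_f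
  have hc3 : c 0 ^ 3 = 1 := by rw [pow_succ, pow_two]; exact c0_pow
  have o1 : orderOf (⟨x, hxC⟩ : C) = 3 := by
    rw [Subgroup.orderOf_mk]; exact orderOf_eq_prime h3 h1
  have o2 : orderOf (⟨c 0, hcC⟩ : C) = 3 := by
    rw [Subgroup.orderOf_mk]; exact orderOf_eq_prime hc3 c0_ne
  obtain ⟨g, hg⟩ := H858.Abs.exists_conj_prime (p := 3) (P := zpowers (⟨c 0, hcC⟩ : C))
    (P' := zpowers (⟨x, hxC⟩ : C)) (by rw [Nat.card_zpowers, o2]) (by rw [Nat.card_zpowers, o1])
    (by rw [H858.Loc5.card_C]; norm_num)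
  have h4 : (⟨x, hxC⟩ : C) ∈ (zpowers (⟨c 0, hcC⟩ : C)).map (MulAut.conj g).toMonoidHom := by
    rw [hg]; exact mem_zpowers _
  obtain ⟨y, hy, hyx⟩ := h4
  classical
  rw [SetLike.mem_coe, mem_zpowers_iff_mem_range_orderOf, Finset.mem_image] at hy
  obtain ⟨n, hn, rfl⟩ := hy
  rw [o2, Finset.mem_range] at hn
  have h5 : (g : 𝒢) * c 0 ^ n * (g : 𝒢)⁻¹ = x := congrArg Subtype.val hyx
  have h6 : c 0 ^ n ∈ T := by
    interval_cases n
    · exfalso
      apply h1
      rw [← h5]; group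
    · rw [pow_one]; exact c0_T
    · have : c 0 ^ 2 = c 143 := by
        rw [c143_eq, eq_comm, inv_eq_iff_mul_eq_one, pow_two, ← mul_assoc]
        exact c0_pow
      rw [this]; exact c143_T
  have h7 := C_le g.2 _ h6
  rw [h5] at h7
  exact h7.1

end Cfsg.Agent.H382.JM.L52
end

-- part: H382/JM/L52
section
/-!
# S5580, Part III: no maximal subgroup of `J4` has socle `L₅(2)` (helper382)

A subgroup `L₅(2)` of `J4` is conjugate to a subgroup containing `U`, `f`, `c` with `c` one of two elements of order 3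
commuting with `f`, and normalizing the elementary abelian group `X` of order `2^10`.  If it is the socle of a maximal
subgroup `M`, then `M` is larger, so that it contains the involution `j0` inverting `U`, a contradiction.
-/

set_option autoImplicit false

namespace Cfsg.Agent.H382.JM.L52

open Cfsg Subgroup
open Cfsg.Agent.Lib.F2MatGroup
open Cfsg.Agent.H859
open Cfsg.Agent.H860.JM (NL Excl cj mem_cj cj_eq_iff card_cj normalizer_cj)
open Cfsg.Agent.H382.JM.L52Data

local notation "𝒢" => Cfsg.Spor.J4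

instance simple_J4 : IsSimpleGroup 𝒢 := Cfsg.Agent.S1703.result.1
instance fact31 : Fact (Nat.Prime 31) := ⟨by norm_num⟩
instance fact5 : Fact (Nat.Prime 5) := ⟨by norm_num⟩

/-! ### the group of order 155 -/

theorem orderOf_U : orderOf U = 31 := orderOf_eq_prime U_pow U_ne

theorem U_mod {a b : ℕ} (hab : a % 31 = b % 31) : U ^ a = U ^ b := by
  rw [← Nat.div_add_mod a 31, ← Nat.div_add_mod b 31, hab, pow_add, pow_add, pow_mul, pow_mul, U_pow,
    one_pow, one_pow]

theorem Up_f (n : ℕ) : U ^ n * f = f * U ^ (2 * n) := by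
  induction n with
  | zero => simp
  | succ n ih =>
    rw [pow_succ, mul_assoc, U_f, ← mul_assoc, ih, mul_assoc, ← pow_add]
    rfl

theorem f_Up (n : ℕ) : f * U ^ n = U ^ (16 * n) * f := by
  rw [Up_f]
  congr 1
  exact U_mod (by omega)

theorem Up_fp (n k : ℕ) : U ^ n * f ^ k = f ^ k * U ^ (2 ^ k * n) := by
  induction k with
  | zero => simp
  | succ k ih =>
    rw [pow_succ, ← mul_assoc, ih, mul_assoc, Up_f, ← mul_assoc, ← mul_assoc, pow_succ 2 k]
    congr 2
    ring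

theorem j0_inv : j0⁻¹ = j0 := inv_eq_of_mul_eq_one_right j0_j0

theorem j0_U' : j0 * U * j0⁻¹ = U⁻¹ := by
  rw [j0_inv]
  exact eq_inv_of_mul_eq_one_left j0_U

theorem j0_Up (n : ℕ) : j0 * U ^ n * j0⁻¹ = U ^ (30 * n) := by
  rw [← conj_pow, j0_U', inv_pow, inv_eq_iff_mul_eq_one, ← pow_add]
  rw [U_mod (b := 0) (by omega), pow_zero]

theorem j0_f' : j0 * f * j0⁻¹ = f := by rw [j0_f, mul_inv_cancel_right]

theorem card_zU : Nat.card (zpowers U) = 31 := by rw [Nat.card_zpowers, orderOf_U]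

theorem isPGroup_zU : IsPGroup 31 (zpowers U) := Cfsg.Agent.H858.NormC.isPGroup_of_card card_zU

theorem not_dvd_zU : ¬ 31 ∣ (zpowers U).index :=
  Cfsg.Agent.H858.NormC.not_dvd_index card_zU (BigCent.sq_not_dvd (by simp))

theorem mem_zU {x : 𝒢} (hx : x ∈ zpowers U) : ∃ n < 31, U ^ n = x := by
  classical
  rw [mem_zpowers_iff_mem_range_orderOf, Finset.mem_image] at hx
  obtain ⟨n, hn, hn2⟩ := hx
  rw [orderOf_U, Finset.mem_range] at hn
  exact ⟨n, hn, hn2⟩

/-- the elements commuting with `U` -/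
theorem cent_U {c : 𝒢} (hc : c * U = U * c) : ∃ n : ℕ, c = U ^ n := by
  have h1 := PrimeSub.centralizer_eq (by norm_num) card_zU (BigNum.data31 card_zU).1
  have h2 : c ∈ centralizer (zpowers U : Set 𝒢) := by
    rw [mem_centralizer_iff]
    intro y hy
    obtain ⟨n, rfl⟩ := hy
    exact ((Commute.zpow_right (show Commute c U from hc) n).eq).symm
  rw [h1] at h2
  obtain ⟨n, -, hn⟩ := mem_zU h2
  exact ⟨n, hn.symm⟩

theorem inv_mod : ∀ m < 31, m ≠ 0 → ∃ n < 31, m * n % 31 = 1 := by decide +kernel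

theorem step1 {a : 𝒢} (h31 : a ^ 31 = 1) (h1 : a ≠ 1) : ∃ g : 𝒢, ∃ m < 31, m ≠ 0 ∧ g * a * g⁻¹ = U ^ m := by
  obtain ⟨g, hg⟩ := SylEleven.exists_conj_mem isPGroup_zU not_dvd_zU (g := a) ⟨1, by rw [pow_one, h31]⟩
  obtain ⟨m, hm, hm2⟩ := mem_zU hg
  refine ⟨g, m, hm, ?_, hm2.symm⟩
  rintro rfl
  apply h1
  rw [pow_zero, eq_comm, mul_inv_eq_one] at hm2
  exact mul_left_cancel (hm2.trans (mul_one g).symm)

theorem step2 {m : ℕ} (hm : m < 31) (hm0 : m ≠ 0) {b : 𝒢} (hb : U ^ m * b = b * (U ^ m) ^ 2) :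
    ∃ n : ℕ, U ^ n * b * (U ^ n)⁻¹ = f := by
  have h0 : f⁻¹ * U ^ m = U ^ (2 * m) * f⁻¹ := by
    rw [inv_mul_eq_iff_eq_mul, ← mul_assoc, ← Up_f, mul_inv_cancel_right]
  have h1 : Commute (b * f⁻¹) (U ^ m) := by
    show b * f⁻¹ * U ^ m = U ^ m * (b * f⁻¹)
    rw [mul_assoc, h0, ← mul_assoc, ← mul_assoc, hb, ← pow_mul, mul_comm m 2]
  obtain ⟨k, -, hk⟩ := inv_mod m hm hm0
  have h2 : Commute (b * f⁻¹) U := by
    have h3 := h1.pow_right k
    rwa [← pow_mul, U_mod (b := 1) (by rw [hk]), pow_one] at h3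
  obtain ⟨n, hn⟩ := cent_U h2.eq
  have h3 : b = U ^ n * f := by rw [← hn]; group
  refine ⟨29 * n, ?_⟩
  rw [mul_inv_eq_iff_eq_mul, h3, f_Up, ← mul_assoc, ← pow_add]
  congr 1
  exact U_mod (by omega)

theorem red : ∀ m < 31, m ≠ 0 → ∃ k < 5, ∃ r < 6, 2 ^ k * (m * 11) % 31 = er r % 31 := by decide +kernel

theorem exc_fst : ∀ p ∈ exc, p.1 ∈ [0, 13, 60, 115, 143, 147, 196, 222] := by decide +kernel

theorem step3 {m i : ℕ} (hm : m < 31) (hm0 : m ≠ 0) (hi : i < 224) (hci : c i * f = f * c i)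
    (h4 : ((U ^ m) ^ 11 * c i) ^ 4 = 1) : i ∈ [0, 13, 60, 115, 143, 147, 196, 222] := by
  obtain ⟨k, -, r, hr, hkr⟩ := red m hm hm0
  by_contra hne
  apply c_mem hi r hr (fun hx => hne (exc_fst _ hx))
  have h1 : (f ^ k)⁻¹ * ((U ^ m) ^ 11 * c i) * f ^ k = U ^ er r * c i := by
    have h2 : c i * f ^ k = f ^ k * c i := ((show Commute (c i) f from hci).pow_right k).eq
    rw [mul_assoc, mul_assoc, h2, ← mul_assoc ((U ^ m) ^ 11), ← pow_mul, Up_fp, mul_assoc, inv_mul_cancel_left,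
      U_mod hkr]
  have h2 : ((f ^ k)⁻¹ * ((U ^ m) ^ 11 * c i) * f ^ k) ^ 4 = 1 := by
    have h3 := conj_pow (a := (f ^ k)⁻¹) (b := (U ^ m) ^ 11 * c i) (i := 4)
    rw [inv_inv] at h3
    rw [h3, h4]; group
  rw [← h1, h2]

/-! ### the group `X` -/

/-- the elementary abelian group -/
def X : Subgroup 𝒢 := _root_.Subgroup.closure {x | ∃ i < 10, x = z i}

theorem z_mem {i : ℕ} (hi : i < 10) : z i ∈ X := subset_closure ⟨i, hi, rfl⟩

theorem X_comm {x y : 𝒢} (hx : x ∈ X) (hy : y ∈ X) : x * y = y * x := by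
  have h1 : ∀ x ∈ X, ∀ i < 10, z i * x = x * z i := by
    intro x hx i hi
    have h2 : X ≤ centralizer {z i} := by
      rw [X, closure_le]
      rintro _ ⟨k, hk, rfl⟩
      rw [SetLike.mem_coe, mem_centralizer_singleton_iff]
      exact z_comm hk hi
    exact (mem_centralizer_singleton_iff.1 (h2 hx)).symm
  have h2 : X ≤ centralizer {x} := by
    rw [X, closure_le]
    rintro _ ⟨k, hk, rfl⟩
    rw [SetLike.mem_coe, mem_centralizer_singleton_iff]
    exact h1 x hx k hk
  exact (mem_centralizer_singleton_iff.1 (h2 hy)).symm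

theorem ev_mem {w : List ℕ} (hw : ∀ k ∈ w, k < 10) : evG L w ∈ X := by
  induction w with
  | nil => exact X.one_mem
  | cons k w ih =>
    rw [evG_cons]
    refine X.mul_mem ?_ (ih fun i hi => hw i (List.mem_cons_of_mem _ hi))
    have hk : k < 10 := hw k List.mem_cons_self
    have h1 : getG L k = z (9 - k) := by
      unfold z
      congr 1
      unfold iz
      omega
    rw [h1]
    exact z_mem (by omega)

theorem mem_norm {g : 𝒢} {t : List (List ℕ)} (h1 : ∀ i < 10, g * z i = evG L (t.getD i []) * g)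
    (h2 : ∀ i < 10, ∀ k ∈ t.getD i [], k < 10) : g ∈ normalizer (X : Set 𝒢) := by
  rw [← cj_eq_iff]
  refine Subgroup.eq_of_le_of_card_ge ?_ (card_cj g X).ge
  rw [cj, X, MonoidHom.map_closure, closure_le]
  rintro _ ⟨_, ⟨i, hi, rfl⟩, rfl⟩
  have h3 : (MulAut.conj g).toMonoidHom (z i) = evG L (t.getD i []) := by
    show g * z i * g⁻¹ = _
    rw [h1 i hi, mul_inv_cancel_right]
  rw [h3]
  exact ev_mem (h2 i hi)

theorem U_norm : U ∈ normalizer (X : Set 𝒢) := mem_norm (t := tU) (fun _ hi => U_z hi) (by decide +kernel)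
theorem f_norm : f ∈ normalizer (X : Set 𝒢) := mem_norm (t := tF) (fun _ hi => f_z hi) (by decide +kernel)
theorem c0_norm : c 0 ∈ normalizer (X : Set 𝒢) := mem_norm (t := tA) (fun _ hi => c0_z hi) (by decide +kernel)
theorem c60_norm : c 60 ∈ normalizer (X : Set 𝒢) := mem_norm (t := tB) (fun _ hi => c60_z hi) (by decide +kernel)

theorem normalizer_ne_top {S : Subgroup 𝒢} (h1 : S ≠ ⊥) (h2 : S ≠ ⊤) : normalizer (S : Set 𝒢) ≠ ⊤ := by
  intro h
  have hn : S.Normal := normalizer_eq_top_iff.1 h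
  rcases hn.eq_bot_or_eq_top with h3 | h3
  · exact h1 h3
  · exact h2 h3

theorem X_ne_bot : X ≠ ⊥ := by
  intro h
  have h1 := z_mem (i := 0) (by norm_num)
  rw [h, mem_bot] at h1
  exact z0_ne h1

/-! ### standard position -/

/-- standard position -/
structure Good (x : ℕ) (S : Subgroup 𝒢) : Prop where
  u : U ∈ S
  f : f ∈ S
  c : c x ∈ S
  le : S ≤ normalizer (X : Set 𝒢)

theorem good_closure {x : ℕ} (hx : x = 0 ∨ x = 60) {m : ℕ} (hm : m % 31 ≠ 0) {d : 𝒢}
    (hd : d = c x ∨ d = (c x)⁻¹) : Good x (_root_.Subgroup.closure {U ^ m, f, d}) := by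
  refine ⟨?_, _root_.Subgroup.subset_closure (by simp), ?_, ?_⟩
  · obtain ⟨n, -, hn⟩ := inv_mod (m % 31) (Nat.mod_lt _ (by norm_num)) hm
    have h1 : U = (U ^ m) ^ n := by
      rw [← pow_mul, U_mod (b := 1) (by rw [Nat.mul_mod, ← hn, Nat.mod_mod]; simp [Nat.mul_mod]), pow_one]
    have h2 : (U ^ m) ^ n ∈ _root_.Subgroup.closure {U ^ m, f, d} := pow_mem (_root_.Subgroup.subset_closure (by simp)) n
    rw [← h1] at h2
    exact h2
  · rcases hd with rfl | rfl
    · exact _root_.Subgroup.subset_closure (by simp)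
    · rw [← inv_inv (c x)]
      exact inv_mem (_root_.Subgroup.subset_closure (by simp))
  · have hc : c x ∈ normalizer (X : Set 𝒢) := by
      rcases hx with rfl | rfl
      · exact c0_norm
      · exact c60_norm
    rw [closure_le]
    rintro y (rfl | rfl | rfl)
    · exact pow_mem U_norm m
    · exact f_norm
    · rcases hd with rfl | rfl
      · exact hc
      · exact inv_mem hc

theorem map_cl (g a b c : 𝒢) : cj g (_root_.Subgroup.closure {a, b, c}) = _root_.Subgroup.closure {g * a * g⁻¹, g * b * g⁻¹, g * c * g⁻¹} := by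
  change (_root_.Subgroup.closure {a, b, c}).map (MulAut.conj g).toMonoidHom = _
  rw [MonoidHom.map_closure]
  congr 1
  ext x
  simp only [eq_comm, MulAut.conj_apply, _root_.MulEquiv.toMonoidHom_eq_coe, _root_.MonoidHom.coe_coe, _root_.Set.mem_image, _root_.Set.mem_insert_iff, _root_.Set.mem_singleton_iff, _root_.exists_eq_or_imp', ↓ _root_.ExistsAndEq.existsAndEq, _root_.true_and]

theorem good_one {m i : ℕ} (hm : m % 31 ≠ 0) (hi : i ∈ [0, 13, 60, 115, 143, 147, 196, 222]) :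
    ∃ g : 𝒢, ∃ x, (x = 0 ∨ x = 60) ∧ Good x (cj g (_root_.Subgroup.closure {U ^ m, f, c i})) := by
  have key : ∀ x d, (x = 0 ∨ x = 60) → (d = c x ∨ d = (c x)⁻¹) →
      ∃ g : 𝒢, ∃ x, (x = 0 ∨ x = 60) ∧ Good x (cj g (_root_.Subgroup.closure {U ^ m, f, d})) := by
    intro x d hx hd
    refine ⟨1, x, hx, ?_⟩
    rw [cj_eq_iff.2 (one_mem _)]
    exact good_closure hx hm hd
  have key2 : ∀ x d, (x = 0 ∨ x = 60) → (d = c x ∨ d = (c x)⁻¹) →
      ∃ g : 𝒢, ∃ x, (x = 0 ∨ x = 60) ∧ Good x (cj g (_root_.Subgroup.closure {U ^ m, f, j0 * d * j0})) := by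
    intro x d hx hd
    refine ⟨j0, x, hx, ?_⟩
    rw [map_cl, j0_Up, j0_f']
    have h1 : j0 * (j0 * d * j0) * j0⁻¹ = d := by
      rw [j0_inv]
      calc j0 * (j0 * d * j0) * j0 = (j0 * j0) * d * (j0 * j0) := by group
        _ = d := by rw [j0_j0, one_mul, mul_one]
    rw [h1]
    exact good_closure hx (by omega) hd
  simp only [List.mem_cons, List.not_mem_nil, or_false] at hi
  rcases hi with rfl | rfl | rfl | rfl | rfl | rfl | rfl | rfl
  · exact key 0 _ (Or.inl rfl) (Or.inl rfl)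
  · exact key 60 _ (Or.inr rfl) (Or.inr c13_eq)
  · exact key 60 _ (Or.inr rfl) (Or.inl rfl)
  · rw [c115]; exact key2 0 _ (Or.inl rfl) (Or.inl rfl)
  · exact key 0 _ (Or.inl rfl) (Or.inr c143_eq)
  · rw [c147]; exact key2 0 _ (Or.inl rfl) (Or.inr c143_eq)
  · rw [c196]; exact key2 60 _ (Or.inr rfl) (Or.inr c13_eq)
  · rw [c222]; exact key2 60 _ (Or.inr rfl) (Or.inl rfl)

theorem exists_good {S : Subgroup 𝒢} {F : Type} [Field F] [Fintype F] (hF : Fintype.card F = 2)
    (e : S ≃* Matrix.ProjectiveSpecialLinearGroup (Fin 5) F) :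
    ∃ g : 𝒢, ∃ x, (x = 0 ∨ x = 60) ∧ Good x (cj g S) := by
  obtain ⟨a, b, d, h1, h2, -, -, h5, h6, h7, h8, h9, h10⟩ := L52Gens.exists_gens hF e
  have hS : S = _root_.Subgroup.closure {(a : 𝒢), (b : 𝒢), (d : 𝒢)} := by
    have h11 : (_root_.Subgroup.closure {a, b, d}).map S.subtype = S := by
      rw [h10, ← MonoidHom.range_eq_map, Subgroup.range_subtype]
    rw [MonoidHom.map_closure] at h11
    refine h11.symm.trans ?_
    congr 1
    ext x
    simp only [eq_comm, _root_.Subgroup.subtype_apply, _root_.Subgroup.coe_subtype, _root_.Set.mem_image, _root_.Set.mem_insert_iff, _root_.Set.mem_singleton_iff, _root_.exists_eq_or_imp', ↓ _root_.ExistsAndEq.existsAndEq, _root_.true_and]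
  obtain ⟨g1, m, hm, hm0, hg1⟩ := step1 (a := (a : 𝒢)) (by rw [← coe_pow, h1, coe_one]) (by
    intro h
    apply h2
    exact Subtype.ext h)
  have h5' : (a : 𝒢) * b = b * (a : 𝒢) ^ 2 := congrArg Subtype.val h5
  have h6' : (d : 𝒢) ^ 3 = 1 := congrArg Subtype.val h6
  have h7' : (d : 𝒢) ≠ 1 := fun h => h7 (Subtype.ext h)
  have h8' : (b : 𝒢) * d = d * b := congrArg Subtype.val h8
  have h9' : ((a : 𝒢) ^ 11 * d) ^ 4 = 1 := congrArg Subtype.val h9
  have hcm : ∀ g x y : 𝒢, g * (x * y) * g⁻¹ = (g * x * g⁻¹) * (g * y * g⁻¹) := fun g x y => by group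
  obtain ⟨n, hn⟩ := step2 hm hm0 (b := g1 * b * g1⁻¹) (by
    rw [← hg1, ← hcm, h5', hcm, ← conj_pow])
  set g := U ^ n * g1 with hg
  have hgc : ∀ x : 𝒢, g * x * g⁻¹ = U ^ n * (g1 * x * g1⁻¹) * (U ^ n)⁻¹ := fun x => by rw [hg]; group
  have e1 : g * a * g⁻¹ = U ^ m := by
    rw [hgc, hg1, ← pow_add, add_comm, pow_add, mul_inv_cancel_right]
  have e2 : g * b * g⁻¹ = f := by rw [hgc, hn]
  obtain ⟨i, hi, hci⟩ := ord3 (x := g * d * g⁻¹) (by rw [conj_pow, h6']; group)
    (by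
      intro h
      apply h7'
      rw [mul_inv_eq_one] at h
      exact mul_left_cancel (h.trans (mul_one g).symm))
    (by rw [← e2, ← hcm, ← hcm, h8'])
  have h11 := step3 hm hm0 hi (by rw [← hci, ← e2, ← hcm, ← hcm, h8']) (by
    rw [← hci, ← e1, conj_pow, ← hcm, conj_pow, h9']; group)
  obtain ⟨k, x, hx, hk⟩ := good_one (m := m) (by rw [Nat.mod_eq_of_lt hm]; exact hm0) h11
  refine ⟨k * g, x, hx, ?_⟩
  rw [← H860.JM.cj_cj, hS, map_cl, e1, e2, hci]
  exact hk

/-! ### maximal subgroups -/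

theorem isCoatom_cj {M : Subgroup 𝒢} (hM : IsCoatom M) (g : 𝒢) : IsCoatom (cj g M) :=
  (OrderIso.isCoatom_iff (MulEquiv.mapSubgroup (MulAut.conj g)) M).2 hM

theorem NL_cj {M S : Subgroup 𝒢} (hN : NL M S) (g : 𝒢) : NL (cj g M) (cj g S) := by
  let e : S ≃* (cj g S : Subgroup 𝒢) := S.equivMapOfInjective (MulAut.conj g).toMonoidHom (MulAut.conj g).injective
  refine ⟨isCoatom_cj hN.coatom g, Subgroup.map_mono hN.le, ?_, ?_, ?_, ?_⟩
  · rw [normalizer_cj]
    exact Subgroup.map_mono hN.norm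
  · have := hN.simple
    exact e.symm.isSimpleGroup
  · intro h
    apply hN.nab
    refine ⟨⟨fun a b => e.injective ?_⟩⟩
    rw [map_mul, map_mul]
    exact h.1.1 _ _
  · rw [H860.JM.centralizer_cj, hN.cent]
    exact Subgroup.map_bot _

theorem j0_mem_norm : j0 ∈ normalizer (zpowers U : Set 𝒢) :=
  H858.NormC.mem_normalizer_zpowers (k := 30) (by
    have := j0_Up 1
    rwa [pow_one, mul_one] at this)

theorem f_mem_norm : f ∈ normalizer (zpowers U : Set 𝒢) :=
  H858.NormC.mem_normalizer_zpowers (k := 16) (by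
    have := f_Up 1
    rw [pow_one, mul_one] at this
    rw [this, mul_inv_cancel_right])

theorem f_ord : orderOf f = 5 := by
  rw [f_eq]
  exact orderOf_eq_prime H858.Elem.f_pow H858.Loc5.f_ne

theorem no_good {x : ℕ} (hx : x = 0 ∨ x = 60) {M S : Subgroup 𝒢} (hN : NL M S) (hG : Good x S) : False := by
  have hXS : ¬ X ≤ S := by
    intro hX
    have := hN.simple
    have h1 : (X.subgroupOf S).Normal := Subgroup.normal_subgroupOf_of_le_normalizer hG.le
    rcases h1.eq_bot_or_eq_top with h | h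
    · have h0 : z 0 ∈ X := z_mem (by norm_num)
      have h2 : (⟨z 0, hX h0⟩ : S) ∈ X.subgroupOf S := Subgroup.mem_subgroupOf.2 h0
      rw [h, mem_bot] at h2
      exact z0_ne ((congrArg Subtype.val h2 :))
    · apply hN.nab
      have h2 : S ≤ X := Subgroup.subgroupOf_eq_top.1 h
      exact ⟨⟨fun a b => Subtype.ext (X_comm (h2 a.2) (h2 b.2))⟩⟩
  have hX_top : X ≠ ⊤ := by
    intro h
    apply hN.nab
    exact ⟨⟨fun a b => Subtype.ext (X_comm (by rw [h]; trivial) (by rw [h]; trivial))⟩⟩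
  have hMS : ¬ M ≤ S := by
    intro h
    have h1 : M ≤ normalizer (X : Set 𝒢) := h.trans hG.le
    have h2 : M = normalizer (X : Set 𝒢) := by
      by_contra h3
      exact normalizer_ne_top X_ne_bot hX_top (hN.coatom.2 _ (lt_of_le_of_ne h1 h3))
    exact hXS ((le_normalizer.trans h2.symm.le).trans h)
  obtain ⟨n, hnM, hnS⟩ := SetLike.not_le_iff_exists.1 hMS
  -- the Frattini argument
  have hu1 : n * U * n⁻¹ ∈ S := (mem_normalizer_iff.1 (hN.norm hnM) U).1 hG.u
  let U' : S := ⟨U, hG.u⟩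
  have hU' : Nat.card (zpowers U') = 31 := by
    rw [Nat.card_zpowers, ← orderOf_U, ← Subgroup.orderOf_coe]
  have hi : ¬ 31 ∣ (zpowers U').index :=
    Cfsg.Agent.H858.NormC.not_dvd_index hU' (fun h => (BigCent.sq_not_dvd (p := 31) (by simp))
      (h.trans (card_subgroup_dvd_card S)))
  obtain ⟨s, hs⟩ := SylEleven.exists_conj_mem (Cfsg.Agent.H858.NormC.isPGroup_of_card hU') hi
    (g := (⟨n * U * n⁻¹, hu1⟩ : S)) ⟨1, by
      ext
      rw [pow_one, coe_pow, conj_pow, U_pow]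
      simp⟩
  obtain ⟨m, hm⟩ := hs
  have hm3 : U ^ m = s * (n * U * n⁻¹) * (s : 𝒢)⁻¹ := (congrArg Subtype.val hm :)
  have hsn : (s : 𝒢) * n ∈ normalizer (zpowers U : Set 𝒢) := by
    have h1 : (s : 𝒢) * n * U * ((s : 𝒢) * n)⁻¹ ∈ zpowers U := by
      refine ⟨m, ?_⟩
      show U ^ m = _
      rw [hm3]; group
    obtain ⟨k, -, hk⟩ := mem_zU h1
    exact H858.NormC.mem_normalizer_zpowers (k := k) hk.symm
  -- orders
  set K : Subgroup 𝒢 := normalizer (zpowers U : Set 𝒢) ⊓ M with hK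
  have hN310 : Nat.card (normalizer (zpowers U : Set 𝒢)) = 310 := (BigNum.data31 card_zU).2
  have hKN : Nat.card K ∣ 310 := hN310 ▸ Subgroup.card_dvd_of_le inf_le_left
  have hUK : U ∈ K ⊓ S := ⟨⟨le_normalizer (mem_zpowers U), hN.le hG.u⟩, hG.u⟩
  have hfK : f ∈ K ⊓ S := ⟨⟨f_mem_norm, hN.le hG.f⟩, hG.f⟩
  have h31 : 31 ∣ Nat.card (K ⊓ S : Subgroup 𝒢) := orderOf_U ▸ H858.NormC.orderOf_dvd_of_mem hUK
  have h5 : 5 ∣ Nat.card (K ⊓ S : Subgroup 𝒢) := f_ord ▸ H858.NormC.orderOf_dvd_of_mem hfK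
  have h155 : 155 ∣ Nat.card (K ⊓ S : Subgroup 𝒢) := Nat.Coprime.mul_dvd_of_dvd_of_dvd (by norm_num) h31 h5
  have hdv : Nat.card (K ⊓ S : Subgroup 𝒢) ∣ Nat.card K := Subgroup.card_dvd_of_le inf_le_left
  have hne : Nat.card (K ⊓ S : Subgroup 𝒢) ≠ Nat.card K := by
    intro h
    have h1 : K ⊓ S = K := Subgroup.eq_of_le_of_card_ge inf_le_left h.ge
    have h2 : (s : 𝒢) * n ∈ K := ⟨hsn, M.mul_mem (hN.le s.2) hnM⟩
    rw [← h1] at h2
    apply hnS
    have h3 := S.mul_mem (S.inv_mem s.2) h2.2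
    rwa [inv_mul_cancel_left] at h3
  have hK310 : Nat.card K = 310 := by
    obtain ⟨a', ha'⟩ := h155
    obtain ⟨b', hb'⟩ := hdv
    obtain ⟨d', hd'⟩ := hKN
    rw [ha'] at hb' hne
    have h1 : a' * (b' * d') = 2 := by
      have h2 : 155 * (a' * (b' * d')) = 155 * 2 := by rw [hb'] at hd'; rw [show 155 * 2 = 310 from rfl, hd']; ring
      exact Nat.eq_of_mul_eq_mul_left (by norm_num) h2
    have hb1 : b' ≠ 1 := by
      rintro rfl
      apply hne
      rw [hb', mul_one]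
    have hb2 : b' ∣ 2 := ⟨a' * d', by rw [← h1]; ring⟩
    have hb3 : b' = 2 := ((Nat.dvd_prime Nat.prime_two).1 hb2).resolve_left hb1
    subst hb3
    have h3 : a' * d' = 1 := by linarith only [h1]
    have h4 : a' = 1 := Nat.eq_one_of_mul_eq_one_right h3
    rw [hb', h4]
  have hKeq : K = normalizer (zpowers U : Set 𝒢) :=
    Subgroup.eq_of_le_of_card_ge inf_le_left (by rw [hK310, hN310])
  have hj : j0 ∈ M := by
    have h1 := j0_mem_norm
    rw [← hKeq] at h1
    exact h1.2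
  have hd : j0 * c x * j0⁻¹ ∈ S := (mem_normalizer_iff.1 (hN.norm hj) _).1 hG.c
  have hd2 := hG.le hd
  have h1 : j0 * c x * j0⁻¹ * z 0 * (j0 * c x * j0⁻¹)⁻¹ ∈ X := (mem_normalizer_iff.1 hd2 _).1 (z_mem (by norm_num))
  have h2 := X_comm h1 (z_mem (i := 0) (by norm_num))
  rcases hx with rfl | rfl
  · apply nc0
    have h3 : (j0 * c 0 * j0⁻¹)⁻¹ = j0 * c 143 * j0 := by rw [c143_eq, mul_inv_rev, mul_inv_rev, inv_inv, j0_inv, mul_assoc]
    rw [h3, j0_inv] at h2
    exact h2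
  · apply nc60
    have h3 : (j0 * c 60 * j0⁻¹)⁻¹ = j0 * c 13 * j0 := by rw [c13_eq, mul_inv_rev, mul_inv_rev, inv_inv, j0_inv, mul_assoc]
    rw [h3, j0_inv] at h2
    exact h2

/-- **S5580, Part III, `L₅(2)`**: no maximal subgroup of `J4` has socle `L₅(2)` -/
theorem excl_L52 {F : Type} [Field F] [Fintype F] (hF : Fintype.card F = 2) :
    Excl (Matrix.ProjectiveSpecialLinearGroup (Fin 5) F) := by
  rintro M S hN ⟨e⟩
  obtain ⟨g, x, hx, hg⟩ := exists_good hF e
  exact no_good hx (NL_cj hN g) hg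

end Cfsg.Agent.H382.JM.L52
end

-- part: H179/JM/GLThree
section
/-!
# Elements of order 8 of `GL₂(3)` (helper179)
-/

set_option autoImplicit false
set_option maxRecDepth 100000

namespace Cfsg.Agent.H179.JM.GLThree

abbrev Q := Fin 3 × Fin 3 × Fin 3 × Fin 3

/-- product -/
def mul (x y : Q) : Q :=
  (x.1 * y.1 + x.2.1 * y.2.2.1, x.1 * y.2.1 + x.2.1 * y.2.2.2,
    x.2.2.1 * y.1 + x.2.2.2 * y.2.2.1, x.2.2.1 * y.2.1 + x.2.2.2 * y.2.2.2)

def all3 (p : Fin 3 → Bool) : Bool := p 0 && (p 1 && p 2)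

theorem all3_iff (p : Fin 3 → Bool) : all3 p = true ↔ ∀ a, p a = true := by
  unfold all3
  rw [Bool.and_eq_true, Bool.and_eq_true]
  constructor
  · rintro ⟨h0, h1, h2⟩ a
    fin_cases a <;> assumption
  · intro h
    exact ⟨h 0, h 1, h 2⟩

def allQ (p : Q → Bool) : Bool := all3 fun a => all3 fun b => all3 fun c => all3 fun d => p (a, b, c, d)

theorem allQ_iff (p : Q → Bool) : allQ p = true ↔ ∀ x, p x = true := by
  unfold allQ
  simp only [all3_iff]
  constructor
  · rintro h ⟨a, b, c, d⟩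
    exact h a b c d
  · intro h a b c d
    exact h _

/-- `x ^ 4 ≠ 1`, `x ^ 8 = 1` -/
def o8 (x : Q) : Bool :=
  (fun x2 => (fun x4 => !(decide (x4 = (1, 0, 0, 1))) && decide (mul x4 x4 = (1, 0, 0, 1))) (mul x2 x2)) (mul x x)

/-- `x ^ 8 = 1` -/
def p8 (x : Q) : Bool :=
  (fun x2 => (fun x4 => decide (mul x4 x4 = (1, 0, 0, 1))) (mul x2 x2)) (mul x x)

theorem no16 : allQ (fun x => bif decide ((fun y => mul y y) ((fun y => mul y y) ((fun y => mul y y) (mul x x))) =
    (1, 0, 0, 1)) then p8 x else true) = true := by decide +kernel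

def chk : Bool := allQ fun x => bif o8 x then (allQ fun y => bif o8 y then bif p8 (mul x y) then
  decide (y = x) || decide (y = mul x (mul x x)) || decide (y = mul (mul x x) (mul x (mul x x))) ||
    decide (y = mul (mul x x) (mul (mul x x) (mul x (mul x x))))
  else true else true) else true

theorem chk_true : chk = true := by decide +kernel

/-- the code of a matrix -/
def cd (m : Matrix (Fin 2) (Fin 2) (ZMod 3)) : Q := (m 0 0, m 0 1, m 1 0, m 1 1)

theorem cd_mul (m n : Matrix (Fin 2) (Fin 2) (ZMod 3)) : cd (m * n) = mul (cd m) (cd n) := by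
  unfold cd mul
  simp only [Matrix.mul_apply, Fin.sum_univ_two]
  rfl

theorem cd_one : cd 1 = (1, 0, 0, 1) := rfl

theorem cd_inj {m n : Matrix (Fin 2) (Fin 2) (ZMod 3)} (h : cd m = cd n) : m = n := by
  have h1 : m 0 0 = n 0 0 := congrArg (fun q : Q => q.1) h
  have h2 : m 0 1 = n 0 1 := congrArg (fun q : Q => q.2.1) h
  have h3 : m 1 0 = n 1 0 := congrArg (fun q : Q => q.2.2.1) h
  have h4 : m 1 1 = n 1 1 := congrArg (fun q : Q => q.2.2.2) h
  ext i j
  fin_cases i <;> fin_cases j <;> assumption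

seal _root_.Finset.sum _root_.npowRec _root_.dotProduct in
theorem p8_iff (x : Matrix (Fin 2) (Fin 2) (ZMod 3)) : p8 (cd x) = true ↔ x ^ 8 = 1 := by
  have e : cd (x ^ 8) = mul (mul (mul (cd x) (cd x)) (mul (cd x) (cd x))) (mul (mul (cd x) (cd x)) (mul (cd x) (cd x))) := by
    rw [← cd_mul, ← cd_mul, ← cd_mul]
    congr 1
    noncomm_ring
  change decide (mul (mul (mul (cd x) (cd x)) (mul (cd x) (cd x))) (mul (mul (cd x) (cd x)) (mul (cd x) (cd x))) =
    (1, 0, 0, 1)) = true ↔ _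
  rw [decide_eq_true_eq, ← e, ← cd_one]
  exact ⟨fun h => cd_inj h, fun h => by rw [h]⟩

theorem o8_iff (x : Matrix (Fin 2) (Fin 2) (ZMod 3)) : o8 (cd x) = true ↔ x ^ 4 ≠ 1 ∧ x ^ 8 = 1 := by
  have e : cd (x ^ 4) = mul (mul (cd x) (cd x)) (mul (cd x) (cd x)) := by
    rw [← cd_mul, ← cd_mul]
    congr 1
    noncomm_ring
  rw [← p8_iff]
  change (!(decide (mul (mul (cd x) (cd x)) (mul (cd x) (cd x)) = (1, 0, 0, 1))) && p8 (cd x)) = true ↔ _
  rw [Bool.and_eq_true, Bool.not_eq_true', decide_eq_false_iff_not, ← e, ← cd_one]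
  exact and_congr_left fun _ => not_congr ⟨fun h => cd_inj h, fun h => by rw [h]⟩

/-- `GL₂(3)` has no element of order 16 -/
theorem pow_eight {x : GL (Fin 2) (ZMod 3)} (h : x ^ 16 = 1) : x ^ 8 = 1 := by
  have h1 := no16
  rw [allQ_iff] at h1
  have h2 := h1 (cd x.1)
  have e : cd (x.1 ^ 16) = (fun y => mul y y) ((fun y => mul y y) ((fun y => mul y y) (mul (cd x.1) (cd x.1)))) := by
    show _ = mul (mul (mul (mul (cd x.1) (cd x.1)) (mul (cd x.1) (cd x.1)))
      (mul (mul (cd x.1) (cd x.1)) (mul (cd x.1) (cd x.1)))) (mul (mul (mul (cd x.1) (cd x.1)) (mul (cd x.1) (cd x.1)))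
      (mul (mul (cd x.1) (cd x.1)) (mul (cd x.1) (cd x.1))))
    rw [← cd_mul, ← cd_mul, ← cd_mul, ← cd_mul, ← pow_two, ← pow_two, ← pow_two, ← pow_two, ← pow_mul, ← pow_mul,
      ← pow_mul]
  have h3 : (decide ((fun y => mul y y) ((fun y => mul y y) ((fun y => mul y y) (mul (cd x.1) (cd x.1)))) =
      ((1, 0, 0, 1) : Q))) = true := by
    rw [decide_eq_true_eq]
    refine e.symm.trans ?_
    rw [← Units.val_pow_eq_pow_val, h]
    rfl
  rw [h3, cond_true, p8_iff] at h2
  exact Units.ext (by rw [Units.val_pow_eq_pow_val, h2]; rfl)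

/-- Two elements of order 8 of `GL₂(3)` whose product is a 2-element generate the same subgroup. -/
theorem pow_of {x y : GL (Fin 2) (ZMod 3)} (hx8 : x ^ 8 = 1) (hx4 : x ^ 4 ≠ 1) (hy8 : y ^ 8 = 1) (hy4 : y ^ 4 ≠ 1)
    (hxy : (x * y) ^ 8 = 1) : ∃ n : ℕ, y = x ^ n := by
  have h := chk_true
  rw [chk, allQ_iff] at h
  have h1 := h (cd x.1)
  have hc : ∀ z : GL (Fin 2) (ZMod 3), z ^ 8 = 1 → z ^ 4 ≠ 1 → o8 (cd z.1) = true := fun z h8 h4 => by
    rw [o8_iff]
    refine ⟨fun h0 => h4 (Units.ext ?_), ?_⟩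
    · rw [Units.val_pow_eq_pow_val, h0]; rfl
    · rw [← Units.val_pow_eq_pow_val, h8]; rfl
  rw [hc x hx8 hx4, cond_true, allQ_iff] at h1
  have h2 := h1 (cd y.1)
  have h3 : p8 (mul (cd x.1) (cd y.1)) = true := by
    rw [← cd_mul, p8_iff, ← Units.val_mul, ← Units.val_pow_eq_pow_val, hxy]
    rfl
  rw [hc y hy8 hy4, cond_true, h3, cond_true] at h2
  simp only [Bool.or_eq_true, decide_eq_true_eq, ← cd_mul] at h2
  rcases h2 with ((h2 | h2) | h2) | h2
  · exact ⟨1, Units.ext (by rw [pow_one]; exact cd_inj h2)⟩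
  · exact ⟨3, Units.ext (by rw [Units.val_pow_eq_pow_val, cd_inj h2]; noncomm_ring)⟩
  · exact ⟨5, Units.ext (by rw [Units.val_pow_eq_pow_val, cd_inj h2]; noncomm_ring)⟩
  · exact ⟨7, Units.ext (by rw [Units.val_pow_eq_pow_val, cd_inj h2]; noncomm_ring)⟩

end Cfsg.Agent.H179.JM.GLThree
end

-- part: H179/JM/Forty
section
/-!
# Cyclic subgroups of order 40 of `11^{1+2}.(5 × GL₂(3))` (helper179)
-/

set_option autoImplicit false

namespace Cfsg.Agent.H179.JM.Forty

open Subgroup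

theorem conj_pow' {G : Type*} [Group G] (c x : G) (n : ℕ) : (c * x * c⁻¹) ^ n = c * x ^ n * c⁻¹ := conj_pow

/-- In a group of order `2^4·3·5·11^3` containing `GL₂(3)` the cyclic subgroups of order 40 are conjugate. -/
theorem conj_forty {N : Type*} [Group N] [Finite N] (hN : Nat.card N = 2 ^ 4 * 3 * 5 * 11 ^ 3) (K : Subgroup N)
    (e : K ≃* GL (Fin 2) (ZMod 3)) {h h' : N} (ho : orderOf h = 40) (ho' : orderOf h' = 40) :
    ∃ n : N, n * h' * n⁻¹ ∈ zpowers h := by
  classical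
  have f5 : Fact (Nat.Prime 5) := ⟨by norm_num⟩
  have f2 : Fact (Nat.Prime 2) := ⟨by norm_num⟩
  have ho8 : orderOf (h ^ 8) = 5 := by rw [orderOf_pow' h (by norm_num), ho]; norm_num
  have ho8' : orderOf (h' ^ 8) = 5 := by rw [orderOf_pow' h' (by norm_num), ho']; norm_num
  obtain ⟨g, hg⟩ := Cfsg.Agent.H858.Abs.exists_conj_prime (p := 5) (P := zpowers (h' ^ 8)) (P' := zpowers (h ^ 8))
    (by rw [Nat.card_zpowers, ho8']) (by rw [Nat.card_zpowers, ho8]) (by rw [hN]; norm_num)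
  set h1 := g * h' * g⁻¹ with hh1
  have ho1 : orderOf h1 = 40 := by
    have : h1 = MulAut.conj g h' := by rw [MulAut.conj_apply]
    rw [this, (MulAut.conj g).orderOf_eq, ho']
  have hz1 : zpowers (h1 ^ 8) = zpowers (h ^ 8) := by
    rw [← hg, MonoidHom.map_zpowers]
    congr 1
    show h1 ^ 8 = g * h' ^ 8 * g⁻¹
    rw [hh1, conj_pow']
  have h18 : h1 ^ 8 ∈ zpowers (h ^ 8) := by rw [← hz1]; exact mem_zpowers _
  have h81 : h ^ 8 ∈ zpowers (h1 ^ 8) := by rw [hz1]; exact mem_zpowers _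
  set C := centralizer ({h ^ 8} : Set N) with hC
  have hhC : h ∈ C := by
    rw [hC, mem_centralizer_iff]
    rintro _ rfl
    rw [← pow_succ, ← pow_succ']
  have hh1C : h1 ∈ C := by
    rw [hC, mem_centralizer_iff]
    rintro _ rfl
    obtain ⟨m, hm⟩ := h81
    rw [← hm]
    exact ((Commute.refl h1).pow_left 8).zpow_left m
  -- Sylow 2-subgroups of `C`
  have hpg : ∀ x : C, x ^ 8 = 1 → IsPGroup 2 (zpowers x) := fun x hx =>
    IsPGroup.of_card_dvd_pow (n := 3) (by rw [Nat.card_zpowers]; exact orderOf_dvd_of_pow_eq_one hx)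
  have ha8 : (⟨h, hhC⟩ ^ 5 : C) ^ 8 = 1 := by
    rw [← pow_mul]
    apply Subtype.ext
    show h ^ (5 * 8) = 1
    rw [← orderOf_dvd_iff_pow_eq_one, ho]
  have ha18 : (⟨h1, hh1C⟩ ^ 5 : C) ^ 8 = 1 := by
    rw [← pow_mul]
    apply Subtype.ext
    show h1 ^ (5 * 8) = 1
    rw [← orderOf_dvd_iff_pow_eq_one, ho1]
  obtain ⟨R, hR⟩ := (hpg _ ha8).exists_le_sylow
  obtain ⟨R1, hR1⟩ := (hpg _ ha18).exists_le_sylow
  obtain ⟨c, hc⟩ := MulAction.exists_smul_eq C R1 R
  have haR : (⟨h, hhC⟩ ^ 5 : C) ∈ (R : Subgroup C) := hR (mem_zpowers _)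
  have ha1R : c * (⟨h1, hh1C⟩ ^ 5 : C) * c⁻¹ ∈ (R : Subgroup C) := by
    rw [← hc]
    exact ⟨_, hR1 (mem_zpowers _), rfl⟩
  -- into `K`
  have hRN : IsPGroup 2 ((R : Subgroup C).map C.subtype) := R.2.map _
  obtain ⟨Q, hQ⟩ := hRN.exists_le_sylow
  have hK : Nat.card K = 48 := by
    rw [Nat.card_congr e.toEquiv, Matrix.card_GL_field]
    simp only [Fin.prod_univ_two, ZMod.card, _root_.Nat.reducePow, _root_.Fin.isValue, _root_.Fin.coe_ofNat_eq_mod, _root_.Nat.zero_mod, _root_.pow_zero, _root_.Nat.add_one_sub_one, _root_.Nat.mod_succ, _root_.pow_one, _root_.Nat.reduceSub, _root_.Nat.reduceMul]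
  obtain ⟨SK⟩ : Nonempty (Sylow 2 K) := inferInstance
  have hSK : Nat.card ((SK : Subgroup K).map K.subtype) = 2 ^ 4 := by
    rw [Subgroup.card_map_of_injective K.subtype_injective, SK.card_eq_multiplicity, hK]
    congr 1
    rw [Nat.factorization_def _ f2.out, show (48 : ℕ) = 2 ^ 4 * 3 by norm_num,
      padicValNat.mul (by norm_num) (by norm_num), padicValNat.prime_pow,
      padicValNat.eq_zero_of_not_dvd (by norm_num)]
  have hSp : IsPGroup 2 ((SK : Subgroup K).map K.subtype) := SK.2.map _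
  have hSi : ¬ 2 ∣ ((SK : Subgroup K).map K.subtype).index := by
    have h2 := ((SK : Subgroup K).map K.subtype).card_mul_index
    rw [hSK, hN] at h2
    intro h3
    obtain ⟨j, hj⟩ := h3
    rw [hj] at h2
    omega
  obtain ⟨m, hm⟩ := MulAction.exists_smul_eq N Q (hSp.toSylow hSi)
  set a := h ^ 5 with ha
  set a2 := (c : N) * h1 ^ 5 * (c : N)⁻¹ with ha2
  have haQ : a ∈ (Q : Subgroup N) := hQ ⟨_, haR, rfl⟩
  have ha2Q : a2 ∈ (Q : Subgroup N) := hQ ⟨_, ha1R, rfl⟩
  have hmem : ∀ x ∈ (Q : Subgroup N), ∃ y : K, y ∈ (SK : Subgroup K) ∧ (y : N) = m * x * m⁻¹ := by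
    intro x hx
    have h2 : m * x * m⁻¹ ∈ ((m • Q : Sylow 2 N) : Subgroup N) := ⟨x, hx, rfl⟩
    rw [hm] at h2
    obtain ⟨y, hy, hy2⟩ := h2
    exact ⟨y, hy, hy2⟩
  obtain ⟨x, hxS, hx⟩ := hmem a haQ
  obtain ⟨y, hyS, hy⟩ := hmem a2 ha2Q
  have hinj : ∀ z : K, ∀ n : ℕ, (e z) ^ n = 1 ↔ (z : N) ^ n = 1 := by
    intro z n
    rw [← map_pow, map_eq_one_iff e e.injective]
    exact ⟨fun h => by rw [← Subgroup.coe_pow, h]; rfl, fun h => Subtype.ext (by rw [Subgroup.coe_pow, h]; rfl)⟩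
  have hcj : ∀ (u v : N) (n : ℕ), (u * v * u⁻¹) ^ n = 1 ↔ v ^ n = 1 := by
    intro u v n
    rw [conj_pow']
    constructor
    · intro h
      have : v ^ n = u⁻¹ * (u * v ^ n * u⁻¹) * u := by group
      rw [this, h]; group
    · intro h
      rw [h]; group
  have ha_pow : ∀ n : ℕ, a ^ n = 1 ↔ 40 ∣ 5 * n := fun n => by
    rw [ha, ← pow_mul, ← orderOf_dvd_iff_pow_eq_one, ho]
  have ha2_pow : ∀ n : ℕ, a2 ^ n = 1 ↔ 40 ∣ 5 * n := fun n => by
    rw [ha2, hcj, ← pow_mul, ← orderOf_dvd_iff_pow_eq_one, ho1]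
  obtain ⟨n, hn⟩ := GLThree.pow_of (x := e x) (y := e y)
    (by rw [hinj, hx, hcj, ha_pow]) (by rw [ne_eq, hinj, hx, hcj, ha_pow]; norm_num)
    (by rw [hinj, hy, hcj, ha2_pow]) (by rw [ne_eq, hinj, hy, hcj, ha2_pow]; norm_num)
    (by
      apply GLThree.pow_eight
      rw [← map_mul, hinj]
      have h3 : (x * y : K) ∈ (SK : Subgroup K) := mul_mem hxS hyS
      have h4 : ((⟨x * y, h3⟩ : (SK : Subgroup K)) ) ^ (2 ^ 4) = 1 := by
        have h5 : Nat.card (SK : Subgroup K) = 2 ^ 4 := by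
          rw [← hSK, Subgroup.card_map_of_injective K.subtype_injective]
        rw [← h5]
        exact pow_card_eq_one'
      have h6 := congrArg (fun z : (SK : Subgroup K) => ((z : K) : N)) h4
      exact h6)
  have hyn : y = x ^ n := e.injective (by rw [map_pow, hn])
  have ha2n : a2 = a ^ n := by
    have h2 : m * a2 * m⁻¹ = m * a ^ n * m⁻¹ := by
      rw [← hy, hyn, Subgroup.coe_pow, hx, conj_pow']
    have h3 := mul_right_cancel (mul_left_cancel ((mul_assoc m a2 m⁻¹).symm.trans (h2.trans (mul_assoc m (a ^ n) m⁻¹))))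
    exact h3
  -- the end
  refine ⟨c * g, ?_⟩
  have h2 : c * g * h' * (c * g)⁻¹ = (c : N) * h1 * (c : N)⁻¹ := by
    rw [hh1]; group
  rw [h2]
  set h2' := (c : N) * h1 * (c : N)⁻¹ with hh2
  have e5 : h2' ^ 5 ∈ zpowers h := by
    rw [hh2, conj_pow', ← ha2, ha2n, ha]
    exact pow_mem (pow_mem (mem_zpowers h) 5) n
  have e8 : h2' ^ 8 ∈ zpowers h := by
    rw [hh2, conj_pow']
    have h3 : (c : N) * h1 ^ 8 * (c : N)⁻¹ = h1 ^ 8 := by
      have h4 : Commute (c : N) (h ^ 8) := (mem_centralizer_iff.1 c.2 _ rfl).symm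
      obtain ⟨j, hj⟩ := h18
      rw [← hj]
      have h5 : Commute (c : N) ((h ^ 8) ^ j) := h4.zpow_right j
      exact mul_inv_eq_iff_eq_mul.2 h5.eq
    rw [h3]
    obtain ⟨j, hj⟩ := h18
    rw [← hj]
    exact zpow_mem (pow_mem (mem_zpowers h) 8) j
  have h3 : h2' = (h2' ^ 8) ^ 2 * ((h2' ^ 5) ^ 3)⁻¹ := by
    rw [← pow_mul, ← pow_mul, eq_mul_inv_iff_mul_eq, ← pow_succ']
  rw [h3]
  exact mul_mem (pow_mem e8 2) (inv_mem (pow_mem e5 3))

/-- Two cyclic subgroups of order 40 of `N` are conjugate in `N` (version for a subgroup). -/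
theorem conj_forty_in {G : Type*} [Group G] [Finite G] {N : Subgroup G} (hN : Nat.card N = 2 ^ 4 * 3 * 5 * 11 ^ 3)
    {K : Subgroup G} (hKN : K ≤ N) (e : K ≃* GL (Fin 2) (ZMod 3)) {h h' : G} (hh : h ∈ N) (hh' : h' ∈ N)
    (ho : orderOf h = 40) (ho' : orderOf h' = 40) : ∃ n ∈ N, n * h' * n⁻¹ ∈ zpowers h := by
  obtain ⟨n, hn⟩ := conj_forty (N := N) hN (K.subgroupOf N) ((subgroupOfEquivOfLe hKN).trans e)
    (h := ⟨h, hh⟩) (h' := ⟨h', hh'⟩) (by rw [← ho, ← orderOf_coe]) (by rw [← ho', ← orderOf_coe])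
  obtain ⟨j, hj⟩ := hn
  refine ⟨n, n.2, j, ?_⟩
  exact congrArg Subtype.val hj

end Cfsg.Agent.H179.JM.Forty
end

-- part: H179/JM/JEight
section
/-!
# S5580, Part III, `U₃(11)`: elements of order 8 of `J = 2^3.L3(2)` and of order 40 of `J4` (helper179)

* `cent_J` : an element of order 8 of `J` is self-centralizing in `J`;
* `cent_forty` : an element of order 40 of `J4` is self-centralizing.
-/

set_option autoImplicit false

namespace Cfsg.Agent.H179.JM.JEight

open Cfsg Cfsg.Agent.Lib.F2MatGroup Cfsg.Agent.J4.Rep112 Cfsg.Agent.J4.M24Hom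
open Cfsg.Agent.J4.ClassesAbs (Hyp)
open Cfsg.Agent.J4.Lower Cfsg.Agent.J4.GroupLemmas
open Cfsg.Agent.J4.Classes (psi hyp)
open Cfsg.Agent.H860.Act Cfsg.Agent.H860.Orb
open Cfsg.Agent.H860.PairGroup Cfsg.Agent.H860.JData Cfsg.Agent.H860.Count
open Cfsg.Agent.SporadicStructure.M24El Cfsg.Agent.SporadicA.GolayPerm
open Cfsg.Agent.H858.Loc5 (J F5)

/-- the representatives of order 8 are self-centralizing -/
def centOk (T : Tab) : Bool :=
  (List.range T.reps.length).all fun k =>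
    cond (eqc (Tab.pw (T.x (T.r k)) 8) (0, idP) && !(eqc (Tab.pw (T.x (T.r k)) 4) (0, idP)))
      ((List.range T.n).all fun i => !(eqc (mc (T.x i) (T.x (T.r k))) (mc (T.x (T.r k)) (T.x i))) ||
        (List.range 8).any fun n => eqc (T.x i) (Tab.pw (T.x (T.r k)) n)) true

/-- the two elements do not commute; three points are tested first -/
def nc (a b : ℕ × ℕ) : Bool :=
  cond (Nat.beq (papp a.2 (papp b.2 0)) (papp b.2 (papp a.2 0)))
    (cond (Nat.beq (papp a.2 (papp b.2 9)) (papp b.2 (papp a.2 9)))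
      (cond (Nat.beq (papp a.2 (papp b.2 17)) (papp b.2 (papp a.2 17))) (!(eqc (mc a b) (mc b a))) true) true) true

theorem nc_eq (a b : ℕ × ℕ) : nc a b = !(eqc (mc a b) (mc b a)) := by
  unfold nc
  rcases h : eqc (mc a b) (mc b a) with _ | _
  · simp only [Bool.not_false, Bool.cond_self]
  · have h0 : ∀ a b : ℕ × ℕ, (mc a b).2 = pcomp a.2 b.2 := fun a b => by
      delta mc
      rfl
    have h1 := congrArg Prod.snd (eqc_eq h)
    rw [h0, h0] at h1
    rw [← papp_pcomp _ _ (by omega), ← papp_pcomp _ _ (by omega), ← papp_pcomp _ _ (by omega),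
      ← papp_pcomp _ _ (by omega), ← papp_pcomp _ _ (by omega), ← papp_pcomp _ _ (by omega), h1, Nat.beq_refl,
      Nat.beq_refl, Nat.beq_refl]
    rfl

theorem centOk_TJ : centOk TJ = true := by
  have h : ((List.range TJ.reps.length).all fun k =>
      cond (eqc (Tab.pw (TJ.x (TJ.r k)) 8) (0, idP) && !(eqc (Tab.pw (TJ.x (TJ.r k)) 4) (0, idP)))
        ((List.range TJ.n).all fun i => nc (TJ.x i) (TJ.x (TJ.r k)) ||
          (List.range 8).any fun n => eqc (TJ.x i) (Tab.pw (TJ.x (TJ.r k)) n)) true) = true := by decide +kernel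
  simp only [nc_eq] at h
  exact h

section

variable {T : Tab} {G : Type*} [Group G] {R : Subgroup G} {l : List G} {phi : M24 →* G}

theorem cent_sound [Finite G] (H : Hyp R l phi)
    (hQ : ∀ m : M24, phi m ∈ Subgroup.closure {q | q ∈ l} → m = 1)
    (h : T.treeOk = true) (hc : T.closedOk = true) (hcov : T.coverOk 7 = true) (hce : centOk T = true)
    {x c : G} (hx : x ∈ Tab.K T l phi) (hcK : c ∈ Tab.K T l phi) (h8 : x ^ 8 = 1) (h4 : x ^ 4 ≠ 1)
    (hcx : c * x = x * c) : ∃ n : ℕ, c = x ^ n := by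
  obtain ⟨i, hi, rfl⟩ := Tab.exists_x H h hc hx
  unfold Tab.coverOk at hcov
  rw [Bool.and_eq_true, List.all_eq_true, List.all_eq_true] at hcov
  obtain ⟨hr, hcov⟩ := hcov
  have hr' : ∀ k < T.reps.length, T.r k < T.n := fun k hk => by
    have := hr k (List.mem_range.2 hk)
    rwa [Nat.blt_eq] at this
  have h1 := hcov i (List.mem_range.2 hi)
  rcases hl : Nat.blt (tget T.lab 4 i) T.reps.length with _ | _
  · exfalso
    rw [hl, cond_false, Bool.and_eq_true, Bool.not_eq_true'] at h1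
    have h2 : (E l phi (T.x i)) ^ 7 = 1 := by
      rw [← (Tab.E_pw H (Tab.x_ok h hi) 7).2, eqc_eq h1.1, E_one]
    apply h4
    have h3 : E l phi (T.x i) = 1 := by
      calc E l phi (T.x i) = E l phi (T.x i) ^ 8 * ((E l phi (T.x i)) ^ 7)⁻¹ := by group
        _ = 1 := by rw [h8, h2]; simp
    rw [h3, one_pow]
  · rw [hl, cond_true, Bool.and_eq_true, Nat.blt_eq] at h1
    have hl' : tget T.lab 4 i < T.reps.length := by rwa [Nat.blt_eq] at hl
    set k := tget T.lab 4 i with hk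
    have hrk := hr' k hl'
    set d := E l phi (T.x (tget T.cj 11 i)) with hd
    set r := E l phi (T.x (T.r k)) with hrdef
    have hconj : d * E l phi (T.x i) * d⁻¹ = r := by
      have h2 := congrArg (E l phi) (eqc_eq h1.2)
      rw [E_mul H (Tab.x_ok h h1.1) (Tab.x_ok h hi), E_mul H (Tab.x_ok h hrk) (Tab.x_ok h h1.1)] at h2
      rw [hd, hrdef, h2]; group
    have hr8 : r ^ 8 = 1 := (Tab.pow_eq_one_of_conj hconj 8).1 h8
    have hr4 : r ^ 4 ≠ 1 := fun h0 => h4 ((Tab.pow_eq_one_of_conj hconj 4).2 h0)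
    have e8 : eqc (Tab.pw (T.x (T.r k)) 8) (0, idP) = true := by
      cases e : eqc (Tab.pw (T.x (T.r k)) 8) (0, idP)
      · exact absurd hr8 (Tab.pw_ne_one H hQ (Tab.x_ok h hrk) e)
      · rfl
    have e4 : eqc (Tab.pw (T.x (T.r k)) 4) (0, idP) = false := by
      cases e : eqc (Tab.pw (T.x (T.r k)) 4) (0, idP)
      · rfl
      · exfalso
        apply hr4
        rw [hrdef, ← (Tab.E_pw H (Tab.x_ok h hrk) 4).2, eqc_eq e, E_one]
    unfold centOk at hce
    rw [List.all_eq_true] at hce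
    have h5 := hce k (List.mem_range.2 hl')
    rw [e8, e4, Bool.not_false, Bool.and_self, cond_true, List.all_eq_true] at h5
    have hc' : d * c * d⁻¹ ∈ Tab.K T l phi :=
      mul_mem (mul_mem (Tab.x_mem H h h1.1) hcK) (inv_mem (Tab.x_mem H h h1.1))
    obtain ⟨i', hi', hci⟩ := Tab.exists_x H h hc hc'
    have h6 := h5 i' (List.mem_range.2 hi')
    have hcomm : (d * c * d⁻¹) * r = r * (d * c * d⁻¹) := by
      rw [← hconj]
      have : d * c * d⁻¹ * (d * E l phi (T.x i) * d⁻¹) = d * (c * E l phi (T.x i)) * d⁻¹ := by group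
      rw [this, hcx]
      group
    have e9 : eqc (mc (T.x i') (T.x (T.r k))) (mc (T.x (T.r k)) (T.x i')) = true := by
      cases e : eqc (mc (T.x i') (T.x (T.r k))) (mc (T.x (T.r k)) (T.x i'))
      · exfalso
        apply E_ne H hQ (Tab.x_ok h hi') (Tab.x_ok h hrk) (Tab.x_ok h hrk) (Tab.x_ok h hi') (Tab.x_lt _) (Tab.x_lt _) e
        rw [E_mul H (Tab.x_ok h hi') (Tab.x_ok h hrk), E_mul H (Tab.x_ok h hrk) (Tab.x_ok h hi'), ← hci]
        exact hcomm
      · rfl
    rw [e9, Bool.not_true, Bool.false_or, List.any_eq_true] at h6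
    obtain ⟨n, -, hn⟩ := h6
    refine ⟨n, ?_⟩
    have h7 : d * c * d⁻¹ = r ^ n := by
      rw [hci, eqc_eq hn, (Tab.E_pw H (Tab.x_ok h hrk) n).2]
    calc c = d⁻¹ * (d * c * d⁻¹) * d := by group
      _ = d⁻¹ * (d * E l phi (T.x i) * d⁻¹) ^ n * d := by rw [h7, hconj]
      _ = E l phi (T.x i) ^ n := by rw [conj_pow]; group

end

/-- an element of order 8 of `J` is self-centralizing in `J` -/
theorem cent_J {x c : Cfsg.Spor.J4} (hx : x ∈ J) (hc : c ∈ J) (h8 : x ^ 8 = 1) (h4 : x ^ 4 ≠ 1)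
    (hcx : c * x = x * c) : ∃ n : ℕ, c = x ^ n := by
  have hx' : rho x ∈ Tab.K TJ qs psi := by
    rw [← Cfsg.Agent.H860.JJ4.map_J]; exact ⟨x, hx, rfl⟩
  have hc' : rho c ∈ Tab.K TJ qs psi := by
    rw [← Cfsg.Agent.H860.JJ4.map_J]; exact ⟨c, hc, rfl⟩
  have e8 : rho x ^ 8 = 1 := by rw [← map_pow, h8, map_one]
  have e4 : rho x ^ 4 ≠ 1 := fun h0 =>
    h4 (Cfsg.Agent.H858.VK.rho_injective ((map_pow rho x 4).trans (h0.trans (map_one rho).symm)))
  have ec : rho c * rho x = rho x * rho c := by rw [← map_mul, hcx, map_mul]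
  obtain ⟨n, hn⟩ := cent_sound (T := TJ) hyp Cfsg.Agent.H860.JJ4.psi_inter
    Cfsg.Agent.H860.JTab.tree Cfsg.Agent.H860.JTab.closed Cfsg.Agent.H860.JTab.cover centOk_TJ hx' hc' e8 e4 ec
  exact ⟨n, Cfsg.Agent.H858.VK.rho_injective (hn.trans (map_pow rho x n).symm)⟩

local notation "𝒢" => Cfsg.Spor.J4

instance : Finite 𝒢 := Cfsg.Agent.H858.VK.finite_J4

/-- an element of order 40 of `J4` is self-centralizing -/
theorem cent_forty {h c : 𝒢} (hh : orderOf h = 40) (hc : c * h = h * c) : c ∈ Subgroup.zpowers h := by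
  classical
  have f5 : Fact (Nat.Prime 5) := ⟨by norm_num⟩
  -- conjugate `⟨h ^ 8⟩` into `F5`
  have ho : orderOf (h ^ 8) = 5 := by rw [orderOf_pow' h (by norm_num), hh]; norm_num
  have hz : Nat.card (Subgroup.zpowers (h ^ 8)) = 5 := by rw [Nat.card_zpowers, ho]
  obtain ⟨g, hg⟩ := Cfsg.Agent.H858.Abs.exists_conj_prime (p := 5) Cfsg.Agent.H858.Loc5.card_F5 hz
    (by rw [Cfsg.Agent.H858.FixJ4.card_J4]; norm_num)
  set k := g⁻¹ * h * g with hk
  set e := g⁻¹ * c * g with he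
  have hkk : ∀ n : ℕ, k ^ n = g⁻¹ * h ^ n * g := fun n => by
    have := conj_pow (i := n) (a := g⁻¹) (b := h)
    rw [inv_inv] at this
    exact this
  have hok : orderOf k = 40 := by
    rw [← hh]
    have : k = MulAut.conj g⁻¹ h := by rw [MulAut.conj_apply, inv_inv]
    rw [this]
    exact (MulAut.conj g⁻¹).orderOf_eq h
  have hek : e * k = k * e := by
    rw [hk, he]
    calc g⁻¹ * c * g * (g⁻¹ * h * g) = g⁻¹ * (c * h) * g := by group
      _ = g⁻¹ * (h * c) * g := by rw [hc]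
      _ = g⁻¹ * h * g * (g⁻¹ * c * g) := by group
  have hk8 : k ^ 8 ∈ F5 := by
    have h1 : h ^ 8 ∈ F5.map (MulAut.conj g).toMonoidHom := by
      rw [hg]; exact Subgroup.mem_zpowers _
    obtain ⟨y, hy, hy2⟩ := h1
    have h2 : g * y * g⁻¹ = h ^ 8 := hy2
    have h3 : k ^ 8 = y := by rw [hkk, ← h2]; group
    rw [h3]
    exact hy
  have hF5 : F5 = Subgroup.zpowers (k ^ 8) := by
    symm
    refine Subgroup.eq_of_le_of_card_ge (Subgroup.zpowers_le.2 hk8) ?_
    rw [Cfsg.Agent.H858.Loc5.card_F5, Nat.card_zpowers, orderOf_pow' k (by norm_num), hok]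
    norm_num
  have hcen : ∀ y : 𝒢, y * k = k * y → y ∈ Subgroup.centralizer (F5 : Set 𝒢) := by
    intro y hy
    rw [hF5, Subgroup.mem_centralizer_iff]
    rintro _ ⟨n, rfl⟩
    have h1 : Commute y k := hy
    exact ((h1.pow_right 8).zpow_right n).eq.symm
  have hdp := Cfsg.Agent.H858.Loc5.directProduct
  obtain ⟨s, hs, i, hi, hsi⟩ := Cfsg.Agent.H860.CountDirect.exists_mul hdp (hcen k rfl)
  obtain ⟨s', hs', i', hi', hsi'⟩ := Cfsg.Agent.H860.CountDirect.exists_mul hdp (hcen e hek)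
  have hcomm : ∀ a ∈ F5, ∀ b ∈ J, Commute a b := fun a ha b hb => hdp.2.2.1 a ha b hb
  have hs5 : ∀ a ∈ F5, a ^ 5 = 1 := by
    intro a ha
    have := pow_card_eq_one' (x := (⟨a, ha⟩ : F5))
    rw [Cfsg.Agent.H858.Loc5.card_F5] at this
    exact congrArg Subtype.val this
  have hkn : ∀ n : ℕ, k ^ n = s ^ n * i ^ n := fun n => by rw [hsi, (hcomm s hs i hi).mul_pow]
  have hi8 : i ^ 8 = 1 := by
    have h1 : i ^ 8 = (s ^ 8)⁻¹ * k ^ 8 := by rw [hkn]; group
    have h2 : i ^ 8 ∈ F5 ⊓ J := Subgroup.mem_inf.2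
      ⟨by rw [h1]; exact F5.mul_mem (F5.inv_mem (F5.pow_mem hs 8)) hk8, J.pow_mem hi 8⟩
    rw [Cfsg.Agent.H858.Loc5.F5_inf, Subgroup.mem_bot] at h2
    exact h2
  have hi4 : i ^ 4 ≠ 1 := by
    intro h0
    have h1 : k ^ 20 = 1 := by
      rw [hkn, show (20 : ℕ) = 5 * 4 by norm_num, pow_mul, hs5 s hs, one_pow, one_mul, mul_comm 5 4, pow_mul, h0,
        one_pow]
    have h2 := orderOf_dvd_of_pow_eq_one h1
    rw [hok] at h2
    norm_num at h2
  have hk5 : k ^ 5 = i ^ 5 := by rw [hkn, hs5 s hs, one_mul]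
  have hi25 : i = k ^ 25 := by
    rw [show (25 : ℕ) = 5 * 5 by norm_num, pow_mul, hk5, ← pow_mul, show 5 * 5 = 8 * 3 + 1 by norm_num, pow_add,
      pow_mul, hi8, one_pow, one_mul, pow_one]
  have hii : i' * i = i * i' := by
    have h1 : Commute e i := by
      rw [hi25]
      exact Commute.pow_right (show Commute e k from hek) 25
    rw [hsi'] at h1
    have h2 : Commute s' i := hcomm s' hs' i hi
    have h3 : i' = s'⁻¹ * (s' * i') := by group
    have h4 : Commute i' i := by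
      rw [h3]
      exact (h2.inv_left).mul_left h1
    exact h4.eq
  obtain ⟨n, hn⟩ := cent_J hi hi' hi8 hi4 hii
  have hs'z : s' ∈ Subgroup.zpowers k := by
    rw [hF5] at hs'
    exact (Subgroup.zpowers_le.2 (pow_mem (Subgroup.mem_zpowers k) 8)) hs'
  have hez : e ∈ Subgroup.zpowers k := by
    rw [hsi', hn, hi25]
    exact mul_mem hs'z (pow_mem (pow_mem (Subgroup.mem_zpowers k) 25) n)
  obtain ⟨m, hm⟩ := hez
  refine ⟨m, ?_⟩
  have h1 : g * (k ^ m) * g⁻¹ = g * e * g⁻¹ := congrArg (fun y => g * y * g⁻¹) hm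
  have h2 : g * e * g⁻¹ = c := by rw [he]; group
  have h3 : g * (k ^ m) * g⁻¹ = (g * k * g⁻¹) ^ m := (conj_zpow (i := m) (a := g) (b := k)).symm
  have h4 : g * k * g⁻¹ = h := by rw [hk]; group
  rw [← h2, ← h1, h3, h4]

end Cfsg.Agent.H179.JM.JEight
end

-- part: H179/JM/UEleven
section
/-!
# S5580, Part III: one class of maximal subgroups of `J4` with socle `U₃(11)` (helper179)
-/

set_option autoImplicit false

namespace Cfsg.Agent.H179.JM.UEleven

open Cfsg Subgroup
open Cfsg.Agent.H860.JM (NL OneCl cj)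
open Cfsg.Agent.H188.Der (RO exists_ro)

local notation "𝒢" => Cfsg.Spor.J4

/-- the rank one data of a subgroup `S ≅ U₃(11)` -/
structure Std (S : Subgroup 𝒢) (U : Subgroup 𝒢) (c w : 𝒢) : Prop where
  cardU : Nat.card U = 11 ^ 3
  cN : c ∈ normalizer (U : Set 𝒢)
  oc : orderOf c = 40
  wc : w * c * w⁻¹ = (c ^ 11)⁻¹
  gen : S = U ⊔ zpowers c ⊔ zpowers w

theorem gen_of_ro {T : Type*} [Group T] {B U : Subgroup T} {c w : T} (h : RO T 11 11 40 B U c w) :
    U ⊔ zpowers c ⊔ zpowers w = ⊤ := by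
  have hB : B ≤ U ⊔ zpowers c := by
    intro b hb
    obtain ⟨u, hu, k, rfl⟩ := h.dec b hb
    exact mul_mem (mem_sup_left hu) (pow_mem (mem_sup_right (mem_zpowers c)) k)
  rw [eq_top_iff]
  intro g _
  by_cases hg : g ∈ B
  · exact mem_sup_left (hB hg)
  · obtain ⟨s, hs, h1⟩ := h.data.bruhat g hg
    have h2 : g = (s * w) * ((s * w)⁻¹ * g) := by group
    rw [h2]
    exact mul_mem (mul_mem (mem_sup_left (mem_sup_left hs)) (mem_sup_right (mem_zpowers w))) (mem_sup_left (hB h1))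

theorem exists_std {F : Type} [Field F] [Fintype F] (hF : Fintype.card F = 121) {S : Subgroup 𝒢}
    (e : S ≃* PSU 3 F 11) : ∃ (U : Subgroup 𝒢) (c w : 𝒢), Std S U c w := by
  have f11 : Fact (Nat.Prime 11) := ⟨by norm_num⟩
  have hch : CharP F 11 := by
    obtain ⟨p, hp⟩ := CharP.exists F
    have hpp : p.Prime := CharP.char_is_prime F p
    obtain ⟨n, -, hn⟩ := FiniteField.card F p
    have h1 : p ∣ 11 ^ 2 := by
      rw [show (11 : ℕ) ^ 2 = Fintype.card F by rw [hF]; norm_num, hn]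
      exact dvd_pow_self p n.ne_zero
    have h2 : p = 11 := (Nat.prime_dvd_prime_iff_eq hpp f11.out).1 (hpp.dvd_of_dvd_pow h1)
    rwa [h2] at hp
  obtain ⟨B, U, c, w, h⟩ := exists_ro (p := 11) (q := 11) (F := F) (by rw [hF]; norm_num) (by norm_num)
  rw [show ((11 : ℕ) ^ 2 - 1) / Nat.gcd 3 (11 + 1) = 40 by norm_num] at h
  set φ : PSU 3 F 11 →* 𝒢 := S.subtype.comp e.symm.toMonoidHom with hφ
  have hφi : Function.Injective φ := S.subtype_injective.comp e.symm.injective
  have hφr : (⊤ : Subgroup (PSU 3 F 11)).map φ = S := by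
    rw [hφ, ← Subgroup.map_map, Subgroup.map_top_of_surjective _ e.symm.surjective, ← MonoidHom.range_eq_map,
      S.range_subtype]
  refine ⟨U.map φ, φ c, φ w, ?_, ?_, ?_, ?_, ?_⟩
  · rw [Subgroup.card_map_of_injective hφi, h.cardU]
  · rw [mem_normalizer_iff]
    intro x
    constructor
    · rintro ⟨u, hu, rfl⟩
      exact ⟨c * u * c⁻¹, h.data.norm c h.cB u hu, by rw [map_mul, map_mul, map_inv]⟩
    · rintro ⟨u, hu, hux⟩
      have h1 := h.data.norm c⁻¹ (inv_mem h.cB) u hu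
      refine ⟨c⁻¹ * u * c⁻¹⁻¹, h1, ?_⟩
      rw [map_mul, map_mul, map_inv, map_inv, map_inv, hux]
      group
  · rw [orderOf_injective φ hφi, h.oc]
  · rw [← map_mul, ← map_inv, ← map_mul, h.wc, map_inv, map_pow]
  · rw [← hφr, ← gen_of_ro h, Subgroup.map_sup, Subgroup.map_sup, MonoidHom.map_zpowers, MonoidHom.map_zpowers]

theorem Std.conj {S U : Subgroup 𝒢} {c w : 𝒢} (h : Std S U c w) (g : 𝒢) :
    Std (cj g S) (cj g U) (g * c * g⁻¹) (g * w * g⁻¹) where
  cardU := by rw [Cfsg.Agent.H860.JM.card_cj, h.cardU]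
  cN := by
    rw [Cfsg.Agent.H860.JM.normalizer_cj]
    exact ⟨c, h.cN, rfl⟩
  oc := by
    have : g * c * g⁻¹ = MulAut.conj g c := by rw [MulAut.conj_apply]
    rw [this, (MulAut.conj g).orderOf_eq, h.oc]
  wc := by
    have h1 : g * w * g⁻¹ * (g * c * g⁻¹) * (g * w * g⁻¹)⁻¹ = g * (w * c * w⁻¹) * g⁻¹ := by group
    rw [h1, h.wc, Forty.conj_pow']
    group
  gen := by
    rw [h.gen]
    show Subgroup.map _ _ = _
    rw [Subgroup.map_sup, Subgroup.map_sup, MonoidHom.map_zpowers, MonoidHom.map_zpowers]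
    rfl

instance simple_J4 : IsSimpleGroup 𝒢 := Cfsg.Agent.S1703.result.1

/-- `U` and `⟨c⟩` given -/
theorem eq_of_zpowers {S S' U : Subgroup 𝒢} {c c' w w' : 𝒢} (h : Std S U c w) (h' : Std S' U c' w')
    (hc : c' ∈ zpowers c) : S' = S := by
  have hz : zpowers c' = zpowers c := by
    refine Subgroup.eq_of_le_of_card_ge (zpowers_le.2 hc) ?_
    rw [Nat.card_zpowers, Nat.card_zpowers, h.oc, h'.oc]
  have hc2 : c ∈ zpowers c' := by rw [hz]; exact mem_zpowers c
  obtain ⟨m, hm⟩ := hc2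
  have hm' : c' ^ m = c := hm
  have h1 : w' * c * w'⁻¹ = (c ^ 11)⁻¹ := by
    rw [← hm', ← conj_zpow, h'.wc, inv_zpow, ← zpow_natCast, ← zpow_natCast, ← zpow_mul, ← zpow_mul, mul_comm]
  have h2 : w * c * w⁻¹ = w' * c * w'⁻¹ := by rw [h.wc, h1]
  have h3 : (w⁻¹ * w') * c = c * (w⁻¹ * w') := by
    calc (w⁻¹ * w') * c = w⁻¹ * (w' * c * w'⁻¹) * w' := by group
      _ = w⁻¹ * (w * c * w⁻¹) * w' := by rw [h2]
      _ = c * (w⁻¹ * w') := by group
  have h4 := JEight.cent_forty h.oc h3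
  rw [h'.gen, h.gen, hz]
  apply le_antisymm
  · refine sup_le le_sup_left (zpowers_le.2 ?_)
    have h5 : w' = w * (w⁻¹ * w') := by group
    rw [h5]
    exact mul_mem (mem_sup_right (mem_zpowers w)) (mem_sup_left (mem_sup_right h4))
  · refine sup_le le_sup_left (zpowers_le.2 ?_)
    have h5 : w = w' * (w⁻¹ * w')⁻¹ := by group
    rw [h5]
    exact mul_mem (mem_sup_right (mem_zpowers w')) (inv_mem (mem_sup_left (mem_sup_right h4)))

theorem exists_cj_of_std {S S' U U' : Subgroup 𝒢} {c c' w w' : 𝒢} (h : Std S U c w) (h' : Std S' U' c' w') :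
    ∃ g : 𝒢, S = cj g S' := by
  have f11 : Fact (Nat.Prime 11) := ⟨by norm_num⟩
  have hidx : ∀ {V : Subgroup 𝒢}, Nat.card V = 11 ^ 3 → ¬ 11 ∣ V.index := by
    intro V hV hd
    obtain ⟨j, hj⟩ := hd
    have h2 := V.card_mul_index
    rw [hV, Cfsg.Agent.H858.FixJ4.card_J4, hj] at h2
    omega
  have hpg : ∀ {V : Subgroup 𝒢}, Nat.card V = 11 ^ 3 → IsPGroup 11 V := fun hV => IsPGroup.of_card hV
  obtain ⟨g, hg⟩ := MulAction.exists_smul_eq 𝒢 ((hpg h'.cardU).toSylow (hidx h'.cardU))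
    ((hpg h.cardU).toSylow (hidx h.cardU))
  have hg2 : cj g U' = U := congrArg (fun P : Sylow 11 𝒢 => (P : Subgroup 𝒢)) hg
  have h1 := h'.conj g
  rw [hg2] at h1
  obtain ⟨-, -, -, hN, K, hK, ⟨e⟩⟩ := Cfsg.Agent.S5575.result Cfsg.Agent.H860.JM.nonab Cfsg.Agent.H860.JM.isJ
    ((hpg h.cardU).toSylow (hidx h.cardU))
  obtain ⟨n, hn, hn2⟩ := Forty.conj_forty_in (N := normalizer (U : Set 𝒢)) hN hK e h.cN h1.cN h.oc h1.oc
  have h2 := h1.conj n
  have hnU : cj n U = U := Cfsg.Agent.H860.JM.cj_eq_iff.2 hn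
  rw [hnU] at h2
  refine ⟨n * g, ?_⟩
  rw [← Cfsg.Agent.H860.JM.cj_cj]
  exact (eq_of_zpowers h h2 hn2).symm

/-! ### maximal subgroups -/

theorem normalizer_ne_top {S : Subgroup 𝒢} (h1 : S ≠ ⊥) (h2 : S ≠ ⊤) : normalizer (S : Set 𝒢) ≠ ⊤ := by
  intro h
  have hn : S.Normal := normalizer_eq_top_iff.1 h
  rcases hn.eq_bot_or_eq_top with h3 | h3
  · exact h1 h3
  · exact h2 h3

theorem eq_normalizer {M S : Subgroup 𝒢} (hN : NL M S) : M = normalizer (S : Set 𝒢) := by
  by_contra h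
  refine normalizer_ne_top ?_ ?_ (hN.coatom.2 _ (lt_of_le_of_ne hN.norm h))
  · intro h
    apply hN.nab
    subst h
    exact ⟨⟨fun a b => Subsingleton.elim _ _⟩⟩
  · intro h
    exact hN.coatom.1 (top_le_iff.1 (h ▸ hN.le))

/-- **S5580, Part III, `U₃(11)`**: the maximal subgroups of `J4` with socle `U₃(11)` form one class -/
theorem one_U311 {F : Type} [Field F] [Fintype F] (h : Fintype.card F = 121) : OneCl (Cfsg.PSU 3 F 11) := by
  rintro M S M' S' hN hN' ⟨e⟩ ⟨e'⟩
  obtain ⟨U, c, w, h1⟩ := exists_std h e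
  obtain ⟨U', c', w', h2⟩ := exists_std h e'
  obtain ⟨g, hg⟩ := exists_cj_of_std h2 h1
  refine ⟨g, ?_⟩
  rw [eq_normalizer hN', eq_normalizer hN, ← Cfsg.Agent.H860.JM.normalizer_cj, ← hg]

end Cfsg.Agent.H179.JM.UEleven
end

private theorem dce_55bee6ae46c5 : _root_.True := by
  try have : _root_.True := by simp only [_root_.Cfsg.Agent.H858.Loc5.J.eq_1]
  try have : _root_.True := by simp only [_root_.Cfsg.Agent.H179.JM.GLThree.chk.eq_1]
  try have : _root_.True := by simp only [_root_.Cfsg.Agent.H382.JM.L52.X.eq_1]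
  try have : _root_.True := by simp only [_root_.Cfsg.Agent.H382.JM.L52.C.eq_1]
  exact _root_.True.intro
end
end
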