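import Cfsg.Agent.H831.JM.Cent_m3
import Cfsg.Agent.H856.JM.Comm_m3
import Cfsg.Agent.H68.JM.Vec_m3
import Cfsg.Agent.H875.FnIso_m3
import Cfsg.Agent.ClassicalGeometry.PSL2Basic
import Cfsg.Agent.FastGrp
import Cfsg.Agent.Prune
set_option linter.all false
prune_inst 0x7f00000000000000000000000000000000000000000000000000000000000000000000000000000000000000000000000000000000000000000000000000000000000000000000000000000000000000003fffffffffffffffffffffffffffbeffbdffffffff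
open scoped Cfsg.Agent.FastGrp

-- part: H831/JM/TList
section
/-!
# The involutions inverting `f` (helper831): the check
-/

set_option autoImplicit false
set_option Elab.async false

open Cfsg

namespace Cfsg.Agent.H831.JM.TCheck

open Cfsg.Agent.H831.JM.FmJ

/-- further program: `f⁻ᵃ uA fᵃ r²`, `f⁻ᵃ uB fᵃ r²`, `1` -/
def ws1 : List (List ℕ) := [
  [18, 17],
  [34, 34, 34, 34, 19, 34, 18],
  [35, 35, 35, 20, 35, 35, 19],
  [36, 36, 21, 36, 36, 36, 20],
  [37, 22, 37, 37, 37, 37, 21],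
  [26, 22],
  [39, 39, 39, 39, 27, 39, 23],
  [40, 40, 40, 28, 40, 40, 24],
  [41, 41, 29, 41, 41, 41, 25],
  [42, 30, 42, 42, 42, 42, 26],
  []]

/-- the formula -/
def fm1 : Fm := .or (.ne [0, 0] []) (
  .and (
    .bind [11, 0] (.ne [0, 0, 0] [])) (.and (
    .bind [10, 0] (.ne [0, 0, 0] [])) (.and (
    .or (.eq [0] [1]) (.bind [9, 0] (.ne [0, 0, 0] []))) (.and (
    .bind [8, 0] (.ne [0, 0, 0] [])) (.and (
    .bind [7, 0] (.ne [0, 0, 0] [])) (.and (
    .bind [6, 0] (.ne [0, 0, 0] [])) (.and (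
    .or (.eq [0] [20]) (.bind [5, 0] (.ne [0, 0, 0] []))) (.and (
    .bind [4, 0] (.ne [0, 0, 0] [])) (.and (
    .or (.eq [0] [24]) (.or (.eq [0] [23]) (.or (.eq [0] [22]) (.or (.eq [0] [21]) (.bind [3, 0] (.ne [0, 0, 0] [])))))) (
    .bind [2, 0] (.ne [0, 0, 0] [])))))))))))


theorem check1 : ∀ x ∈ Cfsg.Agent.H858.Loc5.J, Mean fm1 (x :: EY ws1) :=
  all_JF (by decide +kernel)

end Cfsg.Agent.H831.JM.TCheck

/-!
# The involutions inverting `f` with `(u t)³ = 1` (helper831)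
-/


open Cfsg

namespace Cfsg.Agent.H831.JM.TList

open Cfsg.Agent.Lib Cfsg.Agent.Lib.F2Mat Cfsg.Agent.Lib.F2MatGroup
open Cfsg.Agent.J4.Rep112
open Cfsg.Agent.H858 Cfsg.Agent.H858.VK Cfsg.Agent.H858.Data Cfsg.Agent.H858.Elem
open Cfsg.Agent.H831.JM.EnvData Cfsg.Agent.H831.JM.Env Cfsg.Agent.H831.JM.JList
open Cfsg.Agent.H831.JM.Pair Cfsg.Agent.H831.JM.Point Cfsg.Agent.H831.JM.FmJ Cfsg.Agent.H831.JM.Cent
open Cfsg.Agent.H831.JM.TCheck

local notation "𝒢" => Cfsg.Spor.J4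

theorem f5' : f * (f * (f * (f * f))) = 1 := by
  have h := f_pow
  simpa only [pow_succ, pow_zero, one_mul, mul_assoc] using h

theorem inv0 : (f ^ 0)⁻¹ = (1 : 𝒢) := by rw [pow_zero, inv_one]
theorem inv1 : (f ^ 1)⁻¹ = f * (f * (f * f)) := by
  rw [pow_one, inv_eq_iff_mul_eq_one]; exact f5'
theorem inv2 : (f ^ 2)⁻¹ = f * (f * f) := by
  rw [inv_eq_iff_mul_eq_one, pow_two, mul_assoc]; exact f5'
theorem inv3 : (f ^ 3)⁻¹ = f * f := by
  rw [inv_eq_iff_mul_eq_one, pow_succ, pow_two, mul_assoc, mul_assoc]; exact f5'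
theorem inv4 : (f ^ 4)⁻¹ = f := by
  rw [inv_eq_iff_mul_eq_one, ← pow_succ]; exact f_pow

theorem PA0 : getG (EY ws1) 10 = (f ^ 0)⁻¹ * uA * f ^ 0 * R := by
  have h := EY_at' ws1 0 [18, 17] 10 (by decide) (by decide) (by decide)
  simp only [evG_cons, evG_nil, mul_one] at h
  rw [inv0, ← e_f]
  simpa only [pow_succ, pow_zero, one_mul, mul_assoc] using h

theorem PA1 : getG (EY ws1) 9 = (f ^ 1)⁻¹ * uA * f ^ 1 * R := by
  have h := EY_at' ws1 1 [33, 33, 33, 33, 18, 33, 17] 9 (by decide) (by decide) (by decide)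
  simp only [evG_cons, evG_nil, mul_one] at h
  rw [inv1, ← e_f]
  simpa only [pow_succ, pow_zero, one_mul, mul_assoc] using h

theorem PA2 : getG (EY ws1) 8 = (f ^ 2)⁻¹ * uA * f ^ 2 * R := by
  have h := EY_at' ws1 2 [33, 33, 33, 18, 33, 33, 17] 8 (by decide) (by decide) (by decide)
  simp only [evG_cons, evG_nil, mul_one] at h
  rw [inv2, ← e_f]
  simpa only [pow_succ, pow_zero, one_mul, mul_assoc] using h

theorem PA3 : getG (EY ws1) 7 = (f ^ 3)⁻¹ * uA * f ^ 3 * R := by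
  have h := EY_at' ws1 3 [33, 33, 18, 33, 33, 33, 17] 7 (by decide) (by decide) (by decide)
  simp only [evG_cons, evG_nil, mul_one] at h
  rw [inv3, ← e_f]
  simpa only [pow_succ, pow_zero, one_mul, mul_assoc] using h

theorem PA4 : getG (EY ws1) 6 = (f ^ 4)⁻¹ * uA * f ^ 4 * R := by
  have h := EY_at' ws1 4 [33, 18, 33, 33, 33, 33, 17] 6 (by decide) (by decide) (by decide)
  simp only [evG_cons, evG_nil, mul_one] at h
  rw [inv4, ← e_f]
  simpa only [pow_succ, pow_zero, one_mul, mul_assoc] using h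

theorem PB0 : getG (EY ws1) 5 = (f ^ 0)⁻¹ * uB * f ^ 0 * R := by
  have h := EY_at' ws1 5 [21, 17] 5 (by decide) (by decide) (by decide)
  simp only [evG_cons, evG_nil, mul_one] at h
  rw [inv0, ← e_f]
  simpa only [pow_succ, pow_zero, one_mul, mul_assoc] using h

theorem PB1 : getG (EY ws1) 4 = (f ^ 1)⁻¹ * uB * f ^ 1 * R := by
  have h := EY_at' ws1 6 [33, 33, 33, 33, 21, 33, 17] 4 (by decide) (by decide) (by decide)
  simp only [evG_cons, evG_nil, mul_one] at h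
  rw [inv1, ← e_f]
  simpa only [pow_succ, pow_zero, one_mul, mul_assoc] using h

theorem PB2 : getG (EY ws1) 3 = (f ^ 2)⁻¹ * uB * f ^ 2 * R := by
  have h := EY_at' ws1 7 [33, 33, 33, 21, 33, 33, 17] 3 (by decide) (by decide) (by decide)
  simp only [evG_cons, evG_nil, mul_one] at h
  rw [inv2, ← e_f]
  simpa only [pow_succ, pow_zero, one_mul, mul_assoc] using h

theorem PB3 : getG (EY ws1) 2 = (f ^ 3)⁻¹ * uB * f ^ 3 * R := by
  have h := EY_at' ws1 8 [33, 33, 21, 33, 33, 33, 17] 2 (by decide) (by decide) (by decide)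
  simp only [evG_cons, evG_nil, mul_one] at h
  rw [inv3, ← e_f]
  simpa only [pow_succ, pow_zero, one_mul, mul_assoc] using h

theorem PB4 : getG (EY ws1) 1 = (f ^ 4)⁻¹ * uB * f ^ 4 * R := by
  have h := EY_at' ws1 9 [33, 21, 33, 33, 33, 33, 17] 1 (by decide) (by decide) (by decide)
  simp only [evG_cons, evG_nil, mul_one] at h
  rw [inv4, ← e_f]
  simpa only [pow_succ, pow_zero, one_mul, mul_assoc] using h

theorem P1 : getG (EY ws1) 0 = 1 := EY_at' ws1 10 [] 0 (by decide) (by decide) (by decide)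

/-- the product in the group generated -/
theorem cube {U y : 𝒢} {a : ℕ} (h : (U * (f ^ a * (R * y) * (f ^ a)⁻¹)) ^ 3 = 1) :
    ((f ^ a)⁻¹ * U * f ^ a * R * y) ^ 3 = 1 := by
  have e1 : (f ^ a)⁻¹ * U * f ^ a * R * y =
      (f ^ a)⁻¹ * (U * (f ^ a * (R * y) * (f ^ a)⁻¹)) * ((f ^ a)⁻¹)⁻¹ := by group
  rw [e1, conj_pow, h]
  group

theorem T0_eq : e 7 = f ^ 2 * (R * 1) * (f ^ 2)⁻¹ := by
  have h := eqY (p := ([7], [33, 33, 17, 33, 33, 33])) (by decide +kernel)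
  simp only [evG_cons, evG_nil, mul_one] at h
  rw [inv2, ← e_f]
  simpa only [pow_succ, pow_zero, one_mul, mul_one, mul_assoc] using h

theorem T1_eq : e 6 = f ^ 3 * (R * e 12) * (f ^ 3)⁻¹ := by
  have h := eqY (p := ([6], [33, 33, 33, 17, 12, 33, 33])) (by decide +kernel)
  simp only [evG_cons, evG_nil, mul_one] at h
  rw [inv3, ← e_f]
  simpa only [pow_succ, pow_zero, one_mul, mul_one, mul_assoc] using h

theorem T2_eq : e 5 = f ^ 3 * (R * e 11) * (f ^ 3)⁻¹ := by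
  have h := eqY (p := ([5], [33, 33, 33, 17, 11, 33, 33])) (by decide +kernel)
  simp only [evG_cons, evG_nil, mul_one] at h
  rw [inv3, ← e_f]
  simpa only [pow_succ, pow_zero, one_mul, mul_one, mul_assoc] using h

theorem T3_eq : e 4 = f ^ 3 * (R * e 10) * (f ^ 3)⁻¹ := by
  have h := eqY (p := ([4], [33, 33, 33, 17, 10, 33, 33])) (by decide +kernel)
  simp only [evG_cons, evG_nil, mul_one] at h
  rw [inv3, ← e_f]
  simpa only [pow_succ, pow_zero, one_mul, mul_one, mul_assoc] using h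

theorem T4_eq : e 3 = f ^ 3 * (R * e 9) * (f ^ 3)⁻¹ := by
  have h := eqY (p := ([3], [33, 33, 33, 17, 9, 33, 33])) (by decide +kernel)
  simp only [evG_cons, evG_nil, mul_one] at h
  rw [inv3, ← e_f]
  simpa only [pow_succ, pow_zero, one_mul, mul_one, mul_assoc] using h

theorem T5_eq : e 2 = f ^ 1 * (R * e 8) * (f ^ 1)⁻¹ := by
  have h := eqY (p := ([2], [33, 17, 8, 33, 33, 33, 33])) (by decide +kernel)
  simp only [evG_cons, evG_nil, mul_one] at h
  rw [inv1, pow_one, ← e_f]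
  simpa only [pow_succ, pow_zero, one_mul, mul_one, mul_assoc] using h

theorem sh (y : 𝒢) (i : ℕ) : getG (y :: EY ws1) (12 + i) = e i := by
  have h : getG (y :: EY ws1) (12 + i) = getG (EY ws1) (ws1.length + i) := by
    rw [show 12 + i = (ws1.length + i) + 1 by rw [show ws1.length = 11 from rfl]; omega]
    rfl
  rw [h, EY_shift]

theorem c1 (y : 𝒢) (i : ℕ) : getG (y :: EY ws1) (i + 1) = getG (EY ws1) i := rfl
theorem c0 (y : 𝒢) (L : List 𝒢) : getG (y :: L) 0 = y := rfl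

/-- **the list for `uA` and `uB`** -/
theorem t_list {t' : 𝒢} (ht : t' * t' = 1) (htf : t' * f * t'⁻¹ = f⁻¹) :
    ((uA * t') ^ 3 = 1 → t' = e 7) ∧
    ((uB * t') ^ 3 = 1 → t' = e 6 ∨ t' = e 5 ∨ t' = e 4 ∨ t' = e 3 ∨ t' = e 2) := by
  obtain ⟨a, ha, y, hy, hyy, rfl⟩ := inv_f ht htf
  have h := check1 y hy
  simp only [fm1, Mean, evG_cons, evG_nil, mul_one, ne_eq] at h
  rw [c1 y 10, c1 y 9, c1 y 8, c1 y 7, c1 y 6, c1 y 5, c1 y 4, c1 y 3, c1 y 2, c1 y 1, c1 y 0] at h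
  simp only [c0] at h
  rw [show getG (y :: EY ws1) 20 = e 8 from sh y 8, show getG (y :: EY ws1) 24 = e 12 from sh y 12,
    show getG (y :: EY ws1) 23 = e 11 from sh y 11, show getG (y :: EY ws1) 22 = e 10 from sh y 10,
    show getG (y :: EY ws1) 21 = e 9 from sh y 9] at h
  simp only [← pow_three] at h
  rw [PA0, PA1, PA2, PA3, PA4, PB0, PB1, PB2, PB3, PB4, P1] at h
  rcases h with h | ⟨hA0, hA1, hA2, hA3, hA4, hB0, hB1, hB2, hB3, hB4⟩
  · exact absurd hyy h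
  · constructor
    · intro h1
      have h2 := cube h1
      interval_cases a
      · exact absurd h2 hA0
      · exact absurd h2 hA1
      · rcases hA2 with h3 | h3
        · rw [h3, T0_eq]
        · exact absurd h2 h3
      · exact absurd h2 hA3
      · exact absurd h2 hA4
    · intro h1
      have h2 := cube h1
      interval_cases a
      · exact absurd h2 hB0
      · rcases hB1 with h3 | h3
        · right; right; right; right
          rw [h3, T5_eq]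
        · exact absurd h2 h3
      · exact absurd h2 hB2
      · rcases hB3 with h3 | h3 | h3 | h3 | h3
        · left; rw [h3, T1_eq]
        · right; left; rw [h3, T2_eq]
        · right; right; left; rw [h3, T3_eq]
        · right; right; right; left; rw [h3, T4_eq]
        · exact absurd h2 h3
      · exact absurd h2 hB4

/-! ### The normal form -/

theorem z_uB : e 16 * uB * (e 16)⁻¹ = uB := by
  have h := eqY (p := ([16, 21], [21, 16])) (by decide +kernel)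
  simp only [evG_cons, evG_nil, mul_one] at h
  rw [h, mul_inv_cancel_right]

theorem z_f : e 16 * f * (e 16)⁻¹ = f := by
  have h := eqY (p := ([16, 33], [33, 16])) (by decide +kernel)
  simp only [evG_cons, evG_nil, mul_one] at h
  rw [← e_f, h, mul_inv_cancel_right]

theorem z_T2 : e 16 * e 5 * (e 16)⁻¹ = e 6 := by
  have h := eqY (p := ([16, 5], [6, 16])) (by decide +kernel)
  simp only [evG_cons, evG_nil, mul_one] at h
  rw [h, mul_inv_cancel_right]

theorem z_T4 : e 16 * e 3 * (e 16)⁻¹ = e 4 := by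
  have h := eqY (p := ([16, 3], [4, 16])) (by decide +kernel)
  simp only [evG_cons, evG_nil, mul_one] at h
  rw [h, mul_inv_cancel_right]

/-- **the triples `(u, f, t)`** -/
theorem triple {u' f' t' : 𝒢} (hu : u' ^ 11 = 1) (hu1 : u' ≠ 1) (hf : f' ^ 5 = 1) (hfu : f' * u' * f'⁻¹ = u' ^ 3)
    (ht : t' * t' = 1) (htf : t' * f' * t'⁻¹ = f'⁻¹) (hut : (u' * t') ^ 3 = 1) :
    ∃ g : 𝒢, g * f' * g⁻¹ = f ∧ ((g * u' * g⁻¹ = uA ∧ g * t' * g⁻¹ = e 7) ∨
      (g * u' * g⁻¹ = uB ∧ (g * t' * g⁻¹ = e 6 ∨ g * t' * g⁻¹ = e 4 ∨ g * t' * g⁻¹ = e 2))) := by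
  obtain ⟨g, hg, h⟩ := pair hf hu hu1 hfu
  have h1 : g * t' * g⁻¹ * (g * t' * g⁻¹) = 1 := by
    have e1 : g * t' * g⁻¹ * (g * t' * g⁻¹) = g * (t' * t') * g⁻¹ := by group
    rw [e1, ht]; group
  have h2 : g * t' * g⁻¹ * f * (g * t' * g⁻¹)⁻¹ = f⁻¹ := by
    rw [← hg]
    have e1 : g * t' * g⁻¹ * (g * f' * g⁻¹) * (g * t' * g⁻¹)⁻¹ = g * (t' * f' * t'⁻¹) * g⁻¹ := by group
    rw [e1, htf]; group
  have h3 : (g * u' * g⁻¹ * (g * t' * g⁻¹)) ^ 3 = 1 := by
    have e1 : g * u' * g⁻¹ * (g * t' * g⁻¹) = g * (u' * t') * g⁻¹ := by group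
    rw [e1, conj_pow, hut]; group
  obtain ⟨hA, hB⟩ := t_list h1 h2
  rcases h with h | h
  · rw [h] at h3
    exact ⟨g, hg, Or.inl ⟨h, hA h3⟩⟩
  · rw [h] at h3
    have key : ∀ a b : 𝒢, g * t' * g⁻¹ = a → e 16 * a * (e 16)⁻¹ = b →
        e 16 * g * f' * (e 16 * g)⁻¹ = f ∧ e 16 * g * u' * (e 16 * g)⁻¹ = uB ∧ e 16 * g * t' * (e 16 * g)⁻¹ = b := by
      intro a b ha hb
      refine ⟨?_, ?_, ?_⟩
      · have e1 : e 16 * g * f' * (e 16 * g)⁻¹ = e 16 * (g * f' * g⁻¹) * (e 16)⁻¹ := by group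
        rw [e1, hg, z_f]
      · have e1 : e 16 * g * u' * (e 16 * g)⁻¹ = e 16 * (g * u' * g⁻¹) * (e 16)⁻¹ := by group
        rw [e1, h, z_uB]
      · have e1 : e 16 * g * t' * (e 16 * g)⁻¹ = e 16 * (g * t' * g⁻¹) * (e 16)⁻¹ := by group
        rw [e1, ha, hb]
    rcases hB h3 with h4 | h4 | h4 | h4 | h4
    · exact ⟨g, hg, Or.inr ⟨h, Or.inl h4⟩⟩
    · obtain ⟨k1, k2, k3⟩ := key _ _ h4 z_T2
      exact ⟨e 16 * g, k1, Or.inr ⟨k2, Or.inl k3⟩⟩
    · exact ⟨g, hg, Or.inr ⟨h, Or.inr (Or.inl h4)⟩⟩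
    · obtain ⟨k1, k2, k3⟩ := key _ _ h4 z_T4
      exact ⟨e 16 * g, k1, Or.inr ⟨k2, Or.inr (Or.inl k3)⟩⟩
    · exact ⟨g, hg, Or.inr ⟨h, Or.inr (Or.inr h4)⟩⟩

end Cfsg.Agent.H831.JM.TList
end

-- part: H831/JM/VList
section
/-!
# Square roots of the involutions inverting `f` (helper831): the check
-/

set_option autoImplicit false
set_option Elab.async false

open Cfsg

namespace Cfsg.Agent.H831.JM.VCheck

open Cfsg.Agent.H831.JM.FmJ Cfsg.Agent.H831.JM.EnvData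

/-- further program: `f⁻² uA f²`, `f⁻³ uB f³`, `f⁻¹ uB f`, `r² y₁`, `r² y₃`, `r² y₅` -/
def ws2 : List (List ℕ) := [
  [33, 33, 33, 18, 33, 33],
  [34, 34, 22, 34, 34, 34],
  [35, 35, 35, 35, 23, 35],
  [20, 15],
  [21, 14],
  [22, 13]]

/-- no relation of length 7 or 8 -/
def n78 : Fm := .and (.ne [0, 0, 0, 0, 0, 0, 0] []) (.ne [0, 0, 0, 0, 0, 0, 0, 0] [])

/-- the formula -/
def fm2 : Fm := .bind [39, 0] (.bind [0, 0] (
  .and (.or (.ne [0] [26]) (.bind [8, 1] n78)) (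
  .and (.or (.ne [0] [5]) (.or (.vec pB [1]) (.bind [7, 1] n78))) (
  .and (.or (.ne [0] [4]) (.or (.vec pB [1]) (.or (.eq [2] [10]) (.bind [7, 1] n78)))) (
    .or (.ne [0] [3]) (.or (.vec pB [1]) (.bind [6, 1] n78)))))))


section
open Cfsg.Agent.Lib Cfsg.Agent.Lib.F2Mat Cfsg.Agent.Lib.F2MatGroup Cfsg.Agent.J4.Rep112
open Cfsg.Agent.H858 Cfsg.Agent.H858.VK Cfsg.Agent.H858.Data Cfsg.Agent.H858.Elem
open Cfsg.Agent.H831.JM.Tree Cfsg.Agent.H831.JM.Env Cfsg.Agent.H831.JM.JList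

private noncomputable def hlfT (s : Bool) (T : BT) : BT :=
  BT.rec (motive := fun _ => BT) .o (fun t _ => .l t) (fun t _ => .r t) (fun t u _ _ => cond s (.l t) (.r u)) T

private theorem allBF_hlfT {f : ℕ → ℕ → ℕ} {A B : ℕ} {test : ℕ → Bool} {T : BT} {M : ℕ}
    (h1 : allBF f A B test (hlfT true T) M = true) (h2 : allBF f A B test (hlfT false T) M = true) :
    allBF f A B test T M = true := by
  cases T with
  | o => exact h1
  | l t => exact h1
  | r t => exact h1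
  | b t u =>
    obtain ⟨a1, a2⟩ := condf (show cond (test M) (force (f M A) (allBF f A B test t)) false = true from h1)
    obtain ⟨-, a3⟩ := condf (show cond (test M) (force (f M B) (allBF f A B test u)) false = true from h2)
    show cond (test M) (cond (force (f M A) (allBF f A B test t)) (force (f M B) (allBF f A B test u)) false) false = true
    rw [a1, a2, a3]
    rfl

private theorem runF_twoT {e : List ℕ → List ℕ → ℕ} {k1 k2 k : List ℕ → Bool}
    (h : ∀ L, k1 L = true → k2 L = true → k L = true) (ws : List (List ℕ)) :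
    ∀ L, Lib.F112.runF e ws L k1 = true → Lib.F112.runF e ws L k2 = true → Lib.F112.runF e ws L k = true := by
  induction ws with
  | nil => exact h
  | cons w ws ih =>
    intro L h1 h2
    have e1 : ∀ k, Lib.F112.runF e (w :: ws) L k = Lib.F112.runF e ws (e L w :: L) k := fun k =>
      force_eq (e L w) fun v => Lib.F112.runF e ws (v :: L) k
    rw [e1] at h1 h2 ⊢
    exact ih _ h1 h2

private noncomputable def chkHT (T : BT) (ws : List (List ℕ)) (φ : Fm) : Bool :=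
  Lib.F112.runF (Lib.F112.evF Lib.F112.ml) (slpAll ++ ws) codes fun L => force (get (F2Mat.one 112) L (ws.length + 39)) fun A =>
    force (get (F2Mat.one 112) L (ws.length + 30)) fun B => allBF Lib.F112.ml A B
      (fun X => evBF Lib.F112.vm (Lib.F112.evF Lib.F112.ml) (Lib.F112.eqW Lib.F112.vm (Lib.F112.evF Lib.F112.ml)) φ (X :: L)) T (F2Mat.one 112)

private theorem chk_twoT {ws : List (List ℕ)} {φ : Fm} (h1 : chkHT (hlfT true tJ) ws φ = true)
    (h2 : chkHT (hlfT false tJ) ws φ = true) : chkJF ws φ = true := by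
  delta chkHT at h1 h2
  delta chkJF
  generalize tJ = T at h1 h2 ⊢
  generalize F2Mat.one 112 = E at h1 h2 ⊢
  generalize Lib.F112.ml = f at h1 h2 ⊢
  generalize slpAll ++ ws = W at h1 h2 ⊢
  generalize codes = C at h1 h2 ⊢
  refine runF_twoT (fun L a b => ?_) W C h1 h2
  simp only [force_eq] at a b ⊢
  exact allBF_hlfT a b

private theorem check2_p0 : chkHT (hlfT true tJ) ws2 fm2 = true := by decide +kernel

private theorem check2_p1 : chkHT (hlfT false tJ) ws2 fm2 = true := by decide +kernel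

end

theorem check2 : ∀ x ∈ Cfsg.Agent.H858.Loc5.J, Mean fm2 (x :: EY ws2) :=
  all_JF (chk_twoT check2_p0 check2_p1)

end Cfsg.Agent.H831.JM.VCheck

/-!
# Square roots of the involutions inverting `f` (helper831)
-/


open Cfsg

namespace Cfsg.Agent.H831.JM.VList

open Cfsg.Agent.Lib Cfsg.Agent.Lib.F2Mat Cfsg.Agent.Lib.F2MatGroup
open Cfsg.Agent.J4.Rep112 Cfsg.Agent.J4.Pres
open Cfsg.Agent.H858 Cfsg.Agent.H858.VK Cfsg.Agent.H858.Data Cfsg.Agent.H858.Elem
open Cfsg.Agent.H831.JM.Tree Cfsg.Agent.H831.JM.EnvData Cfsg.Agent.H831.JM.Env Cfsg.Agent.H831.JM.JList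
open Cfsg.Agent.H831.JM.Pair Cfsg.Agent.H831.JM.Point Cfsg.Agent.H831.JM.FmJ Cfsg.Agent.H831.JM.Cent
open Cfsg.Agent.H831.JM.VCheck Cfsg.Agent.H831.JM.TList

local notation "𝒢" => Cfsg.Spor.J4

/-! ### Constants -/

theorem all_E {φ : Fm} (h : run 112 slpAll codes (evB φ) = true) : Mean φ LY := by
  obtain ⟨L', h', hk⟩ := codesY h
  exact sound_fm h' hk

/-- constants in `MB`, `r j r⁻¹ ∈ J`, and the elements `Y_i` of `J` -/
def fm0 : Fm := .and (.vec pB [33]) (.and (.vec pB [21]) (.and (.vec pB [6]) (.and (.vec pB [4]) (.and (.vec pB [2])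
  (.and (.eq [32, 30] [39, 30, 39, 30, 39, 30, 39, 30, 30, 32])
  (.and (.eq [12] [30, 39, 39, 30, 39, 30, 30]) (.and (.eq [10] [39, 39, 39, 39, 30, 39, 39, 39, 39, 30])
  (.and (.eq [8] [30, 39, 30, 39, 30, 30, 39, 39, 39, 30])
  (.and (.eq [21, 0, 21, 0, 21, 0, 21, 0, 21, 0, 21, 0, 21, 0] []) (.ne [21, 0] []))))))))))

theorem check0 : run 112 slpAll codes (evB fm0) = true := by
  rw [Lib.F112.run_eq, evB_eq]
  decide +kernel

theorem const_all : f ∈ MB ∧ uB ∈ MB ∧ e 6 ∈ MB ∧ e 4 ∈ MB ∧ e 2 ∈ MB ∧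
    e 32 * e 30 = e 39 * (e 30 * (e 39 * (e 30 * (e 39 * (e 30 * (e 39 * (e 30 * (e 30 * e 32)))))))) ∧
    e 12 = e 30 * (e 39 * (e 39 * (e 30 * (e 39 * (e 30 * e 30))))) ∧
    e 10 = e 39 * (e 39 * (e 39 * (e 39 * (e 30 * (e 39 * (e 39 * (e 39 * (e 39 * e 30)))))))) ∧
    e 8 = e 30 * (e 39 * (e 30 * (e 39 * (e 30 * (e 30 * (e 39 * (e 39 * (e 39 * e 30)))))))) ∧
    uB * (e 0 * (uB * (e 0 * (uB * (e 0 * (uB * (e 0 * (uB * (e 0 * (uB * (e 0 * (uB * e 0)))))))))))) = 1 ∧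
    uB * e 0 ≠ 1 := by
  have h := all_E check0
  simp only [fm0, Mean, evG_cons, evG_nil, mul_one] at h
  rw [← e_f]
  exact h

theorem f_MB : f ∈ MB := const_all.1
theorem uB_MB : uB ∈ MB := const_all.2.1

/-! ### The group `J` is normalized by `r` -/

theorem r_s : r * s * r⁻¹ = s := by rw [r_mul_s, mul_inv_cancel_right]

theorem r_j : r * j * r⁻¹ ∈ Loc5.J := by
  have h := const_all.2.2.2.2.2.1
  rw [e_r, e_j, e_s] at h
  have e1 : r * j * r⁻¹ = s * (j * (s * (j * (s * (j * (s * (j * j))))))) := by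
    rw [h]; group
  rw [e1]
  have hs := Loc5.s_mem
  have hj := Loc5.j_mem
  exact mul_mem hs (mul_mem hj (mul_mem hs (mul_mem hj (mul_mem hs (mul_mem hj (mul_mem hs (mul_mem hj hj)))))))

theorem r_norm {y : 𝒢} (hy : y ∈ Loc5.J) : r⁻¹ * y * r ∈ Loc5.J := by
  have h1 : Loc5.J.map (MulAut.conj r).toMonoidHom ≤ Loc5.J := by
    conv_lhs => unfold Loc5.J
    rw [MonoidHom.map_closure, Subgroup.closure_le]
    rintro _ ⟨z, rfl | rfl, rfl⟩
    · show r * s * r⁻¹ ∈ Loc5.J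
      rw [r_s]; exact Loc5.s_mem
    · exact r_j
  have h2 : Loc5.J.map (MulAut.conj r).toMonoidHom = Loc5.J := by
    apply Subgroup.eq_of_le_of_card_ge h1
    rw [Subgroup.card_map_of_injective (MulAut.conj r).injective]
  have h3 : y ∈ Loc5.J.map (MulAut.conj r).toMonoidHom := by rw [h2]; exact hy
  obtain ⟨z, hz, h4⟩ := h3
  have h5 : r * z * r⁻¹ = y := h4
  have e1 : r⁻¹ * y * r = z := by rw [← h5]; group
  rw [e1]; exact hz

theorem r_f : r * f * r⁻¹ = f ^ 2 := by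
  rw [r_mul_f, mul_inv_cancel_right, pow_two]

theorem rinv_f : r⁻¹ * f * r = f ^ 3 := by
  have h1 : r * f ^ 3 * r⁻¹ = f := by
    rw [← conj_pow, r_f, ← pow_mul]
    have : f ^ (2 * 3) = f ^ 5 * f := by rw [← pow_succ]
    rw [this, f_pow, one_mul]
  calc r⁻¹ * f * r = r⁻¹ * (r * f ^ 3 * r⁻¹) * r := by rw [h1]
    _ = f ^ 3 := by group

theorem rinv_fpow (b : ℕ) : f ^ b * r = r * f ^ (3 * b) := by
  have h : r⁻¹ * f ^ b * r = (r⁻¹ * f * r) ^ b := by
    have e1 : r⁻¹ * f * r = r⁻¹ * f * (r⁻¹)⁻¹ := by rw [inv_inv]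
    rw [e1, conj_pow, inv_inv]
  rw [rinv_f, ← pow_mul] at h
  rw [← h]; group

/-- the square roots -/
theorem v_form {v Y : 𝒢} {a : ℕ} (hv : v * f * v⁻¹ = f ^ 2) (hY : Y ∈ Loc5.J)
    (hvv : v * v = f ^ a * (R * Y) * (f ^ a)⁻¹) :
    ∃ y ∈ Loc5.J, v = f ^ a * (r * y) * (f ^ a)⁻¹ ∧ r * y * (r * y) = R * Y := by
  set w := (f ^ a)⁻¹ * v * f ^ a with hw
  have hw2 : w * w = R * Y := by
    have e1 : w * w = (f ^ a)⁻¹ * (v * v) * f ^ a := by rw [hw]; group
    rw [e1, hvv]; group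
  have hwf : w * f * w⁻¹ = f ^ 2 := by
    have e1 : w * f * w⁻¹ = (f ^ a)⁻¹ * (v * f * v⁻¹) * f ^ a := by
      rw [hw]
      have e2 : f ^ a * f * (f ^ a)⁻¹ = f := by rw [← pow_succ, pow_succ']; group
      calc (f ^ a)⁻¹ * v * f ^ a * f * ((f ^ a)⁻¹ * v * f ^ a)⁻¹
          = (f ^ a)⁻¹ * v * (f ^ a * f * (f ^ a)⁻¹) * v⁻¹ * f ^ a := by group
        _ = (f ^ a)⁻¹ * (v * f * v⁻¹) * f ^ a := by rw [e2]; group
    rw [e1, hv]
    have e3 : (f ^ a)⁻¹ * f ^ 2 * f ^ a = (f ^ a)⁻¹ * (f ^ 2 * f ^ a) := by group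
    rw [e3, ← pow_add, add_comm, pow_add]; group
  have h1 : (r⁻¹ * w) * f = f * (r⁻¹ * w) := by
    have e1 : r⁻¹ * w * f = r⁻¹ * (w * f * w⁻¹) * w := by group
    have e2 : r⁻¹ * f ^ 2 = f * r⁻¹ := by
      rw [← r_f]; group
    rw [e1, hwf, e2, mul_assoc]
  obtain ⟨b, hb, y, hy, h2⟩ := cent_f h1
  have h3 : w = r * (f ^ b * y) := by rw [← h2]; group
  have hy' := r_norm hy
  have h4 : w * w = R * (f ^ (4 * b) * (r⁻¹ * y * r * y)) := by
    have e1 : w * w = r * f ^ b * r * (r⁻¹ * y * r * f ^ b) * y := by rw [h3]; group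
    rw [e1, J_fpow hy', mul_assoc r (f ^ b) r, rinv_fpow, R_eq]
    have e2 : f ^ (4 * b) = f ^ (3 * b) * f ^ b := by rw [← pow_add]; congr 1; ring
    rw [e2]; group
  rw [hw2] at h4
  have h5 : f ^ (4 * b) ∈ Loc5.J := by
    have h6 : Y = f ^ (4 * b) * (r⁻¹ * y * r * y) := mul_left_cancel h4
    have h7 : f ^ (4 * b) = Y * (r⁻¹ * y * r * y)⁻¹ := by rw [h6, mul_inv_cancel_right]
    rw [h7]
    exact Subgroup.mul_mem _ hY (Subgroup.inv_mem _ (Subgroup.mul_mem _ hy' hy))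
  have h6 := f_pow_eq_one h5
  have h7 : b = 0 := by omega
  subst h7
  rw [pow_zero, one_mul] at h3
  refine ⟨y, hy, ?_, by rw [← h3, hw2]⟩
  rw [← h3, hw]; group

/-! ### The list -/

theorem d1 (y : 𝒢) (L : List 𝒢) (i : ℕ) : getG (y :: L) (i + 1) = getG L i := rfl

theorem W5 : getG (EY ws2) 5 = (f ^ 2)⁻¹ * uA * f ^ 2 := by
  have h := EY_at' ws2 0 [33, 33, 33, 18, 33, 33] 5 (by decide) (by decide) (by decide)
  simp only [evG_cons, evG_nil, mul_one] at h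
  rw [inv2, ← e_f]
  simpa only [pow_succ, pow_zero, one_mul, mul_assoc] using h

theorem W4 : getG (EY ws2) 4 = (f ^ 3)⁻¹ * uB * f ^ 3 := by
  have h := EY_at' ws2 1 [33, 33, 21, 33, 33, 33] 4 (by decide) (by decide) (by decide)
  simp only [evG_cons, evG_nil, mul_one] at h
  rw [inv3, ← e_f]
  simpa only [pow_succ, pow_zero, one_mul, mul_assoc] using h

theorem W3 : getG (EY ws2) 3 = (f ^ 1)⁻¹ * uB * f ^ 1 := by
  have h := EY_at' ws2 2 [33, 33, 33, 33, 21, 33] 3 (by decide) (by decide) (by decide)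
  simp only [evG_cons, evG_nil, mul_one] at h
  rw [inv1, ← e_f]
  simpa only [pow_succ, pow_zero, one_mul, mul_assoc] using h

theorem W2 : getG (EY ws2) 2 = R * e 12 := by
  have h := EY_at' ws2 3 [17, 12] 2 (by decide) (by decide) (by decide)
  simpa only [evG_cons, evG_nil, mul_one] using h

theorem W1 : getG (EY ws2) 1 = R * e 10 := by
  have h := EY_at' ws2 4 [17, 10] 1 (by decide) (by decide) (by decide)
  simpa only [evG_cons, evG_nil, mul_one] using h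

theorem W0 : getG (EY ws2) 0 = R * e 8 := by
  have h := EY_at' ws2 5 [17, 8] 0 (by decide) (by decide) (by decide)
  simpa only [evG_cons, evG_nil, mul_one] using h

theorem p7 (a : 𝒢) : a * (a * (a * (a * (a * (a * a))))) = a ^ 7 := by
  simp only [pow_succ, pow_zero, one_mul, mul_assoc]

theorem p8 (a : 𝒢) : a * a ^ 7 = a ^ 8 := (pow_succ' a 7).symm

theorem E38 : getG (EY ws2) 38 = r := (EY_shift ws2 32).trans e_r
theorem E23 : getG (EY ws2) 23 = R := EY_shift ws2 17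
theorem E7 : getG (EY ws2) 7 = e 1 := EY_shift ws2 1

theorem list2 {y : 𝒢} (hy : y ∈ Loc5.J) :
    (¬ r * y * (r * y) = R ∨ ¬ ((f ^ 2)⁻¹ * uA * f ^ 2 * (r * y)) ^ 7 = 1 ∧
      ¬ ((f ^ 2)⁻¹ * uA * f ^ 2 * (r * y)) ^ 8 = 1) ∧
    (¬ r * y * (r * y) = R * e 12 ∨ r * y ∈ MB ∨ ¬ ((f ^ 3)⁻¹ * uB * f ^ 3 * (r * y)) ^ 7 = 1 ∧
      ¬ ((f ^ 3)⁻¹ * uB * f ^ 3 * (r * y)) ^ 8 = 1) ∧
    (¬ r * y * (r * y) = R * e 10 ∨ r * y ∈ MB ∨ y = e 1 ∨ ¬ ((f ^ 3)⁻¹ * uB * f ^ 3 * (r * y)) ^ 7 = 1 ∧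
      ¬ ((f ^ 3)⁻¹ * uB * f ^ 3 * (r * y)) ^ 8 = 1) ∧
    (¬ r * y * (r * y) = R * e 8 ∨ r * y ∈ MB ∨ ¬ ((f ^ 1)⁻¹ * uB * f ^ 1 * (r * y)) ^ 7 = 1 ∧
      ¬ ((f ^ 1)⁻¹ * uB * f ^ 1 * (r * y)) ^ 8 = 1) := by
  have h := check2 y hy
  simp only [fm2, n78, Mean, evG_cons, evG_nil, mul_one, ne_eq, d1, c0, p7, p8, E38, E23, E7] at h
  rw [W0, W1, W2, W3, W4, W5] at h
  exact h

/-! ### Conclusions -/

theorem Y1_mem : e 12 ∈ Loc5.J := by
  have h := const_all.2.2.2.2.2.2.1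
  rw [e_j, e_s] at h
  rw [h]
  have hs := Loc5.s_mem
  have hj := Loc5.j_mem
  exact mul_mem hj (mul_mem hs (mul_mem hs (mul_mem hj (mul_mem hs (mul_mem hj hj)))))

theorem Y3_mem : e 10 ∈ Loc5.J := by
  have h := const_all.2.2.2.2.2.2.2.1
  rw [e_j, e_s] at h
  rw [h]
  have hs := Loc5.s_mem
  have hj := Loc5.j_mem
  exact mul_mem hs (mul_mem hs (mul_mem hs (mul_mem hs (mul_mem hj (mul_mem hs (mul_mem hs (mul_mem hs (mul_mem hs hj))))))))

theorem Y5_mem : e 8 ∈ Loc5.J := by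
  have h := const_all.2.2.2.2.2.2.2.2.1
  rw [e_j, e_s] at h
  rw [h]
  have hs := Loc5.s_mem
  have hj := Loc5.j_mem
  exact mul_mem hj (mul_mem hs (mul_mem hj (mul_mem hs (mul_mem hj (mul_mem hj (mul_mem hs (mul_mem hs (mul_mem hs hj))))))))

theorem npow {U w : 𝒢} {a n : ℕ} (h : ¬ ((f ^ a)⁻¹ * U * f ^ a * w) ^ n = 1) :
    (U * (f ^ a * w * (f ^ a)⁻¹)) ^ n ≠ 1 := by
  intro h1
  apply h
  have e1 : (f ^ a)⁻¹ * U * f ^ a * w = (f ^ a)⁻¹ * (U * (f ^ a * w * (f ^ a)⁻¹)) * ((f ^ a)⁻¹)⁻¹ := by group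
  rw [e1, conj_pow, h1]
  group

theorem conj_MB {w : 𝒢} (a : ℕ) (h : w ∈ MB) : f ^ a * w * (f ^ a)⁻¹ ∈ MB :=
  Subgroup.mul_mem _ (Subgroup.mul_mem _ (Subgroup.pow_mem _ f_MB a) h) (Subgroup.inv_mem _ (Subgroup.pow_mem _ f_MB a))

theorem vA {v : 𝒢} (hv : v * f * v⁻¹ = f ^ 2) (h : v * v = e 7) : (uA * v) ^ 7 ≠ 1 ∧ (uA * v) ^ 8 ≠ 1 := by
  obtain ⟨y, hy, rfl, h2⟩ := v_form hv (Subgroup.one_mem _) (h.trans T0_eq)
  rcases (list2 hy).1 with h3 | h3
  · exact absurd (by rw [h2, mul_one]) h3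
  · exact ⟨npow h3.1, npow h3.2⟩

theorem v1 {v : 𝒢} (hv : v * f * v⁻¹ = f ^ 2) (h : v * v = e 6) : v ∈ MB ∨ ((uB * v) ^ 7 ≠ 1 ∧ (uB * v) ^ 8 ≠ 1) := by
  obtain ⟨y, hy, rfl, h2⟩ := v_form hv Y1_mem (h.trans T1_eq)
  rcases (list2 hy).2.1 with h3 | h3 | h3
  · exact absurd h2 h3
  · exact Or.inl (conj_MB 3 h3)
  · exact Or.inr ⟨npow h3.1, npow h3.2⟩

theorem VS_eq : e 0 = f ^ 3 * (r * e 1) * (f ^ 3)⁻¹ := by
  have h := eqY (p := ([0], [33, 33, 33, 32, 1, 33, 33])) (by decide +kernel)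
  simp only [evG_cons, evG_nil, mul_one] at h
  rw [inv3, ← e_f, ← e_r]
  simpa only [pow_succ, pow_zero, one_mul, mul_one, mul_assoc] using h

theorem v3 {v : 𝒢} (hv : v * f * v⁻¹ = f ^ 2) (h : v * v = e 4) :
    v ∈ MB ∨ v = e 0 ∨ ((uB * v) ^ 7 ≠ 1 ∧ (uB * v) ^ 8 ≠ 1) := by
  obtain ⟨y, hy, rfl, h2⟩ := v_form hv Y3_mem (h.trans T3_eq)
  rcases (list2 hy).2.2.1 with h3 | h3 | h3 | h3
  · exact absurd h2 h3
  · exact Or.inl (conj_MB 3 h3)
  · right; left
    rw [h3, VS_eq]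
  · exact Or.inr (Or.inr ⟨npow h3.1, npow h3.2⟩)

theorem v5 {v : 𝒢} (hv : v * f * v⁻¹ = f ^ 2) (h : v * v = e 2) : v ∈ MB ∨ ((uB * v) ^ 7 ≠ 1 ∧ (uB * v) ^ 8 ≠ 1) := by
  obtain ⟨y, hy, rfl, h2⟩ := v_form hv Y5_mem (h.trans T5_eq)
  rcases (list2 hy).2.2.2 with h3 | h3 | h3
  · exact absurd h2 h3
  · exact Or.inl (conj_MB 1 h3)
  · exact Or.inr ⟨npow h3.1, npow h3.2⟩

theorem VS7 : (uB * e 0) ^ 7 = 1 := by
  have h := const_all.2.2.2.2.2.2.2.2.2.1
  simpa only [pow_succ, pow_zero, one_mul, mul_assoc] using h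

theorem VS8 : (uB * e 0) ^ 8 ≠ 1 := by
  rw [pow_succ, VS7, one_mul]
  exact const_all.2.2.2.2.2.2.2.2.2.2

end Cfsg.Agent.H831.JM.VList
end

-- part: H831/JM/XList
section
/-!
# Elements of order 2 and 3 of `J` (helper831): the check
-/

set_option autoImplicit false
set_option Elab.async false

open Cfsg

namespace Cfsg.Agent.H831.JM.XCheck

open Cfsg.Agent.H831.JM.FmJ Cfsg.Agent.H831.JM.EnvData

/-- no relation of length 11 -/
def n11 : Fm := .ne [0, 0, 0, 0, 0, 0, 0, 0, 0, 0, 0] []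

/-- the formula -/
def fm3 : Fm := .or (.eq [0] []) (.or (.and (.ne [0, 0] []) (.ne [0, 0, 0] []))
  (.and (.bind [19, 0] n11) (.or (.vec pB [0]) (.or (.bind [22, 0] n11)
    (.and (.ne [0, 13] [13, 0]) (.and (.ne [0, 11] [11, 0]) (.ne [0, 9] [9, 0])))))))


theorem check3 : ∀ x ∈ Cfsg.Agent.H858.Loc5.J, Mean fm3 (x :: EY []) :=
  all_JF (by decide +kernel)

end Cfsg.Agent.H831.JM.XCheck

/-!
# Elements of order 2 or 3 commuting with `f` (helper831)
-/


open Cfsg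

namespace Cfsg.Agent.H831.JM.XList

open Cfsg.Agent.Lib Cfsg.Agent.Lib.F2Mat Cfsg.Agent.Lib.F2MatGroup
open Cfsg.Agent.J4.Rep112
open Cfsg.Agent.H858 Cfsg.Agent.H858.VK Cfsg.Agent.H858.Data Cfsg.Agent.H858.Elem
open Cfsg.Agent.H831.JM.EnvData Cfsg.Agent.H831.JM.Env Cfsg.Agent.H831.JM.JList
open Cfsg.Agent.H831.JM.Pair Cfsg.Agent.H831.JM.Point Cfsg.Agent.H831.JM.FmJ Cfsg.Agent.H831.JM.Cent
open Cfsg.Agent.H831.JM.XCheck Cfsg.Agent.H831.JM.TList Cfsg.Agent.H831.JM.VList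

local notation "𝒢" => Cfsg.Spor.J4

theorem p11 (a : 𝒢) : a * (a * (a * (a * a ^ 7))) = a ^ 11 := by
  simp only [pow_succ, pow_zero, one_mul, mul_assoc]

theorem listX {y : 𝒢} (hy : y ∈ Loc5.J) :
    y = 1 ∨ (¬ y * y = 1 ∧ ¬ y * (y * y) = 1) ∨
    ¬ (uA * y) ^ 11 = 1 ∧ (y ∈ MB ∨ ¬ (uB * y) ^ 11 = 1 ∨
      ¬ y * e 12 = e 12 * y ∧ ¬ y * e 10 = e 10 * y ∧ ¬ y * e 8 = e 8 * y) := by
  have h := check3 y hy
  simp only [fm3, n11, Mean, evG_cons, evG_nil, mul_one, ne_eq, d1, c0, p7, p11] at h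
  exact h

/-- `x` commutes with `f` and with `f^a R Y f^-a` implies `x` commutes with `Y` -/
theorem comm_Y {x Y : 𝒢} {a : ℕ} (hx : x ∈ Loc5.J)
    (h : x * (f ^ a * (R * Y) * (f ^ a)⁻¹) = f ^ a * (R * Y) * (f ^ a)⁻¹ * x) : x * Y = Y * x := by
  have h1 : x * f ^ a = f ^ a * x := J_fpow hx a
  have h2 : R * x = x * R := R_J hx
  have h3 : (f ^ a)⁻¹ * x = x * (f ^ a)⁻¹ := by
    rw [inv_mul_eq_iff_eq_mul, ← mul_assoc, ← h1, mul_inv_cancel_right]
  have e1 : x * (f ^ a * (R * Y) * (f ^ a)⁻¹) = f ^ a * R * (x * Y) * (f ^ a)⁻¹ := by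
    calc x * (f ^ a * (R * Y) * (f ^ a)⁻¹) = x * f ^ a * R * Y * (f ^ a)⁻¹ := by group
      _ = f ^ a * (x * R) * Y * (f ^ a)⁻¹ := by rw [h1]; group
      _ = f ^ a * R * (x * Y) * (f ^ a)⁻¹ := by rw [← h2]; group
  have e2 : f ^ a * (R * Y) * (f ^ a)⁻¹ * x = f ^ a * R * (Y * x) * (f ^ a)⁻¹ := by
    rw [mul_assoc _ (f ^ a)⁻¹ x, h3]; group
  rw [e1, e2] at h
  exact mul_left_cancel (mul_right_cancel h)

/-- **elements of order 2 or 3 commuting with `f`** -/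
theorem x_list {x : 𝒢} (hf : x * f = f * x) (h1 : x ≠ 1) (h23 : x ^ 2 = 1 ∨ x ^ 3 = 1) :
    (uA * x) ^ 11 ≠ 1 ∧ ((uB * x) ^ 11 = 1 → (x * e 6 = e 6 * x ∨ x * e 4 = e 4 * x ∨ x * e 2 = e 2 * x) →
      x ∈ MB) := by
  have hJ : x ∈ Loc5.J := by
    rcases h23 with h | h
    · exact mem_J hf h (by norm_num)
    · exact mem_J hf h (by norm_num)
  rcases listX hJ with h | h | ⟨hA, h⟩
  · exact absurd h h1
  · exfalso
    rcases h23 with h2 | h2
    · exact h.1 (by rw [← h2, pow_two])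
    · exact h.2 (by rw [← h2, pow_three])
  · refine ⟨hA, fun hB ht => ?_⟩
    rcases h with h | h | ⟨k1, k3, k5⟩
    · exact h
    · exact absurd hB h
    · exfalso
      rw [T1_eq, T3_eq, T5_eq] at ht
      rcases ht with ht | ht | ht
      · exact k1 (comm_Y hJ ht)
      · exact k3 (comm_Y hJ ht)
      · exact k5 (comm_Y hJ ht)

end Cfsg.Agent.H831.JM.XList
end

-- part: H831/JM/Excl
section
/-!
# Simple groups containing `11 : 5` and an involution inverting the element of order 5 (helper831)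
-/

set_option autoImplicit false

open Cfsg

namespace Cfsg.Agent.H831.JM.Ex

open Cfsg.Agent.Lib Cfsg.Agent.Lib.F2Mat Cfsg.Agent.Lib.F2MatGroup
open Cfsg.Agent.J4.Rep112
open Cfsg.Agent.H858 Cfsg.Agent.H858.VK Cfsg.Agent.H858.Data Cfsg.Agent.H858.Elem
open Cfsg.Agent.H831.JM.EnvData Cfsg.Agent.H831.JM.Env Cfsg.Agent.H831.JM.JList
open Cfsg.Agent.H831.JM.Pair Cfsg.Agent.H831.JM.Point Cfsg.Agent.H831.JM.FmJ Cfsg.Agent.H831.JM.Cent
open Cfsg.Agent.H831.JM.TList Cfsg.Agent.H831.JM.VList Cfsg.Agent.H831.JM.XList Cfsg.Agent.H831.JM.NoIn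
open Cfsg.Agent.H860.JM (NL cj cj_cj mem_cj cj_eq_iff centralizer_cj normalizer_cj)

local notation "𝒢" => Cfsg.Spor.J4

theorem cj_le {g : 𝒢} {A B : Subgroup 𝒢} (h : A ≤ B) : cj g A ≤ cj g B := by
  intro x hx
  rw [mem_cj] at hx ⊢
  exact h hx

theorem cj_inv (g : 𝒢) (A : Subgroup 𝒢) : cj g⁻¹ (cj g A) = A := by
  rw [cj_cj, inv_mul_cancel, cj_eq_iff]
  exact Subgroup.one_mem _

theorem cj_inv' (g : 𝒢) (A : Subgroup 𝒢) : cj g (cj g⁻¹ A) = A := by
  rw [cj_cj, mul_inv_cancel, cj_eq_iff]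
  exact Subgroup.one_mem _

theorem cj_top (g : 𝒢) : cj g (⊤ : Subgroup 𝒢) = ⊤ := by
  rw [eq_top_iff]
  intro x _
  rw [mem_cj]
  exact Subgroup.mem_top _

theorem cj_bot (g : 𝒢) : cj g (⊥ : Subgroup 𝒢) = ⊥ := Subgroup.map_bot _

theorem NL_cj {M S : Subgroup 𝒢} (g : 𝒢) (h : NL M S) : NL (cj g M) (cj g S) := by
  have e : S ≃* (cj g S : Subgroup 𝒢) := S.equivMapOfInjective _ (MulAut.conj g).injective
  refine ⟨⟨?_, ?_⟩, cj_le h.le, ?_, ?_, ?_, ?_⟩
  · intro h1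
    apply h.coatom.1
    rw [← cj_inv g M, h1, cj_top]
  · intro B hB
    have h1 : M < cj g⁻¹ B := by
      refine lt_of_le_of_ne ?_ ?_
      · rw [← cj_inv g M]; exact cj_le hB.le
      · intro h2
        apply hB.ne
        rw [h2, cj_inv']
    have h2 := h.coatom.2 _ h1
    rw [← cj_inv' g B, h2, cj_top]
  · rw [normalizer_cj]; exact cj_le h.norm
  · have := h.simple
    exact (MulEquiv.isSimpleGroup e.symm)
  · intro h1
    apply h.nab
    exact ⟨⟨fun a b => e.injective (by rw [map_mul, map_mul]; exact h1.is_comm.comm _ _)⟩⟩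
  · rw [centralizer_cj, h.cent, cj_bot]

/-- as `Tup`, with orders 7 or 8 allowed -/
structure TupW {X : Type*} [Group X] (u f t : X) (vs xs : Set X) : Prop where
  u11 : u ^ 11 = 1
  u1 : u ≠ 1
  f5 : f ^ 5 = 1
  fu : f * u * f⁻¹ = u ^ 3
  t2 : t * t = 1
  tf : t * f * t⁻¹ = f⁻¹
  ut : (u * t) ^ 3 = 1
  hv : ∀ v ∈ vs, v * f * v⁻¹ = f ^ 2 ∧ v * v = t ∧ ((u * v) ^ 7 = 1 ∨ (u * v) ^ 8 = 1)
  hx : ∀ x ∈ xs, x * f = f * x ∧ x * t = t * x ∧ x ≠ 1 ∧ (x ^ 2 = 1 ∨ x ^ 3 = 1) ∧ (u * x) ^ 11 = 1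
  gen : Subgroup.closure ({u, f, t} ∪ vs ∪ xs) = ⊤

theorem yA_f : yA * f = f * yA := by
  have h := eqY (p := ([13, 33], [33, 13])) (by decide +kernel)
  simp only [evG_cons, evG_nil, mul_one] at h
  rw [← e_f]
  exact h

theorem yA_R : yA * R = R * yA := by
  have h := eqY (p := ([13, 17], [17, 13])) (by decide +kernel)
  simpa only [evG_cons, evG_nil, mul_one] using h

theorem yA_T : yA * e 7 = e 7 * yA := by
  have h1 : yA * f ^ 2 = f ^ 2 * yA := (show Commute yA f from yA_f).pow_right 2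
  have h3 : (f ^ 2)⁻¹ * yA = yA * (f ^ 2)⁻¹ := by
    rw [inv_mul_eq_iff_eq_mul, ← mul_assoc, ← h1, mul_inv_cancel_right]
  rw [T0_eq, mul_one]
  calc yA * (f ^ 2 * R * (f ^ 2)⁻¹) = yA * f ^ 2 * R * (f ^ 2)⁻¹ := by group
    _ = f ^ 2 * (yA * R) * (f ^ 2)⁻¹ := by rw [h1]; group
    _ = f ^ 2 * R * (yA * (f ^ 2)⁻¹) := by rw [yA_R]; group
    _ = f ^ 2 * R * (f ^ 2)⁻¹ * yA := by rw [← h3]; group

/-- **the dichotomy** -/
theorem dich {X : Type*} [Group X] {u₀ f₀ t₀ : X} {vs xs : Set X} (h : TupW u₀ f₀ t₀ vs xs)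
    {M S : Subgroup 𝒢} (hM : NL M S) (φ : X →* 𝒢) (hφ : Function.Injective φ) (hS : φ.range = S) :
    ∃ g : 𝒢, g * φ u₀ * g⁻¹ = uB ∧ g * φ f₀ * g⁻¹ = f ∧ ∃ v ∈ vs, g * φ v * g⁻¹ = e 0 := by
  obtain ⟨g, hg, hc⟩ := triple (u' := φ u₀) (f' := φ f₀) (t' := φ t₀)
    (by rw [← map_pow, h.u11, map_one]) (fun h1 => h.u1 (hφ (by rw [h1, map_one])))
    (by rw [← map_pow, h.f5, map_one])
    (by rw [← map_mul, ← map_inv, ← map_mul, h.fu, map_pow])
    (by rw [← map_mul, h.t2, map_one])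
    (by rw [← map_mul, ← map_inv, ← map_mul, h.tf, map_inv])
    (by rw [← map_mul, ← map_pow, h.ut, map_one])
  let ψ : X →* 𝒢 := (MulAut.conj g).toMonoidHom.comp φ
  have hψ : ∀ x, ψ x = g * φ x * g⁻¹ := fun x => rfl
  have hinj : Function.Injective ψ := (MulAut.conj g).injective.comp hφ
  have hN := NL_cj g hM
  have hr : ψ.range = cj g S := by
    rw [← hS]
    exact MonoidHom.range_comp _ _
  have hgen : ∀ K : Subgroup 𝒢, (∀ x ∈ ({u₀, f₀, t₀} ∪ vs ∪ xs : Set X), ψ x ∈ K) → cj g S ≤ K := by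
    intro K hK
    rw [← hr, MonoidHom.range_eq_map, ← h.gen, MonoidHom.map_closure, Subgroup.closure_le]
    rintro _ ⟨x, hx, rfl⟩
    exact hK x hx
  have kv : ∀ v ∈ vs, ψ v * f * (ψ v)⁻¹ = f ^ 2 ∧ ψ v * ψ v = ψ t₀ ∧ ((ψ u₀ * ψ v) ^ 7 = 1 ∨ (ψ u₀ * ψ v) ^ 8 = 1) := by
    intro v hv
    obtain ⟨k1, k2, k3⟩ := h.hv v hv
    refine ⟨?_, ?_, ?_⟩
    · rw [← hg, ← hψ, ← map_mul, ← map_inv, ← map_mul, k1, map_pow]
    · rw [← map_mul, k2]
    · rcases k3 with k3 | k3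
      · left; rw [← map_mul, ← map_pow, k3, map_one]
      · right; rw [← map_mul, ← map_pow, k3, map_one]
  have kx : ∀ x ∈ xs, ψ x * f = f * ψ x ∧ ψ x * ψ t₀ = ψ t₀ * ψ x ∧ ψ x ≠ 1 ∧ (ψ x ^ 2 = 1 ∨ ψ x ^ 3 = 1) ∧
      (ψ u₀ * ψ x) ^ 11 = 1 := by
    intro x hx
    obtain ⟨k1, k2, k3, k4, k5⟩ := h.hx x hx
    refine ⟨?_, ?_, ?_, ?_, ?_⟩
    · rw [← hg, ← hψ, ← map_mul, ← map_mul, k1]
    · rw [← map_mul, ← map_mul, k2]
    · exact fun h1 => k3 (hinj (by rw [h1, map_one]))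
    · rcases k4 with k4 | k4
      · left; rw [← map_pow, k4, map_one]
      · right; rw [← map_pow, k4, map_one]
    · rw [← map_mul, ← map_pow, k5, map_one]
  rcases hc with ⟨hu, ht⟩ | ⟨hu, ht⟩
  · exfalso
    have h1 : cj g S ≤ Subgroup.centralizer {yA} := by
      apply hgen
      rintro x (((rfl | rfl | rfl) | hx) | hx)
      · rw [hψ, hu]; exact Subgroup.mem_centralizer_singleton_iff.2 yA_uA.symm
      · rw [hψ, hg]; exact Subgroup.mem_centralizer_singleton_iff.2 yA_f.symm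
      · rw [hψ, ht]; exact Subgroup.mem_centralizer_singleton_iff.2 yA_T.symm
      · exfalso
        obtain ⟨k1, k2, k3⟩ := kv x hx
        rw [hψ t₀, ht] at k2
        obtain ⟨n7, n8⟩ := vA k1 k2
        rw [hψ u₀, hu] at k3
        rcases k3 with k3 | k3
        · exact n7 k3
        · exact n8 k3
      · exfalso
        obtain ⟨k1, k2, k3, k4, k5⟩ := kx x hx
        rw [hψ u₀, hu] at k5
        exact (x_list k1 k3 k4).1 k5
    have h2 : yA ∈ Subgroup.centralizer (cj g S : Set 𝒢) := by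
      rw [Subgroup.mem_centralizer_iff]
      intro y hy
      exact Subgroup.mem_centralizer_singleton_iff.1 (h1 hy)
    rw [hN.cent, Subgroup.mem_bot] at h2
    exact yA_ne h2
  · refine ⟨g, hu, hg, ?_⟩
    by_contra hne
    push Not at hne
    have htB : ψ t₀ ∈ MB := by
      rw [hψ]
      rcases ht with ht | ht | ht
      · rw [ht]; exact const_all.2.2.1
      · rw [ht]; exact const_all.2.2.2.1
      · rw [ht]; exact const_all.2.2.2.2.1
    have h1 : cj g S ≤ MB := by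
      apply hgen
      rintro x (((rfl | rfl | rfl) | hx) | hx)
      · rw [hψ, hu]; exact uB_MB
      · rw [hψ, hg]; exact f_MB
      · exact htB
      · obtain ⟨k1, k2, k3⟩ := kv x hx
        have hne' : ψ x ≠ e 0 := hne x hx
        rw [hψ t₀] at k2
        rw [hψ u₀, hu] at k3
        rcases ht with ht | ht | ht
        · rw [ht] at k2
          rcases v1 k1 k2 with k | ⟨n7, n8⟩
          · exact k
          · exact absurd k3 (by (clear * - n7 n8; tauto))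
        · rw [ht] at k2
          rcases v3 k1 k2 with k | k | ⟨n7, n8⟩
          · exact k
          · exact absurd k hne'
          · exact absurd k3 (by (clear * - n7 n8; tauto))
        · rw [ht] at k2
          rcases v5 k1 k2 with k | ⟨n7, n8⟩
          · exact k
          · exact absurd k3 (by (clear * - n7 n8; tauto))
      · obtain ⟨k1, k2, k3, k4, k5⟩ := kx x hx
        rw [hψ u₀, hu] at k5
        rw [hψ t₀] at k2
        refine (x_list k1 k3 k4).2 k5 ?_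
        rcases ht with ht | ht | ht
        · left; rw [← ht]; exact k2
        · right; left; rw [← ht]; exact k2
        · right; right; rw [← ht]; exact k2
    refine no_in_MB hN ?_ ?_ h1
    · rw [← hu, ← hψ, ← hr]; exact ⟨u₀, rfl⟩
    · rw [← hg, ← hψ, ← hr]; exact ⟨f₀, rfl⟩

end Cfsg.Agent.H831.JM.Ex

namespace Cfsg.Agent.H831.JM

open Cfsg.Agent.H831.JM.Ex

/-- **exclusion of groups with such a system of generators** -/
theorem excl_of_tup {X : Type} [Group X] {u f t : X} {vs xs : Set X} (h : Tup u f t vs xs) :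
    Cfsg.Agent.H860.JM.Excl X := by
  rintro M S hM ⟨e⟩
  have hw : TupW u f t vs xs := ⟨h.u11, h.u1, h.f5, h.fu, h.t2, h.tf, h.ut,
    fun v hv => ⟨(h.hv v hv).1, (h.hv v hv).2.1, Or.inr (h.hv v hv).2.2⟩, h.hx, h.gen⟩
  obtain ⟨g, hu, hf, v, hv, hgv⟩ := dich hw hM (S.subtype.comp e.symm.toMonoidHom)
    (S.subtype_injective.comp e.symm.injective) (by
      rw [MonoidHom.range_comp, MonoidHom.range_eq_top_of_surjective _ e.symm.surjective, ← MonoidHom.range_eq_map,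
        Subgroup.range_subtype])
  have h8 := (h.hv v hv).2.2
  apply VList.VS8
  rw [← hu, ← hgv]
  have e1 : g * (S.subtype.comp e.symm.toMonoidHom) u * g⁻¹ * (g * (S.subtype.comp e.symm.toMonoidHom) v * g⁻¹) =
      g * (S.subtype.comp e.symm.toMonoidHom) (u * v) * g⁻¹ := by rw [map_mul]; group
  rw [e1, conj_pow, ← map_pow, h8, map_one]
  group

end Cfsg.Agent.H831.JM
end

-- part: H763/JM/PslChar
section
/-!
# The Borel subgroup and the Weyl element of `PSL₂(K)` in characteristic 2 (helper763)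
-/

set_option autoImplicit false

namespace Cfsg.Agent.H763.JM.PslChar

open Matrix Subgroup Cfsg.Agent.H911.SLTwo

variable {K : Type*} [Field K]

/-- the unipotent matrices and the matrix `ww` generate -/
theorem gen {S : Subgroup (_root_.Matrix.SpecialLinearGroup (Fin 2) K)} (hU : ∀ x : K, U x ∈ S)
    (hw : (ww : _root_.Matrix.SpecialLinearGroup (Fin 2) K) ∈ S) : S = ⊤ := by
  have hLo : ∀ x : K, Lo x ∈ S := by
    intro x
    have h1 : Lo x = ww⁻¹ * U (-x) * ww := by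
      apply ext' <;> simp only [m00, m01, m10, m11, i00, i01, i10, i11, U00, U01, U10, U11, Lo00, Lo01, Lo10, Lo11,
        ww00, ww01, ww10, ww11] <;> ring
    rw [h1]
    exact mul_mem (mul_mem (inv_mem hw) (hU _)) hw
  have key : ∀ g : _root_.Matrix.SpecialLinearGroup (Fin 2) K, g.1 1 0 ≠ 0 → g ∈ S := by
    intro g hg
    have hdet := det_eq g
    have h1 : g = U ((g.1 0 0 - 1) / g.1 1 0) * Lo (g.1 1 0) * U ((g.1 1 1 - 1) / g.1 1 0) := by
      apply ext' <;> simp only [m00, m01, m10, m11, U00, U01, U10, U11, Lo00, Lo01, Lo10, Lo11]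
      · field_simp
        ring
      · field_simp
        linear_combination (-1 : K) * hdet
      · ring
      · field_simp
        ring
    rw [h1]
    exact mul_mem (mul_mem (hU _) (hLo _)) (hU _)
  rw [eq_top_iff]
  rintro g -
  by_cases h10 : g.1 1 0 = 0
  · have hdet := det_eq g
    have h11 : g.1 1 1 ≠ 0 := by
      intro h
      rw [h10, h, mul_zero, mul_zero, sub_zero] at hdet
      exact zero_ne_one hdet
    have h1 : g * Lo 1 ∈ S := by
      apply key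
      rw [m10, Lo00, Lo10, h10]
      simpa using h11
    have h2 := mul_mem h1 (inv_mem (hLo 1))
    rwa [mul_inv_cancel_right] at h2
  · exact key g h10

/-- the unipotent subgroup -/
def uh : Multiplicative K →* _root_.Matrix.SpecialLinearGroup (Fin 2) K where
  toFun x := U x.toAdd
  map_one' := U_zero
  map_mul' _ _ := (U_mul _ _).symm

theorem uh_injective : Function.Injective (uh : Multiplicative K →* _root_.Matrix.SpecialLinearGroup (Fin 2) K) := by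
  intro x y h
  have h1 : (U x.toAdd : _root_.Matrix.SpecialLinearGroup (Fin 2) K).1 0 1 = (U y.toAdd : _root_.Matrix.SpecialLinearGroup (Fin 2) K).1 0 1 :=
    congrArg (fun g : _root_.Matrix.SpecialLinearGroup (Fin 2) K => g.1 0 1) h
  rw [U01, U01] at h1
  exact h1

/-- the torus -/
def th : Kˣ →* _root_.Matrix.SpecialLinearGroup (Fin 2) K where
  toFun s := hh s
  map_one' := hh_one
  map_mul' s t := (hh_mul s t).symm

theorem th_injective : Function.Injective (th : Kˣ →* _root_.Matrix.SpecialLinearGroup (Fin 2) K) := by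
  intro x y h
  have h1 : (hh x : _root_.Matrix.SpecialLinearGroup (Fin 2) K).1 0 0 = (hh y : _root_.Matrix.SpecialLinearGroup (Fin 2) K).1 0 0 :=
    congrArg (fun g : _root_.Matrix.SpecialLinearGroup (Fin 2) K => g.1 0 0) h
  rw [hh00, hh00] at h1
  exact Units.ext h1

theorem th_norm : (th : Kˣ →* _root_.Matrix.SpecialLinearGroup (Fin 2) K).range ≤
    normalizer ((uh : Multiplicative K →* _root_.Matrix.SpecialLinearGroup (Fin 2) K).range : Set (_root_.Matrix.SpecialLinearGroup (Fin 2) K)) := by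
  have h0 : ∀ x : K, U x ∈ (uh : Multiplicative K →* _root_.Matrix.SpecialLinearGroup (Fin 2) K).range := fun x =>
    ⟨Multiplicative.ofAdd x, rfl⟩
  have h1 : ∀ (s : Kˣ), ∀ g ∈ (uh : Multiplicative K →* _root_.Matrix.SpecialLinearGroup (Fin 2) K).range,
      hh s * g * (hh s)⁻¹ ∈ (uh : Multiplicative K →* _root_.Matrix.SpecialLinearGroup (Fin 2) K).range := by
    rintro s g ⟨x, hx⟩
    have hg : g = U x.toAdd := hx.symm
    rw [hg, hU]
    exact h0 _
  rintro _ ⟨s, rfl⟩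
  change hh s ∈ _
  rw [mem_normalizer_iff]
  intro g
  refine ⟨h1 s g, fun h => ?_⟩
  have h2 := h1 s⁻¹ _ h
  rw [← hh_inv] at h2
  have h3 : (hh s)⁻¹ * (hh s * g * (hh s)⁻¹) * ((hh s)⁻¹)⁻¹ = g := by group
  rwa [h3] at h2

theorem sup_eq : (uh : Multiplicative K →* _root_.Matrix.SpecialLinearGroup (Fin 2) K).range ⊔
    (th : Kˣ →* _root_.Matrix.SpecialLinearGroup (Fin 2) K).range ⊔ zpowers (ww : _root_.Matrix.SpecialLinearGroup (Fin 2) K) = ⊤ := by
  apply gen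
  · intro x
    have h1 : U x ∈ (uh : Multiplicative K →* _root_.Matrix.SpecialLinearGroup (Fin 2) K).range := ⟨Multiplicative.ofAdd x, rfl⟩
    exact le_sup_left (a := _) (b := zpowers (ww : _root_.Matrix.SpecialLinearGroup (Fin 2) K))
      (le_sup_left (b := (th : Kˣ →* _root_.Matrix.SpecialLinearGroup (Fin 2) K).range) h1)
  · exact le_sup_right (a := (uh : Multiplicative K →* _root_.Matrix.SpecialLinearGroup (Fin 2) K).range ⊔
      (th : Kˣ →* _root_.Matrix.SpecialLinearGroup (Fin 2) K).range) (mem_zpowers _)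

theorem ww_ww (h2 : (2 : K) = 0) : (ww : _root_.Matrix.SpecialLinearGroup (Fin 2) K) * ww = 1 := by
  have h3 : (-1 : K) = 1 := by linear_combination -h2
  apply ext' <;> simp only [m00, m01, m10, m11, ww00, ww01, ww10, ww11, o00, o01, o10, o11, h3] <;> ring

/-- the projection is an isomorphism in characteristic 2 -/
theorem exists_equiv (h2 : (2 : K) = 0) :
    Nonempty (_root_.Matrix.SpecialLinearGroup (Fin 2) K ≃* ProjectiveSpecialLinearGroup (Fin 2) K) := by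
  refine ⟨MulEquiv.ofBijective (QuotientGroup.mk' _) ⟨?_, QuotientGroup.mk'_surjective _⟩⟩
  rw [injective_iff_map_eq_one]
  intro A hA
  rw [QuotientGroup.mk'_apply, QuotientGroup.eq_one_iff,
    Cfsg.Agent.ClassicalGeometry.PSL2Basic.mem_center_SL2_iff] at hA
  rcases hA with h | h
  · exact h
  · rw [h, Cfsg.Agent.ClassicalGeometry.PSL2Basic.neg_one_eq_one_SL2 h2]

/-- **the Borel subgroup and an involution inverting the torus, in a subgroup isomorphic to `L₂(32)`** -/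
theorem exists_data {G : Type*} [Group G] {S : Subgroup G} {F : Type*} [Field F] [Fintype F]
    (h : Fintype.card F = 32) (e : S ≃* ProjectiveSpecialLinearGroup (Fin 2) F) : Nat.card S = 32736 ∧
    ∃ (P T : Subgroup G) (w : G), Nat.card P = 31 ∧ Nat.card T = 32 ∧ P ≤ normalizer (T : Set G) ∧ w * w = 1 ∧
      (∀ p ∈ P, w * p * w⁻¹ = p⁻¹) ∧ T ⊔ P ⊔ zpowers w = S := by
  classical
  have heven : Even (Fintype.card F) := by rw [h]; decide
  have h2 : (2 : F) = 0 := by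
    by_contra h0
    exact (Nat.not_even_iff_odd.2
      ((Cfsg.Agent.ClassicalGeometry.PSL2Basic.two_ne_zero_iff_odd F).1 h0)) heven
  obtain ⟨e0⟩ := exists_equiv h2
  refine ⟨?_, ?_⟩
  · rw [Nat.card_congr e.toEquiv, Cfsg.Agent.ClassicalGeometry.PSL2Basic.card_PSL2_even F heven, h]
    norm_num
  let f : _root_.Matrix.SpecialLinearGroup (Fin 2) F ≃* S := e0.trans e.symm
  let g : _root_.Matrix.SpecialLinearGroup (Fin 2) F →* G := S.subtype.comp f.toMonoidHom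
  have hg : Function.Injective g := S.subtype_injective.comp f.injective
  have hr : g.range = S := by
    have h1 : g.range = (f.toMonoidHom.range).map S.subtype := (MonoidHom.map_range _ _).symm
    rw [h1, MonoidHom.range_eq_top.2 f.surjective, ← MonoidHom.range_eq_map, range_subtype]
  refine ⟨(th : Fˣ →* _root_.Matrix.SpecialLinearGroup (Fin 2) F).range.map g,
    (uh : Multiplicative F →* _root_.Matrix.SpecialLinearGroup (Fin 2) F).range.map g, g ww, ?_, ?_, ?_, ?_, ?_, ?_⟩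
  · rw [Subgroup.card_map_of_injective hg, ← Nat.card_congr (MonoidHom.ofInjective th_injective).toEquiv,
      Nat.card_eq_fintype_card, Fintype.card_units, h]
  · rw [Subgroup.card_map_of_injective hg, ← Nat.card_congr (MonoidHom.ofInjective uh_injective).toEquiv]
    rw [Nat.card_congr (Multiplicative.toAdd : Multiplicative F ≃ F), Nat.card_eq_fintype_card, h]
  · exact (Subgroup.map_mono th_norm).trans (Subgroup.le_normalizer_map g)
  · rw [← map_mul, ww_ww h2, map_one]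
  · rintro _ ⟨_, ⟨s, rfl⟩, rfl⟩
    rw [← map_mul, ← map_inv, ← map_mul, ← map_inv]
    congr 1
    change ww * hh s * ww⁻¹ = (hh s)⁻¹
    rw [wh, hh_inv]
  · rw [← Subgroup.map_sup, ← MonoidHom.map_zpowers, ← Subgroup.map_sup, sup_eq, ← MonoidHom.range_eq_map, hr]

end Cfsg.Agent.H763.JM.PslChar
end

-- part: H763/JM/L232
section
/-!
# S5580, Part III: one class of maximal subgroups of `J4` with socle `L₂(32)` (helper763)
-/

set_option autoImplicit false

namespace Cfsg.Agent.H763.JM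

open Subgroup Cfsg Cfsg.Agent.H860.JM
open Cfsg.Agent.H763.JM.L32Words

/-- the group `Spor.J4` -/
local notation "𝒢" => Cfsg.Spor.J4

/-- conjugacy of subgroups of order 31 in a subgroup -/
theorem exists_conj_in {N P P' : Subgroup 𝒢} (hN : P ≤ N) (hN' : P' ≤ N) (hP : Nat.card P = 31)
    (hP' : Nat.card P' = 31) : ∃ n ∈ N, cj n P = P' := by
  have := finite_J
  have h31 : Fact (Nat.Prime 31) := ⟨p31⟩
  have h1 : ¬ 31 * 31 ∣ Nat.card N := fun h =>
    Cfsg.Agent.H859.BigCent.sq_not_dvd (by simp) (h.trans (Subgroup.card_subgroup_dvd_card N))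
  obtain ⟨n, hn⟩ := Cfsg.Agent.H859.PrimeSub.exists_conj (P := P.subgroupOf N) (P' := P'.subgroupOf N)
    (by rw [Nat.card_congr (subgroupOfEquivOfLe hN).toEquiv, hP])
    (by rw [Nat.card_congr (subgroupOfEquivOfLe hN').toEquiv, hP']) h1
  refine ⟨n, n.2, ?_⟩
  ext x
  rw [mem_cj]
  constructor
  · intro hx
    have h2 : (⟨_, hN hx⟩ : N) ∈ P.subgroupOf N := hx
    have h3 := mem_map_of_mem (MulAut.conj n).toMonoidHom h2
    rw [hn, mem_subgroupOf] at h3
    have h4 : ((n : 𝒢) * ((n : 𝒢)⁻¹ * x * n) * (n : 𝒢)⁻¹) ∈ P' := h3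
    have h5 : (n : 𝒢) * ((n : 𝒢)⁻¹ * x * n) * (n : 𝒢)⁻¹ = x := by group
    rwa [h5] at h4
  · intro hx
    have h2 : (⟨x, hN' hx⟩ : N) ∈ P'.subgroupOf N := hx
    rw [← hn] at h2
    obtain ⟨y, hy, hyx⟩ := h2
    have h3 : (n : 𝒢) * y * (n : 𝒢)⁻¹ = x := congrArg Subtype.val hyx
    have h4 : (n : 𝒢)⁻¹ * x * n = y := by rw [← h3]; group
    rw [h4]
    exact hy

/-- `w` inverts `P` -/
theorem inverts_cj {P : Subgroup 𝒢} {w : 𝒢} (h : ∀ p ∈ P, w * p * w⁻¹ = p⁻¹) (g : 𝒢) :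
    ∀ p ∈ cj g P, (g * w * g⁻¹) * p * (g * w * g⁻¹)⁻¹ = p⁻¹ := by
  intro p hp
  have h1 := h _ (mem_cj.1 hp)
  calc (g * w * g⁻¹) * p * (g * w * g⁻¹)⁻¹ = g * (w * (g⁻¹ * p * g) * w⁻¹) * g⁻¹ := by group
    _ = p⁻¹ := by rw [h1]; group

theorem s_pow (m : ℕ) : s * f ^ m * s = (f ^ m)⁻¹ := by
  induction m with
  | zero => rw [pow_zero, mul_one, s_s, inv_one]
  | succ m ih =>
    calc s * f ^ (m + 1) * s = s * f ^ m * (s * s) * f * s := by rw [s_s, pow_succ]; group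
      _ = (s * f ^ m * s) * (s * f * s) := by group
      _ = (f ^ (m + 1))⁻¹ := by rw [ih, s_f, pow_succ']; group

/-- the involutions inverting `P₀` are conjugate under `P₀` -/
theorem exists_pow {w : 𝒢} (hw : ∀ p ∈ P0, w * p * w⁻¹ = p⁻¹) : ∃ j : ℕ, f ^ j * w * (f ^ j)⁻¹ = s := by
  classical
  have := finite_J
  have h1 : s * w ∈ centralizer ((P0 : Subgroup 𝒢) : Set 𝒢) := by
    rw [P0, Cfsg.Agent.H858.NormC.centralizer_zpowers, mem_centralizer_singleton_iff]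
    have h2 := hw f (mem_zpowers f)
    rw [mul_inv_eq_iff_eq_mul] at h2
    have h3 : s * f⁻¹ = f * s := by
      have h4 := s_f
      rw [← h4, ← mul_assoc, ← mul_assoc, s_s, one_mul]
    rw [mul_assoc, h2, ← mul_assoc, h3, mul_assoc]
  rw [cent31 card_P0, P0, mem_zpowers_iff_mem_range_orderOf, Finset.mem_image] at h1
  obtain ⟨k, -, hk⟩ := h1
  have h2 : w = s * f ^ k := by rw [hk, ← mul_assoc, s_s, one_mul]
  refine ⟨16 * k, ?_⟩
  have h3 : f ^ (16 * k) * s = s * (f ^ (16 * k))⁻¹ := by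
    rw [← s_pow, ← mul_assoc, ← mul_assoc, s_s, one_mul]
  have h4 : f ^ (16 * k) * f ^ (16 * k) = f ^ k := by
    rw [← pow_add, show 16 * k + 16 * k = 31 * k + k by ring, pow_add, pow_mul, f_pow, one_pow, one_mul]
  rw [h2, ← mul_assoc, h3, ← h4]
  group

/-- the subgroup `L₂(32)` -/
noncomputable def SW : Subgroup 𝒢 := Ag ⊔ P0 ⊔ zpowers s

theorem cj_sup (g : 𝒢) (A B : Subgroup 𝒢) : cj g (A ⊔ B) = cj g A ⊔ cj g B := Subgroup.map_sup _ _ _

theorem cj_zpowers (g w : 𝒢) : cj g (zpowers w) = zpowers (g * w * g⁻¹) :=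
  MonoidHom.map_zpowers (MulAut.conj g).toMonoidHom w

/-- **a subgroup `L₂(32)` is conjugate to `SW`** -/
theorem exists_std (hF : Facts geo) {S : Subgroup 𝒢} {F : Type} [Field F] [Fintype F]
    (h : Fintype.card F = 32) (e : S ≃* Matrix.ProjectiveSpecialLinearGroup (Fin 2) F) :
    ∃ g : 𝒢, cj g S = SW := by
  have := finite_J
  have := simple_J
  obtain ⟨hS, P, T, w, hP, hT, hPT, -, hwp, hsup⟩ := PslChar.exists_data h e
  have hT2 : IsPGroup 2 T := IsPGroup.of_card (n := 5) (by rw [hT]; norm_num)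
  have hT1 : T ≠ ⊥ := by
    rintro rfl
    rw [Subgroup.card_bot] at hT
    norm_num at hT
  obtain ⟨X, hX, hPX, hTX⟩ := exists_X hF hP hT2 hT1 hPT
  have hX0 := xc_X0 hF
  obtain ⟨g1, hg1⟩ := (Cfsg.Agent.S5570.result nonab isJ).2.1 X X0 hX.1 hX.2.1 hX.2.2 hX0.1 hX0.2.1 hX0.2.2
  have e1 : cj g1 X = X0 := hg1.symm
  have h1 : cj g1 P ≤ normalizer (X0 : Set 𝒢) := by
    rw [← e1, normalizer_cj]
    exact Subgroup.map_mono hPX
  obtain ⟨n, hn, hn2⟩ := exists_conj_in h1 (P0_le X0_norm) (by rw [card_cj, hP]) card_P0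
  rw [cj_cj] at hn2
  have e2 : cj (n * g1) X = X0 := by
    rw [← cj_cj, e1]
    exact cj_eq_iff.2 hn
  have h2 := inverts_cj hwp (n * g1)
  rw [hn2] at h2
  obtain ⟨j, hj⟩ := exists_pow h2
  set g := f ^ j * (n * g1) with hg
  have e3 : cj g X = X0 := by
    rw [hg, ← cj_cj, e2]
    exact cj_eq_iff.2 (pow_mem X0_norm j)
  have e4 : cj g P = P0 := by
    rw [hg, ← cj_cj, hn2]
    exact cj_eq_iff.2 (le_normalizer (pow_mem (mem_zpowers f) j))
  have e5 : g * w * g⁻¹ = s := by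
    rw [← hj, hg]; group
  have e6 : cj g T ≤ X0 := by
    rw [← e3]
    exact Subgroup.map_mono hTX
  have e7 : f ∈ normalizer (cj g T : Set 𝒢) := by
    have h3 : cj g P ≤ normalizer (cj g T : Set 𝒢) := by
      rw [normalizer_cj]
      exact Subgroup.map_mono hPT
    rw [e4] at h3
    exact h3 (mem_zpowers f)
  have e8 : cj g S = cj g T ⊔ P0 ⊔ zpowers s := by
    rw [← hsup, cj_sup, cj_sup, cj_zpowers, e4, e5]
  rcases eq_Ag_or_Ab e6 (by rw [card_cj, hT]) e7 with h3 | h3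
  · exact ⟨g, by rw [e8, h3, SW]⟩
  · exfalso
    have h4 : b0 * s * f ^ 2 ∈ cj g S := by
      rw [e8, h3]
      have hb : b0 ∈ Ab := by
        have := cf_mem_Ax (x := b0) (k := 0) (by norm_num)
        rwa [cf_zero] at this
      have k1 : b0 ∈ Ab ⊔ P0 ⊔ zpowers s := (le_sup_left : Ab ⊔ P0 ≤ _) ((le_sup_left : Ab ≤ _) hb)
      have k2 : f ∈ Ab ⊔ P0 ⊔ zpowers s := (le_sup_left : Ab ⊔ P0 ≤ _) ((le_sup_right : P0 ≤ _) (mem_zpowers f))
      have k3 : s ∈ Ab ⊔ P0 ⊔ zpowers s := (le_sup_right : zpowers s ≤ _) (mem_zpowers s)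
      exact mul_mem (mul_mem k1 k3) (pow_mem k2 2)
    have h5 := Cfsg.Agent.H858.NormC.orderOf_dvd_of_mem h4
    rw [order_z, card_cj, hS] at h5
    norm_num at h5

/-! ### maximal subgroups -/

theorem eq_normalizer' {M S : Subgroup 𝒢} (hN : NL M S) : M = normalizer (S : Set 𝒢) := by
  have := simple_J
  by_contra h
  have h1 : normalizer (S : Set 𝒢) = ⊤ := hN.coatom.2 _ (lt_of_le_of_ne hN.norm h)
  have h2 : S.Normal := normalizer_eq_top_iff.1 h1
  rcases h2.eq_bot_or_eq_top with h3 | h3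
  · apply hN.nab
    subst h3
    exact ⟨⟨fun a b => Subsingleton.elim _ _⟩⟩
  · exact hN.coatom.1 (top_le_iff.1 (h3 ▸ hN.le))

/-- **S5580, Part III, `L₂(32)`**: the maximal subgroups of `J4` with socle `L₂(32)` form one class -/
theorem one_L232 (hF : Facts geo) {F : Type} [Field F] [Fintype F] (h : Fintype.card F = 32) :
    OneCl (Matrix.ProjectiveSpecialLinearGroup (Fin 2) F) := by
  rintro M S M' S' hN hN' ⟨e⟩ ⟨e'⟩
  obtain ⟨g, hg⟩ := exists_std hF h e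
  obtain ⟨g', hg'⟩ := exists_std hF h e'
  refine ⟨g'⁻¹ * g, ?_⟩
  have h1 : S' = cj (g'⁻¹ * g) S := by
    rw [← cj_cj, hg, ← hg', cj_cj, inv_mul_cancel]
    exact (cj_eq_iff.2 (one_mem _)).symm
  rw [eq_normalizer' hN', eq_normalizer' hN, ← normalizer_cj, ← h1]

end Cfsg.Agent.H763.JM
end

private theorem dce_135d297f01cf : _root_.True := by
  try have : _root_.True := by simp only [_root_.Cfsg.Agent.H831.JM.TCheck.fm1.eq_1]
  try have : _root_.True := by simp only [_root_.Cfsg.Agent.H831.JM.FmJ.Mean.eq_4]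
  try have : _root_.True := by simp only [_root_.Cfsg.Agent.H831.JM.FmJ.Mean.eq_6]
  try have : _root_.True := by simp only [_root_.Cfsg.Agent.H763.JM.SW.eq_1]
  try have : _root_.True := by simp only [_root_.Cfsg.Agent.H831.JM.FmJ.Mean.eq_2]
  try have : _root_.True := by simp only [_root_.Cfsg.Agent.H831.JM.XCheck.n11.eq_1]
  try have : _root_.True := by simp only [_root_.Cfsg.Agent.H831.JM.VList.fm0.eq_1]
  try have : _root_.True := by simp only [_root_.Cfsg.Agent.H831.JM.VCheck.fm2.eq_1]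
  try have : _root_.True := by simp only [_root_.Cfsg.Agent.H831.JM.XCheck.fm3.eq_1]
  try have : _root_.True := by simp only [_root_.Cfsg.Agent.H831.JM.FmJ.Mean.eq_1]
  try have : _root_.True := by simp only [_root_.Cfsg.Agent.H831.JM.VCheck.n78.eq_1]
  try have : _root_.True := by simp only [_root_.Cfsg.Agent.H831.JM.FmJ.Mean.eq_def]
  try have : _root_.True := by simp only [_root_.Cfsg.Agent.H831.JM.FmJ.Mean.eq_5]
  try have : _root_.True := by simp only [_root_.Cfsg.Agent.H831.JM.FmJ.Mean.eq_3]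
  exact _root_.True.intro
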